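import Cfsg.Agent.SuzClosing.Comm

/-!
# Closing argument: construction of `Loc` from one involution
-/

set_option autoImplicit false

namespace Cfsg.Agent.SuzClosing

variable {V : Type*} [AddCommGroup V] [Module (ZMod 2) V] {H : Type*} [Group H]

namespace Pre

variable {q : V → ZMod 2} {B : LinearMap.BilinForm (ZMod 2) V} {z : H} {Q : Subgroup H} {vec : H → V}
  (h : Pre q B z Q vec)
include h

/-- conjugation of `Act` -/
theorem act_conj (hq : QF q B) {b : H} {v w : V} (ha : Act B Q vec b v w) (g : H) :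
    Act B Q vec (g * b * g⁻¹) (h.rho g v) (h.rho g w) := by
  intro x hx
  have hu : g⁻¹ * x * g⁻¹⁻¹ ∈ Q := h.norm g⁻¹ x hx
  obtain ⟨u, hu'⟩ : ∃ u, u = g⁻¹ * x * g⁻¹⁻¹ := ⟨_, rfl⟩
  rw [← hu'] at hu
  have hxu : x = g * u * g⁻¹ := by rw [hu']; group
  have e : g * b * g⁻¹ * x * (g * b * g⁻¹)⁻¹ = g * (b * u * b⁻¹) * g⁻¹ := by rw [hxu]; group
  rw [e, ← h.rho_vec g (h.norm b u hu), ha u hu, map_add, map_add, map_smul, map_smul, h.rho_vec g hu, ← hxu]
  have e1 : ∀ v, B (h.rho g v) (vec x) = B v (vec u) := by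
    intro v
    rw [hxu, ← h.rho_vec g hu, h.B_rho hq]
  rw [e1, e1]

theorem rho_inv_rho (g : H) (v : V) : h.rho g⁻¹ (h.rho g v) = v := by
  rw [← h.rho_mul, inv_mul_cancel]
  conv_lhs => rw [← h.vec_sec v, h.rho_vec _ (h.sec_mem v)]
  rw [one_mul, inv_one, mul_one, h.vec_sec]

/-- **The builder.** `H` is transitive on the pairs, `b₀` is an involution inducing `τ_{v₀} τ_{w₀}`, and the elements
`x` of `Q` with `vec x` orthogonal to `v₀, w₀` and `(b₀ x)² ≠ 1` form a coset of `⟨v₀, w₀⟩`. -/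
theorem build (hq : QF q B)
    (notr : ∀ g u, q u = 1 → ¬ ∀ x ∈ Q, vec (g * x * g⁻¹) = vec x + B u (vec x) • u) {v₀ w₀ : V} (hp : Pair q B v₀ w₀) {b₀ : H} (hb : b₀ * b₀ = 1)
    (ha : Act B Q vec b₀ v₀ w₀) (tr : ∀ v w, Pair q B v w → ∃ g : H, h.rho g v₀ = v ∧ h.rho g w₀ = w)
    {c₀ : V} (hvc : B v₀ c₀ = 0) (hwc : B w₀ c₀ = 0)
    (hcos : ∀ x ∈ Q, B v₀ (vec x) = 0 → B w₀ (vec x) = 0 →
      (b₀ * x * (b₀ * x) ≠ 1 ↔ vec x = c₀ ∨ vec x = c₀ + v₀ ∨ vec x = c₀ + w₀ ∨ vec x = c₀ + (v₀ + w₀)))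
    (four : ∃ r s, IsB q B Q vec r ∧ IsB q B Q vec s ∧ IsB q B Q vec (r * s) ∧ r * s = s * r) :
    Loc q B z Q vec := by
  have hv0 := hq.ne_zero_of_q hp.qv
  have hw0 := hq.ne_zero_of_q hp.qw
  -- reduction to `b₀ y`
  have red : ∀ b v w, b * b = 1 → Pair q B v w → Act B Q vec b v w → ∃ g y, y ∈ Q ∧ h.rho g v₀ = v ∧
      h.rho g w₀ = w ∧ b₀ * y * (b₀ * y) = 1 ∧ g⁻¹ * b * g = b₀ * y := by
    intro b v w hbb hpair hact
    obtain ⟨g, hgv, hgw⟩ := tr v w hpair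
    refine ⟨g, b₀⁻¹ * (g⁻¹ * b * g), ?_, hgv, hgw, ?_, ?_⟩
    · apply h.cent
      intro x hx
      have h1 := h.act_conj hq hact g⁻¹
      rw [← hgv, ← hgw, h.rho_inv_rho, h.rho_inv_rho, inv_inv] at h1
      have e : b₀⁻¹ * (g⁻¹ * b * g) * x * (b₀⁻¹ * (g⁻¹ * b * g))⁻¹ =
        b₀⁻¹ * (g⁻¹ * b * g * x * (g⁻¹ * b * g)⁻¹) * b₀⁻¹⁻¹ := by group
      rw [e, ← h.rho_vec _ (h.norm _ _ hx), h1 x hx, ← ha x hx, h.rho_vec _ (h.norm _ _ hx)]
      congr 1
      group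
    · have e : b₀ * (b₀⁻¹ * (g⁻¹ * b * g)) * (b₀ * (b₀⁻¹ * (g⁻¹ * b * g))) = g⁻¹ * (b * b) * g := by group
      rw [e, hbb]; group
    · group
  -- transport of elements
  have hB : ∀ g v x, x ∈ Q → B v (vec (g⁻¹ * x * g)) = B (h.rho g v) (vec x) := by
    intro g v x hx
    have h1 := h.B_rho hq g v (vec (g⁻¹ * x * g⁻¹⁻¹))
    rw [h.rho_vec g (h.norm _ _ hx)] at h1
    have e : g * (g⁻¹ * x * g⁻¹⁻¹) * g⁻¹ = x := by group
    rw [e, inv_inv] at h1
    exact h1.symm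
  have hrg : ∀ g x, x ∈ Q → h.rho g (vec (g⁻¹ * x * g)) = vec x := by
    intro g x hx
    have h1 := h.norm g⁻¹ x hx
    rw [inv_inv] at h1
    rw [h.rho_vec g h1]
    congr 1; group
  have hsq : ∀ (g b x : H), g⁻¹ * (b * x * (b * x)) * g = g⁻¹ * b * g * (g⁻¹ * x * g) * (g⁻¹ * b * g * (g⁻¹ * x * g)) := by
    intro g b x; group
  -- `vec y` orthogonal to `v₀, w₀`
  have hyo : ∀ y ∈ Q, b₀ * y * (b₀ * y) = 1 → B v₀ (vec y) = 0 ∧ B w₀ (vec y) = 0 := by
    intro y hy hyy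
    have h1 := (h.vec_sq hb ha hy).2
    rw [hyy, h.vone] at h1
    exact indep hv0 hw0 hp.ne h1.symm
  refine { h with notr := notr, lift := ?_, plus := ?_, ex := ?_, four := four }
  · intro v w hpair
    obtain ⟨g, rfl, rfl⟩ := tr v w hpair
    refine ⟨g * b₀ * g⁻¹, ?_, h.act_conj hq ha g⟩
    calc g * b₀ * g⁻¹ * (g * b₀ * g⁻¹) = g * (b₀ * b₀) * g⁻¹ := by group
      _ = 1 := by rw [hb]; group
  · intro b v w hbb hpair hact x hx y hy hvx hwx hvy hwy hbx hby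
    obtain ⟨g, t, ht, rfl, rfl, htt, hbt⟩ := red b v w hbb hpair hact
    obtain ⟨ht1, ht2⟩ := hyo t ht htt
    have key : ∀ x ∈ Q, B (h.rho g v₀) (vec x) = 0 → B (h.rho g w₀) (vec x) = 0 → b * x * (b * x) ≠ 1 →
        vec t + vec (g⁻¹ * x * g) = c₀ ∨ vec t + vec (g⁻¹ * x * g) = c₀ + v₀ ∨
        vec t + vec (g⁻¹ * x * g) = c₀ + w₀ ∨ vec t + vec (g⁻¹ * x * g) = c₀ + (v₀ + w₀) := by
      intro x hx h1 h2 h3
      have hx' : g⁻¹ * x * g ∈ Q := by
        have := h.norm g⁻¹ x hx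
        rwa [inv_inv] at this
      have h4 := (hcos (t * (g⁻¹ * x * g)) (Q.mul_mem ht hx')
        (by rw [h.vmul t ht _ hx', map_add, ht1, hB g v₀ x hx, h1, add_zero])
        (by rw [h.vmul t ht _ hx', map_add, ht2, hB g w₀ x hx, h2, add_zero])).1 (by
          intro h5
          apply h3
          have h6 := hsq g b x
          rw [hbt] at h6
          have e : b₀ * (t * (g⁻¹ * x * g)) * (b₀ * (t * (g⁻¹ * x * g))) =
            b₀ * t * (g⁻¹ * x * g) * (b₀ * t * (g⁻¹ * x * g)) := by group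
          rw [e, ← h6] at h5
          have e2 : b * x * (b * x) = g * (g⁻¹ * (b * x * (b * x)) * g) * g⁻¹ := by group
          rw [e2, h5]; group)
      rw [h.vmul t ht _ hx'] at h4
      exact h4
    have k1 := key x hx hvx hwx hbx
    have k2 := key y hy hvy hwy hby
    have hs : vec (g⁻¹ * x * g) + vec (g⁻¹ * y * g) = 0 ∨ vec (g⁻¹ * x * g) + vec (g⁻¹ * y * g) = v₀ ∨
        vec (g⁻¹ * x * g) + vec (g⁻¹ * y * g) = w₀ ∨ vec (g⁻¹ * x * g) + vec (g⁻¹ * y * g) = v₀ + w₀ := by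
      have e : vec (g⁻¹ * x * g) + vec (g⁻¹ * y * g) =
          (vec t + vec (g⁻¹ * x * g)) + (vec t + vec (g⁻¹ * y * g)) := by
        rw [add_add_add_comm, add_self', zero_add]
      have a1 : ∀ a c : V, (c₀ + a) + (c₀ + c) = a + c := fun a c => by
        rw [add_add_add_comm, add_self', zero_add]
      have a2 : ∀ a : V, c₀ + (c₀ + a) = a := fun a => by rw [← add_assoc, add_self', zero_add]
      have a3 : ∀ a : V, (c₀ + a) + c₀ = a := fun a => by rw [add_comm, a2]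
      have b1 : v₀ + (v₀ + w₀) = w₀ := by rw [← add_assoc, add_self', zero_add]
      have b2 : w₀ + (v₀ + w₀) = v₀ := by rw [add_comm v₀ w₀, ← add_assoc, add_self', zero_add]
      have b3 : v₀ + w₀ + v₀ = w₀ := by rw [add_comm (v₀ + w₀), b1]
      have b4 : v₀ + w₀ + w₀ = v₀ := by rw [add_assoc, add_self', add_zero]
      have b5 : w₀ + v₀ = v₀ + w₀ := add_comm _ _
      rw [e]
      rcases k1 with k1 | k1 | k1 | k1 <;> rcases k2 with k2 | k2 | k2 | k2 <;>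
        simp only [k1, k2, a1, a2, a3, add_self', b1, b2, b3, b4, b5, true_or, or_true]
    have e1 : vec x + vec y = h.rho g (vec (g⁻¹ * x * g) + vec (g⁻¹ * y * g)) := by
      rw [map_add, hrg g x hx, hrg g y hy]
    rw [e1]
    rcases hs with hs | hs | hs | hs
    · left; rw [hs, map_zero]
    · right; left; rw [hs]
    · right; right; left; rw [hs]
    · right; right; right; rw [hs, map_add]
  · intro b v w hbb hpair hact
    obtain ⟨g, t, ht, rfl, rfl, htt, hbt⟩ := red b v w hbb hpair hact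
    obtain ⟨ht1, ht2⟩ := hyo t ht htt
    obtain ⟨x₀, hx₀, hvx₀⟩ := h.vsurj (vec t + c₀)
    have hvt : vec (t * x₀) = c₀ := by
      rw [h.vmul t ht _ hx₀, hvx₀, ← add_assoc, add_self', zero_add]
    have hne : b₀ * (t * x₀) * (b₀ * (t * x₀)) ≠ 1 :=
      (hcos (t * x₀) (Q.mul_mem ht hx₀) (by rw [hvt, hvc]) (by rw [hvt, hwc])).2 (Or.inl hvt)
    have hnt : ¬ (vec t = c₀ ∨ vec t = c₀ + v₀ ∨ vec t = c₀ + w₀ ∨ vec t = c₀ + (v₀ + w₀)) := by
      intro h1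
      exact (hcos t ht ht1 ht2).2 h1 htt
    have hx : g * x₀ * g⁻¹ ∈ Q := h.norm g x₀ hx₀
    have hvx : vec (g * x₀ * g⁻¹) = h.rho g (vec t + c₀) := by rw [← h.rho_vec g hx₀, hvx₀]
    have hinj : ∀ a c, h.rho g a = h.rho g c → a = c := by
      intro a c hac
      rw [← h.rho_inv_rho g a, hac, h.rho_inv_rho]
    have htc : ∀ a : V, vec t + c₀ = a → vec t = c₀ + a := by
      intro a h1
      rw [← h1, add_comm (vec t), ← add_assoc, add_self', zero_add]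
    refine ⟨g * x₀ * g⁻¹, hx, ?_, ?_, ?_, ?_, ?_, ?_, ?_⟩
    · rw [hvx, h.B_rho hq, map_add, ht1, hvc, add_zero]
    · rw [hvx, h.B_rho hq, map_add, ht2, hwc, add_zero]
    · intro h1
      apply hne
      have e : b₀ * (t * x₀) * (b₀ * (t * x₀)) = g⁻¹ * (b * (g * x₀ * g⁻¹) * (b * (g * x₀ * g⁻¹))) * g := by
        have e3 : b₀ * (t * x₀) = g⁻¹ * b * g * x₀ := by rw [hbt]; group
        rw [e3]; group
      rw [e, h1]; group
    · intro h1
      rw [hvx] at h1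
      have h2 := hinj _ 0 (by rw [h1, map_zero])
      have h3 := htc _ h2
      rw [add_zero] at h3
      exact hnt (Or.inl h3)
    · intro h1
      rw [hvx] at h1
      exact hnt (Or.inr (Or.inl (htc _ (hinj _ _ h1))))
    · intro h1
      rw [hvx] at h1
      exact hnt (Or.inr (Or.inr (Or.inl (htc _ (hinj _ _ h1)))))
    · intro h1
      rw [hvx, ← map_add] at h1
      exact hnt (Or.inr (Or.inr (Or.inr (htc _ (hinj _ _ h1)))))

end Pre

end Cfsg.Agent.SuzClosing
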