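import Cfsg.Agent.SuzClosing.Loc
import Cfsg.Agent.LargeExtra.Dickson

/-!
# Closing argument: no element of `H` induces a transvection, from the Dickson invariant of the generators
-/

set_option autoImplicit false

namespace Cfsg.Agent.SuzClosing

open Module Cfsg.Agent.LargeExtra.Dickson

variable {V : Type*} [AddCommGroup V] [Module (ZMod 2) V] {H : Type*} [Group H]

namespace Pre

variable {q : V → ZMod 2} {B : LinearMap.BilinForm (ZMod 2) V} {z : H} {Q : Subgroup H} {vec : H → V}
  (h : Pre q B z Q vec)
include h

theorem rho_one (v : V) : h.rho 1 v = v := by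
  conv_lhs => rw [← h.vec_sec v, h.rho_vec _ (h.sec_mem v)]
  rw [one_mul, inv_one, mul_one, h.vec_sec]

/-- the action as a linear equivalence -/
noncomputable def eqv (g : H) : V ≃ₗ[ZMod 2] V :=
  { h.rho g with
    invFun := h.rho g⁻¹
    left_inv := fun v => by
      show h.rho g⁻¹ (h.rho g v) = v
      rw [← h.rho_mul, inv_mul_cancel, h.rho_one]
    right_inv := fun v => by
      show h.rho g (h.rho g⁻¹ v) = v
      rw [← h.rho_mul, mul_inv_cancel, h.rho_one] }

theorem eqv_apply (g : H) (v : V) : h.eqv g v = h.rho g v := rfl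

theorem eqv_mul (g k : H) : h.eqv (g * k) = h.eqv g * h.eqv k := by
  ext v
  show h.rho (g * k) v = h.rho g (h.rho k v)
  exact h.rho_mul g k v

variable [FiniteDimensional (ZMod 2) V]

/-- the elements with even Dickson invariant -/
def even (hq : QF q B) (he : Even (finrank (ZMod 2) V)) : Subgroup H where
  carrier := {g | Even (finrank (ZMod 2) (fix (h.eqv g)))}
  one_mem' := by
    have e : fix (h.eqv 1) = ⊤ := by
      rw [eq_top_iff]
      intro v _
      rw [mem_fix]
      exact h.rho_one v
    show Even _
    rw [e, finrank_top]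
    exact he
  mul_mem' := by
    intro g k hg hk
    have key := even_sum q B hq.qadd hq.nondeg hq.symm (h.eqv g) (h.eqv k) (h.q_rho g) (h.q_rho k)
    rw [← h.eqv_mul] at key
    show Even _
    have hg' : Even (finrank (ZMod 2) (fix (h.eqv g))) := hg
    have hk' : Even (finrank (ZMod 2) (fix (h.eqv k))) := hk
    rw [Nat.even_iff] at *
    omega
  inv_mem' := by
    intro g hg
    have e : fix (h.eqv g⁻¹) = fix (h.eqv g) := by
      ext v
      rw [mem_fix, mem_fix, h.eqv_apply, h.eqv_apply]
      constructor
      · intro h1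
        conv_lhs => rw [← h1]
        rw [← h.rho_mul, mul_inv_cancel, h.rho_one]
      · intro h1
        conv_lhs => rw [← h1]
        rw [← h.rho_mul, inv_mul_cancel, h.rho_one]
    show Even _
    rw [e]
    exact hg

/-- **no transvections** -/
theorem notr_of_gens (hq : QF q B) (he : Even (finrank (ZMod 2) V)) {S : Set H} (hS : Subgroup.closure S = ⊤)
    (hev : ∀ s ∈ S, Even (finrank (ZMod 2) (fix (h.eqv s)))) :
    ∀ g u, q u = 1 → ¬ ∀ x ∈ Q, vec (g * x * g⁻¹) = vec x + B u (vec x) • u := by
  intro g u hu hg
  have h1 : g ∈ h.even hq he := by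
    have h2 : Subgroup.closure S ≤ h.even hq he := by
      rw [Subgroup.closure_le]
      exact hev
    apply h2
    rw [hS]
    exact Subgroup.mem_top _
  have h2 : Even (finrank (ZMod 2) (fix (h.eqv g))) := h1
  have hu0 : u ≠ 0 := hq.ne_zero_of_q hu
  have e : fix (h.eqv g) = LinearMap.ker (B u) := by
    ext v
    rw [mem_fix, h.eqv_apply, LinearMap.mem_ker]
    conv_lhs => rw [← h.vec_sec v, h.rho_vec _ (h.sec_mem v), hg _ (h.sec_mem v), h.vec_sec]
    rw [add_eq_left]
    constructor
    · intro h3
      rcases two_cases (B u v) with h4 | h4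
      · exact h4
      · rw [h4, one_smul] at h3
        exact absurd h3 hu0
    · intro h3
      rw [h3, zero_smul]
  have h3 : finrank (ZMod 2) (LinearMap.ker (B u)) + 1 = finrank (ZMod 2) V := by
    have hne : B u ≠ 0 := by
      intro h0
      apply hu0
      apply hq.nondeg
      intro w
      rw [h0]; rfl
    have hr : LinearMap.range (B u) = ⊤ := by
      rw [LinearMap.range_eq_top]
      exact LinearMap.surjective hne
    have := LinearMap.finrank_range_add_finrank_ker (B u)
    rw [hr, finrank_top, finrank_self] at this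
    omega
  rw [e] at h2
  rw [Nat.even_iff] at h2 he
  omega

end Pre

end Cfsg.Agent.SuzClosing
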