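import Cfsg.Agent.SuzClosing.InstQ
import Cfsg.Agent.SuzClosing.Build
import Cfsg.Agent.SuzClosing.NoTr

/-!
Transitivity on the pairs of orthogonal nonsingular vectors, and a four-group, for the instance.
-/

set_option autoImplicit false
set_option maxRecDepth 100000

namespace Cfsg.Agent.SuzClosing.Inst

/-- six Booleans -/
abbrev T6 := Bool × Bool × Bool × Bool × Bool × Bool

/-- the vector -/
def tv (t : T6) : V := mk t.1 t.2.1 t.2.2.1 t.2.2.2.1 t.2.2.2.2.1 t.2.2.2.2.2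

/-- the actions of the five generators -/
def MB : Fin 5 → T6 → T6
  | 0, (a, b, c, d, e, f) => (b ^^ f, a ^^ f, c ^^ f, d, e, f)
  | 1, (a, b, c, d, e, f) => (a ^^ f, c ^^ f, b ^^ f, d, e, f)
  | 2, (a, b, c, d, e, f) => (a ^^ e, b, c, d ^^ b ^^ c ^^ f, e, f)
  | 3, (a, b, c, d, e, f) => (a ^^ d, b, c, d, e ^^ b ^^ c ^^ f, f)
  | 4, (a, b, c, d, e, f) => (a ^^ f, b ^^ f, f, d, e, c ^^ f)

/-- action of a word -/
def actB (l : List (Fin 5)) (t : T6) : T6 := l.foldr MB t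

/-- images -/
def jj : Fin 5 → Fin 6 → List (Option (Fin 6)) := ![j0, j1, j2, j3, j4]

theorem MB_spec (k : Fin 5) (t : T6) : (cj (fun i => nfl (jj k i)) (tv t)).2 = tv (MB k t) := by
  revert k t
  decide +kernel

/-- base vectors -/
def t0 : T6 := (true, true, false, false, false, false)
/-- base vectors -/
def s0 : T6 := (true, true, true, false, false, false)

theorem tv_t0 : tv t0 = ![1, 1, 0, 0, 0, 0] := by
  ext i; fin_cases i <;> rfl

theorem tv_s0 : tv s0 = ![1, 1, 1, 0, 0, 0] := by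
  ext i; fin_cases i <;> rfl

/-- words -/
def W1 : List (List (Fin 5)) :=
  [[], [1], [2], [3], [0, 1], [2, 1], [3, 1], [4, 1], [3, 2], [4, 0, 1], [0, 2, 1], [3, 2, 1], [4, 2, 1], [0, 3,
    1], [4, 3, 1], [0, 4, 1], [1, 4, 1], [0, 3, 2], [1, 4, 0, 1], [3, 0, 2, 1], [4, 0, 2, 1], [4, 3, 2, 1], [0, 4,
    2, 1], [1, 4, 2, 1], [2, 0, 3, 1], [4, 0, 3, 1], [0, 4, 3, 1], [1, 4, 3, 1], [1, 0, 4, 1], [2, 0, 3, 2], [4,
    3, 0, 2, 1], [0, 4, 3, 2, 1], [1, 0, 4, 2, 1], [4, 2, 0, 3, 1], [1, 0, 4, 3, 1], [4, 1, 0, 4, 1]]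

/-- words -/
def W2 : List (List (Fin 5)) :=
  [[], [4], [0, 4], [1, 0, 2, 0, 1, 4], [1, 0, 3, 0, 1, 4], [1, 0, 2, 0, 1, 0, 4], [1, 0, 3, 0, 1, 0, 4], [1, 0,
    3, 2, 0, 1, 4], [3, 2, 0, 1, 0, 4, 3, 2], [4, 1, 0, 2, 0, 1, 0, 4], [4, 1, 0, 3, 0, 1, 0, 4], [4, 1, 0, 3, 2,
    0, 1, 4], [1, 4, 2, 0, 1, 4, 3, 0, 2, 1], [1, 4, 3, 0, 1, 4, 2, 0, 3, 1], [1, 4, 2, 0, 1, 4, 3, 2, 0, 1, 4,
    2]]

/-- equality -/
def eqT : T6 → T6 → Bool
  | (a, b, c, d, e, f), (a', b', c', d', e', f') => eqB a b c d e f a' b' c' d' e' f'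

/-- the form -/
def qT : T6 → Bool
  | (a, b, c, d, e, f) => qB a b c d e f

/-- the form -/
def BT : T6 → T6 → Bool
  | (a, b, c, d, e, f), (a', b', c', d', e', f') => BB a b c d e f a' b' c' d' e' f'

theorem eqT_iff (s t : T6) : eqT s t = true ↔ tv s = tv t := eqB_iff

theorem qT_spec (t : T6) : q (tv t) = zb (qT t) := q_mk _ _ _ _ _ _

theorem BT_spec (s t : T6) : B (tv s) (tv t) = zb (BT s t) := B_mk _ _ _ _ _ _ _ _ _ _ _ _

theorem W1_spec : ∀ t : T6, (!qT t || W1.any fun l => eqT (actB l t0) t) = true := by decide +kernel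

theorem W2_spec : ∀ t : T6, (!qT t || (BT t0 t || (eqT t0 t ||
    W2.any fun l => eqT (actB l t0) t0 && eqT (actB l s0) t))) = true := by decide +kernel

theorem exists_tv (v : V) : ∃ t, v = tv t := by
  revert v
  apply all_vec
  intro a b c d e f
  exact ⟨(a, b, c, d, e, f), rfl⟩

/-- product of `τ_v τ_w` and `τ_w τ_t` -/
theorem act_prod {H : Type*} [Group H] {z : H} {Q : Subgroup H} {vec : H → V} (h : Pre q B z Q vec)
    {r s : H} {v w t : V} (hr : Act B Q vec r v w) (hs : Act B Q vec s w t) (h1 : B v w = 0)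
    (h2 : B v t = 0) (h3 : B w t = 0) (h4 : B w w = 0) : Act B Q vec (r * s) v t := by
  intro x hx
  have e : r * s * x * (r * s)⁻¹ = r * (s * x * s⁻¹) * r⁻¹ := by group
  have hsx := hs x hx
  rw [e, hr _ (h.norm s x hx), hsx]
  simp only [map_add, map_smul, h1, h2, h3, h4, smul_eq_mul, mul_zero, add_zero]
  have e2 : ∀ a b c d : V, a + b + c + d + b = a + (b + b) + (d + c) := by intro a b c d; abel
  rw [e2, add_self', add_zero, ← add_assoc]

section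

variable {H : Type*} [Group H] {z : H} {Q : Subgroup H} {vec : H → V} (h : Pre q B z Q vec) {g : Fin 5 → H}
  (hg : ∀ k v, h.rho (g k) v = (cj (fun i => nfl (jj k i)) v).2)
include hg

theorem rho_word (l : List (Fin 5)) (t : T6) : h.rho ((l.map g).prod) (tv t) = tv (actB l t) := by
  induction l with
  | nil => exact h.rho_one _
  | cons k l ih =>
    rw [List.map_cons, List.prod_cons, h.rho_mul, ih, hg, MB_spec]
    rfl

/-- **transitivity on pairs** -/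
theorem tr (v w : V) (hp : Pair q B v w) :
    ∃ u : H, h.rho u ![1, 1, 0, 0, 0, 0] = v ∧ h.rho u ![1, 1, 1, 0, 0, 0] = w := by
  rw [← tv_t0, ← tv_s0]
  obtain ⟨t, rfl⟩ := exists_tv v
  have h1 := W1_spec t
  have h2 : qT t = true := by
    have := hp.qv
    rw [qT_spec, zb_one] at this
    exact this
  rw [h2, Bool.not_true, Bool.false_or, List.any_eq_true] at h1
  obtain ⟨l, -, hl⟩ := h1
  rw [eqT_iff] at hl
  obtain ⟨u₁, hu₁⟩ : ∃ u₁, u₁ = (l.map g).prod := ⟨_, rfl⟩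
  have hu1 : h.rho u₁ (tv t0) = tv t := by rw [hu₁, rho_word h hg, hl]
  have hu1' : h.rho u₁⁻¹ (tv t) = tv t0 := by rw [← hu1, h.rho_inv_rho]
  obtain ⟨t', ht'⟩ := exists_tv (h.rho u₁⁻¹ w)
  have hw : h.rho u₁ (tv t') = w := by
    rw [← ht', ← h.rho_mul, mul_inv_cancel, h.rho_one]
  have q1 : qT t' = true := by
    have h3 := h.q_rho u₁⁻¹ w
    rw [ht', qT_spec, hp.qw, zb_one] at h3
    exact h3
  have b1 : BT t0 t' = false := by
    have h3 := h.B_rho qf u₁⁻¹ (tv t) w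
    rw [ht', hu1', BT_spec, hp.vw, zb_zero] at h3
    exact h3
  have e1 : eqT t0 t' = false := by
    rw [Bool.eq_false_iff]
    intro h3
    rw [eqT_iff] at h3
    apply hp.ne
    rw [← hw, ← h3, hu1]
  have h3 := W2_spec t'
  rw [q1, b1, e1, Bool.not_true, Bool.false_or, Bool.false_or, Bool.false_or, List.any_eq_true] at h3
  obtain ⟨l₂, -, hl₂⟩ := h3
  rw [Bool.and_eq_true, eqT_iff, eqT_iff] at hl₂
  refine ⟨u₁ * (l₂.map g).prod, ?_, ?_⟩
  · rw [h.rho_mul, rho_word h hg, hl₂.1, hu1]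
  · rw [h.rho_mul, rho_word h hg, hl₂.2, hw]

/-- **the four-group** -/
theorem four (ha : Act B Q vec (g 0) ![1, 1, 0, 0, 0, 0] ![1, 1, 1, 0, 0, 0]) (h0 : g 0 * g 0 = 1)
    (hc : g 0 * ((g 3 * g 2 * g 1) * g 0 * (g 3 * g 2 * g 1)⁻¹) =
      ((g 3 * g 2 * g 1) * g 0 * (g 3 * g 2 * g 1)⁻¹) * g 0) :
    ∃ r s, IsB q B Q vec r ∧ IsB q B Q vec s ∧ IsB q B Q vec (r * s) ∧ r * s = s * r := by
  obtain ⟨u, hu⟩ : ∃ u, u = g 3 * g 2 * g 1 := ⟨_, rfl⟩
  rw [← hu] at hc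
  obtain ⟨s, hs⟩ : ∃ s, s = u * g 0 * u⁻¹ := ⟨_, rfl⟩
  rw [← hs] at hc
  have hss : s * s = 1 := by
    rw [hs]
    calc u * g 0 * u⁻¹ * (u * g 0 * u⁻¹) = u * (g 0 * g 0) * u⁻¹ := by group
      _ = 1 := by rw [h0]; group
  have hu' : u = ([3, 2, 1].map g).prod := by
    rw [hu]
    simp only [List.map_cons, List.map_nil, List.prod_cons, List.prod_nil, mul_one]
    group
  have e1 : h.rho u ![1, 1, 0, 0, 0, 0] = ![0, 0, 1, 1, 1, 0] := by
    rw [← tv_t0, hu', rho_word h hg]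
    decide
  have e2 : h.rho u ![1, 1, 1, 0, 0, 0] = ![1, 1, 1, 0, 0, 0] := by
    rw [← tv_s0, hu', rho_word h hg]
    decide
  have hs1 : Act B Q vec s ![1, 1, 1, 0, 0, 0] ![0, 0, 1, 1, 1, 0] := by
    have h1 := h.act_conj qf ha u
    rw [e1, e2, ← hs] at h1
    intro x hx
    rw [h1 x hx]
    abel
  have hrs : Act B Q vec (g 0 * s) ![1, 1, 0, 0, 0, 0] ![0, 0, 1, 1, 1, 0] :=
    act_prod h ha hs1 (by decide) (by decide) (by decide) (by decide)
  refine ⟨g 0, s, ⟨h0, _, _, ⟨by decide, by decide, by decide, by decide⟩, ha⟩,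
    ⟨hss, _, _, ⟨by decide, by decide, by decide, by decide⟩, hs1⟩,
    ⟨?_, _, _, ⟨by decide, by decide, by decide, by decide⟩, hrs⟩, hc⟩
  calc g 0 * s * (g 0 * s) = g 0 * (s * g 0) * s := by group
    _ = g 0 * (g 0 * s) * s := by rw [hc]
    _ = (g 0 * g 0) * (s * s) := by group
    _ = 1 := by rw [h0, hss, one_mul]

end

open Cfsg.Spor Cfsg.Agent.Lib.PermNet Cfsg.Agent.SporadicRecognition.SuzPhi
  Cfsg.Agent.SporadicRecognition.SuzBound Cfsg.Agent.SporadicRecognition.SuzOrder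
  Cfsg.Agent.SuzThree.Basic Cfsg.Agent.SuzThree.CentA

/-- the five generators -/
noncomputable def gg : Fin 5 → H := ![g0, g1, g2, g3, g4]

theorem g0_sq : g0 * g0 = 1 := Subtype.ext (gen_sq _)

/-- the word of the conjugate -/
def sw : List Suz.Gen := (h2 ++ h1 ++ [Suz.Gen.e]) ++ ([Suz.Gen.d] ++ (h2 ++ h1 ++ [Suz.Gen.e]).reverse)

theorem commute_el : el [.d] * el sw = el sw * el [.d] :=
  eq_of_reps ((Rep.el _).mul (Rep.el _)) ((Rep.el _).mul (Rep.el _)) (by decide +kernel)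

theorem commute_four : gg 0 * ((gg 3 * gg 2 * gg 1) * gg 0 * (gg 3 * gg 2 * gg 1)⁻¹) =
      ((gg 3 * gg 2 * gg 1) * gg 0 * (gg 3 * gg 2 * gg 1)⁻¹) * gg 0 := by
  apply Subtype.ext
  have e : el sw = (el h2 * el h1 * el [.e]) * (el [.d]) * (el h2 * el h1 * el [.e])⁻¹ := by
    unfold sw
    rw [el_append, el_append [Suz.Gen.d], el_reverse, el_append, el_append]
    group
  show el [.d] * ((el h2 * el h1 * el [.e]) * (el [.d]) * (el h2 * el h1 * el [.e])⁻¹) =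
    ((el h2 * el h1 * el [.e]) * (el [.d]) * (el h2 * el h1 * el [.e])⁻¹) * el [.d]
  rw [← e]
  exact commute_el

end Cfsg.Agent.SuzClosing.Inst
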