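import Cfsg.Agent.SuzClosing.InstP
import Cfsg.Agent.SuzClosing.InstTr

/-!
The centraliser of the involution `a` in the presented Suzuki group: no transvections, the base involution, `Loc`.
-/

set_option autoImplicit false
set_option maxRecDepth 100000
set_option exponentiation.threshold 4000

namespace Cfsg.Agent.SuzClosing.Inst

open Cfsg.Spor Cfsg.Agent.SporadicRecognition.SuzPhi Cfsg.Agent.SporadicRecognition.SuzOrder
  Cfsg.Agent.SuzThree.CentA Cfsg.Agent.SuzThree.CentCard Cfsg.Agent.SuzThree.QZero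

/-! ### Generators -/

/-- the five generators -/
def S5 : Set H := {g0, g1, g2, g3, g4}

theorem closure_S5 : Subgroup.closure S5 = ⊤ := by
  rw [eq_top_iff]
  intro x _
  have hle : cl ga ≤ (Subgroup.closure S5).map C1.subtype := by
    apply cl_le
    intro w hw
    simp only [ga, List.mem_cons, List.not_mem_nil, or_false] at hw
    rcases hw with rfl | rfl | rfl | rfl | rfl
    · exact ⟨g0, Subgroup.subset_closure (by simp [S5]), rfl⟩
    · exact ⟨g1, Subgroup.subset_closure (by simp [S5]), rfl⟩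
    · exact ⟨g2, Subgroup.subset_closure (by simp [S5]), rfl⟩
    · exact ⟨g3, Subgroup.subset_closure (by simp [S5]), rfl⟩
    · exact ⟨g4, Subgroup.subset_closure (by simp [S5]), rfl⟩
  rw [cl_ga] at hle
  obtain ⟨y, hy, hyx⟩ := hle x.2
  have : y = x := Subtype.ext hyx
  rw [← this]; exact hy

/-! ### Dickson invariants -/

open Module Cfsg.Agent.LargeExtra.Dickson

theorem even_of_card {g : H} {y : Fin 6 → ZMod 2 × V} (hy : ∀ v, pre.rho g v = (cj y v).2)
    (hc : Fintype.card {v : V // (cj y v).2 = v} = 16) : Even (finrank (ZMod 2) (fix (pre.eqv g))) := by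
  have h1 : Nat.card (fix (pre.eqv g)) = 16 := by
    rw [← hc, ← Nat.card_eq_fintype_card]
    apply Nat.card_congr
    refine Equiv.subtypeEquivRight fun v => ?_
    rw [mem_fix, pre.eqv_apply, hy]
  have h2 := Module.natCard_eq_pow_finrank (K := ZMod 2) (V := fix (pre.eqv g))
  rw [h1, Nat.card_zmod] at h2
  have h3 : finrank (ZMod 2) (fix (pre.eqv g)) = 4 := by
    apply Nat.pow_right_injective (le_refl 2)
    show 2 ^ _ = 2 ^ 4
    rw [← h2]
  rw [h3]
  decide

theorem notr : ∀ g u, q u = 1 → ¬ ∀ x ∈ QH, vec (g * x * g⁻¹) = vec x + B u (vec x) • u := by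
  apply pre.notr_of_gens qf (by rw [finrank_fintype_fun_eq_card]; decide) closure_S5
  intro s hs
  rcases hs with rfl | rfl | rfl | rfl | rfl
  · exact even_of_card rho0 (by decide +kernel)
  · exact even_of_card rho1 (by decide +kernel)
  · exact even_of_card rho2 (by decide +kernel)
  · exact even_of_card rho3 (by decide +kernel)
  · exact even_of_card rho4 (by decide +kernel)

/-! ### The base involution -/

theorem pair0 : Pair q B ![1, 1, 0, 0, 0, 0] ![1, 1, 1, 0, 0, 0] := ⟨by decide, by decide, by decide, by decide⟩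

theorem cj0 (v : V) : (cj (fun i => nfl (j0 i)) v).2 = v + B ![1, 1, 0, 0, 0, 0] v • ![1, 1, 0, 0, 0, 0] +
    B ![1, 1, 1, 0, 0, 0] v • ![1, 1, 1, 0, 0, 0] := by
  revert v
  apply all_vec
  decide +kernel

theorem act0 : Act B QH vec g0 ![1, 1, 0, 0, 0, 0] ![1, 1, 1, 0, 0, 0] := by
  intro x hx
  rw [← pre.rho_vec g0 hx, rho0, cj0]

theorem cos0 : ∀ v : V, B ![1, 1, 0, 0, 0, 0] v = 0 → B ![1, 1, 1, 0, 0, 0] v = 0 →
    ((cj (fun i => nfl (j0 i)) v).1 + bt v v ≠ 0 ↔ v = ![0, 0, 0, 1, 1, 0] ∨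
      v = ![0, 0, 0, 1, 1, 0] + ![1, 1, 0, 0, 0, 0] ∨ v = ![0, 0, 0, 1, 1, 0] + ![1, 1, 1, 0, 0, 0] ∨
      v = ![0, 0, 0, 1, 1, 0] + (![1, 1, 0, 0, 0, 0] + ![1, 1, 1, 0, 0, 0])) := by
  apply all_vec
  decide +kernel

theorem hcos : ∀ x ∈ QH, B ![1, 1, 0, 0, 0, 0] (vec x) = 0 → B ![1, 1, 1, 0, 0, 0] (vec x) = 0 →
    (g0 * x * (g0 * x) ≠ 1 ↔ vec x = ![0, 0, 0, 1, 1, 0] ∨ vec x = ![0, 0, 0, 1, 1, 0] + ![1, 1, 0, 0, 0, 0] ∨
      vec x = ![0, 0, 0, 1, 1, 0] + ![1, 1, 1, 0, 0, 0] ∨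
      vec x = ![0, 0, 0, 1, 1, 0] + (![1, 1, 0, 0, 0, 0] + ![1, 1, 1, 0, 0, 0])) := by
  rintro _ ⟨a, v, rfl⟩ h1 h2
  have hv : vec (pw zH a * E xH v) = v := gens.vec_nf a v
  rw [hv] at h1 h2 ⊢
  rw [← cos0 v h1 h2]
  have h3 : (cj (fun i => nfl (j0 i)) v).2 = v := by
    rw [cj0, h1, h2, zero_smul, zero_smul, add_zero, add_zero]
  have h4 : g0 * (pw zH a * E xH v) * (g0 * (pw zH a * E xH v)) =
      ne zH xH (a + (cj (fun i => nfl (j0 i)) v).1 + a + bt v v, 0) := by
    have h5 := conj_ne gens conj0 (a, v)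
    have hg : g0⁻¹ = g0 := inv_eq_of_mul_eq_one_left g0_sq
    have e : g0 * (pw zH a * E xH v) * (g0 * (pw zH a * E xH v)) =
        (g0 * ne zH xH (a, v) * g0⁻¹) * ne zH xH (a, v) := by rw [hg]; unfold ne; group
    rw [e, h5, h3, ne_mul gens]
    show ne zH xH (a + (cj (fun i => nfl (j0 i)) v).1 + a + bt v v, v + v) = _
    rw [add_self']
  have h5 : a + (cj (fun i => nfl (j0 i)) v).1 + a + bt v v = (cj (fun i => nfl (j0 i)) v).1 + bt v v := by
    calc a + (cj (fun i => nfl (j0 i)) v).1 + a + bt v v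
        = (a + a) + ((cj (fun i => nfl (j0 i)) v).1 + bt v v) := by ring
      _ = _ := by rw [z2_add_self, zero_add]
  rw [h4, h5]
  constructor
  · intro h6 h7
    apply h6
    rw [h7, ne_zero]
  · intro h6 h7
    apply h6
    have h8 : pw zH ((cj (fun i => nfl (j0 i)) v).1 + bt v v) * E xH 0 = 1 := h7
    exact (gens.eq_zero h8).2

/-! ### The result -/

theorem rho_gg (k : Fin 5) (v : V) : pre.rho (gg k) v = (cj (fun i => nfl (jj k i)) v).2 := by
  fin_cases k
  · exact rho0 v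
  · exact rho1 v
  · exact rho2 v
  · exact rho3 v
  · exact rho4 v

/-- **The centraliser of `a` is a group like `2₋^(1+6) Ω₆⁻(2)`.** -/
theorem loc : Loc q B zH gens.Q gens.vec :=
  pre.build qf notr pair0 g0_sq act0 (tr pre rho_gg) (c₀ := ![0, 0, 0, 1, 1, 0]) (by decide) (by decide) hcos
    (four pre rho_gg act0 g0_sq commute_four)

end Cfsg.Agent.SuzClosing.Inst
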