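import Cfsg.Agent.SuzClosing.InstQ
import Cfsg.Agent.SuzThree.CentB2

/-!
The involutions of the centraliser of `a` in the presented Suzuki group inducing a product of two orthogonal
transvections are conjugate to `e`.
-/

set_option autoImplicit false

namespace Cfsg.Agent.SuzClosing.Inst

open Cfsg.Spor Cfsg.Agent.SuzThree.QZero Cfsg.Agent.SuzThree.CentA

theorem E_coe_mem (u : V) : ((E xH u : H) : Suz) ∈ Q0 := by
  have h : ∀ (i : Fin 6) (a : ZMod 2), ((pw (xH i) a : H) : Suz) ∈ Q0 := by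
    intro i a
    rcases two_cases a with rfl | rfl
    · rw [pw_zero]; exact Q0.one_mem
    · rw [pw_one]; exact q_mem (ix i)
  exact Q0.mul_mem (h _ _) (Q0.mul_mem (h _ _) (Q0.mul_mem (h _ _) (Q0.mul_mem (h _ _) (Q0.mul_mem (h _ _) (h _ _)))))

theorem coe_memQ0 {x : H} (hx : x ∈ gens.Q) : (x : Suz) ∈ Q0 := by
  obtain ⟨a, u, rfl⟩ := hx
  refine Q0.mul_mem ?_ (E_coe_mem u)
  rcases two_cases a with rfl | rfl
  · rw [pw_zero]; exact Q0.one_mem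
  · rw [pw_one]; exact z_mem

/-- Involutions of type `IsB` are conjugate to `e`. -/
theorem conj_ie (hpre : Pre q B zH gens.Q gens.vec) {b : H} (hb : IsB q B gens.Q gens.vec b) :
    ∃ g, g * Cfsg.Agent.SporRec.SuzCl.ie * g⁻¹ = (b : Suz) := by
  obtain ⟨hbb, v, w, hp, ha⟩ := hb
  obtain ⟨u, hw, hv⟩ := qf.exists_two (qf.ne_zero_of_q hp.qw) (qf.ne_zero_of_q hp.qv) hp.ne.symm
  obtain ⟨x, hx, hxu⟩ := hpre.vsurj u
  have hxi : x⁻¹ ∈ gens.Q := gens.Q.inv_mem hx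
  have h1 : gens.vec (b * x⁻¹ * b⁻¹) = u + v := by
    rw [ha _ hxi, hpre.vinv hx, hxu, hv, hw, one_smul, zero_smul, add_zero]
  have h2 : gens.vec (x * (b * x⁻¹ * b⁻¹)) = v := by
    rw [hpre.vmul _ hx _ (hpre.norm b _ hxi), h1, hxu, add_add_cancel']
  have h3 := hpre.sq1 _ (gens.Q.mul_mem hx (hpre.norm b _ hxi)) (by rw [h2]; exact hp.qv)
  refine Cfsg.Agent.SuzThree.CentB2.conj_e b.2 (congrArg Subtype.val hbb) (x := (x : Suz)) (coe_memQ0 hx) ?_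
  intro h4
  apply hpre.z1
  rw [← h3]
  apply Subtype.ext
  show (x : Suz) * (b * (x : Suz)⁻¹ * (b : Suz)⁻¹) * (x * (b * (x : Suz)⁻¹ * (b : Suz)⁻¹)) = 1
  have e : (x : Suz) * (b * (x : Suz)⁻¹ * (b : Suz)⁻¹) * (x * (b * (x : Suz)⁻¹ * (b : Suz)⁻¹)) =
      x * b * (x : Suz)⁻¹ * (b : Suz)⁻¹ * (x * b * (x : Suz)⁻¹ * (b : Suz)⁻¹) := by group
  rw [e]
  exact h4

end Cfsg.Agent.SuzClosing.Inst
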