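import Cfsg.Agent.SuzClosing.Norm

/-!
# Closing argument, the theorem
-/

set_option autoImplicit false
set_option linter.unusedSectionVars false
set_option linter.style.haveILetI false

namespace Cfsg.Agent.SuzClosing

open Subgroup Cfsg.Agent.StdLThreeFour.Syl

variable {V : Type*} [AddCommGroup V] [Module (ZMod 2) V] {H : Type*} [Group H] {C : Type*} [Group C] [Finite C]

/-- a maximal intersection -/
structure Mx {M : Subgroup C} (z : C) (Qh A : Subgroup C) (g : C) : Prop where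
  le : A ≤ Qh
  zA : z ∈ A
  ng : g ∉ M
  gA : ∀ a ∈ A, g⁻¹ * a * g ∈ Qh
  mx : ∀ (A' : Subgroup C) (g' : C), A' ≤ Qh → z ∈ A' → g' ∉ M → (∀ a ∈ A', g'⁻¹ * a * g' ∈ Qh) →
    Nat.card A' ≤ Nat.card A

namespace Hyp

variable {q : V → ZMod 2} {B : LinearMap.BilinForm (ZMod 2) V} {ζ : H} {Q : Subgroup H} {vec : H → V}
  {M : Subgroup C} {π : M →* H} {z : C} (h : Hyp q B ζ Q vec M π z) {Qh : Subgroup C} (k : Hat π Q Qh)
include h k

theorem exists_mx (hne : M ≠ ⊤) : ∃ A g, Mx (M := M) z Qh A g := by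
  obtain ⟨g₀, hg₀⟩ : ∃ g, g ∉ M := by
    by_contra hcon
    push Not at hcon
    exact hne (eq_top_iff.2 fun x _ => hcon x)
  let T := {p : Subgroup C × C // p.1 ≤ Qh ∧ z ∈ p.1 ∧ p.2 ∉ M ∧ ∀ a ∈ p.1, p.2⁻¹ * a * p.2 ∈ Qh}
  have hT : Nonempty T := by
    refine ⟨⟨(zpowers z, g₀), ?_, mem_zpowers z, hg₀, ?_⟩⟩
    · rw [zpowers_le]; exact h.zh k
    · have h1 : ∀ a ∈ zpowers z, g₀⁻¹ * a * g₀⁻¹⁻¹ ∈ Qh := by
        apply conj_zpowers
        rw [h.z_conj]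
        exact h.zh k
      intro a ha
      have := h1 a ha
      rwa [inv_inv] at this
  obtain ⟨⟨⟨A, g⟩, h1, h2, h3, h4⟩, hm⟩ := Finite.exists_max (fun p : T => Nat.card p.1.1)
  exact ⟨A, g, h1, h2, h3, h4, fun A' g' a1 a2 a3 a4 => hm ⟨(A', g'), a1, a2, a3, a4⟩⟩

variable {A : Subgroup C} {g : C} (m : Mx (M := M) z Qh A g)
include m

theorem two_A : IsPGroup 2 A := k.syl.2.1.to_le m.le

/-- **(MAX)** -/
theorem max {P : Subgroup C} (hz : z ∈ P) (hPK : P ≤ KK π Q) (hP : IsPGroup 2 P)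
    (hc : Nat.card A < Nat.card P) {t : C} (ht : ∀ x ∈ P, t⁻¹ * x * t ∈ M) : t ∈ M := by
  by_contra htM
  obtain ⟨u, hu, huP⟩ := k.syl.exists_conj_mem hPK hP
  have h1 : P.map (MulAut.conj t⁻¹).toMonoidHom ≤ KK π Q := by
    rintro _ ⟨x, hx, rfl⟩
    have h2 := ht x hx
    obtain ⟨n, hn⟩ := two_of_isPGroup hP hx
    have h3 := h.c2 (hPK hx) hn (g := t⁻¹) (by rw [inv_inv]; exact h2)
    exact h3
  obtain ⟨u', hu', huP'⟩ := k.syl.exists_conj_mem h1 (hP.map _)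
  have h2 := m.mx (P.map (MulAut.conj u).toMonoidHom) (u * t * u'⁻¹) ?_ ?_ ?_ ?_
  · rw [card_conj] at h2
    omega
  · rintro _ ⟨x, hx, rfl⟩
    exact huP x hx
  · refine ⟨z, hz, ?_⟩
    exact h.z_conj u
  · intro h3
    apply htM
    have h4 := M.mul_mem (M.mul_mem (M.inv_mem (h.KM hu)) h3) (h.KM hu')
    have e : u⁻¹ * (u * t * u'⁻¹) * u' = t := by group
    rwa [e] at h4
  · rintro _ ⟨x, hx, rfl⟩
    have h3 := huP' _ ⟨x, hx, rfl⟩
    have e : (u * t * u'⁻¹)⁻¹ * (MulAut.conj u).toMonoidHom x * (u * t * u'⁻¹)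
        = u' * (MulAut.conj t⁻¹).toMonoidHom x * u'⁻¹ := by
      show (u * t * u'⁻¹)⁻¹ * (u * x * u⁻¹) * (u * t * u'⁻¹) = u' * (t⁻¹ * x * t⁻¹⁻¹) * u'⁻¹
      group
    rw [e]
    exact h3

/-- elements normalizing `R⟨y⟩` -/
theorem norm_max {R : Subgroup C} {y c : C} (hR : R ≤ Qh) (hz : z ∈ R) (hcard : Nat.card A = Nat.card R)
    (hy : y ∈ Qh) (hyR : y ∉ R) (hcn : c ∈ normalizer (R : Set C)) (hc : c * y * c⁻¹ * y⁻¹ ∈ R) : c ∈ M := by
  have hmy : y ∈ zpowers y ⊔ R := (le_sup_left : zpowers y ≤ _) (mem_zpowers _)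
  have hPQ : zpowers y ⊔ R ≤ Qh := by rw [sup_le_iff, zpowers_le]; exact ⟨hy, hR⟩
  have h1 : c ∈ normalizer ((zpowers y ⊔ R : Subgroup C) : Set C) := by
    apply norm_fin
    apply conj_sup
    · apply conj_zpowers
      have := Subgroup.mul_mem _ ((le_sup_right : R ≤ zpowers y ⊔ R) hc) hmy
      rwa [inv_mul_cancel_right] at this
    · intro x hx
      exact (le_sup_right : R ≤ _) (norm_conj hcn hx)
  refine h.max k m (P := zpowers y ⊔ R) ((le_sup_right : R ≤ _) hz) (hPQ.trans k.syl.1)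
    (k.syl.2.1.to_le hPQ) ?_ ?_
  · rw [hcard]; exact card_lt_sup R hyR
  · intro x hx
    have h2 := norm_conj (Subgroup.inv_mem _ h1) hx
    rw [inv_inv] at h2
    exact h.hM k (hPQ h2)

/-- extension of `R` by an element of `K` -/
theorem ext_max {R : Subgroup C} {c : C} (hR : R ≤ Qh) (hz : z ∈ R) (hcard : Nat.card A = Nat.card R)
    (hc : c ∈ KK π Q) (hcR : c ∉ R) (hcc : c * c ∈ R) (hcn : c ∈ normalizer (R : Set C)) {t : C}
    (h1 : ∀ x ∈ R, t⁻¹ * x * t ∈ M) (h2 : t⁻¹ * c * t ∈ M) : t ∈ M := by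
  have hR2 : IsPGroup 2 R := k.syl.2.1.to_le hR
  obtain ⟨n, hn⟩ := two_el hR2 hcc
  refine h.max k m (P := zpowers c ⊔ R) ((le_sup_right : R ≤ _) hz) ?_ (two_sup hR2 hn hcn) ?_ ?_
  · rw [sup_le_iff, zpowers_le]; exact ⟨hc, hR.trans k.syl.1⟩
  · rw [hcard]; exact card_lt_sup R hcR
  · have h3 : ∀ x ∈ zpowers c ⊔ R, t⁻¹ * x * t⁻¹⁻¹ ∈ M := by
      apply conj_sup
      · apply conj_zpowers; rw [inv_inv]; exact h2
      · intro x hx; rw [inv_inv]; exact h1 x hx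
    intro x hx
    have := h3 x hx
    rwa [inv_inv] at this

/-- the other side -/
theorem other : ∃ A' : Subgroup C, A' ≤ Qh ∧ z ∈ A' ∧ Nat.card A = Nat.card A' ∧
    ∀ x, x ∈ A' ↔ g * x * g⁻¹ ∈ A := by
  refine ⟨A.map (MulAut.conj g⁻¹).toMonoidHom, ?_, ?_, (card_conj A g⁻¹).symm, ?_⟩
  · rintro _ ⟨x, hx, rfl⟩
    have := m.gA x hx
    show g⁻¹ * x * g⁻¹⁻¹ ∈ Qh
    rwa [inv_inv]
  · exact ⟨z, m.zA, h.z_conj _⟩
  · intro x
    constructor
    · rintro ⟨y, hy, rfl⟩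
      have e : g * (MulAut.conj g⁻¹).toMonoidHom y * g⁻¹ = y := by
        show g * (g⁻¹ * y * g⁻¹⁻¹) * g⁻¹ = y
        group
      rwa [e]
    · intro hx
      refine ⟨_, hx, ?_⟩
      show g⁻¹ * (g * x * g⁻¹) * g⁻¹⁻¹ = x
      group

/-- `x' = g y g⁻¹` normalizes `A` -/
theorem norm_y {y : C} (hy : y ∈ Qh) : g * y * g⁻¹ ∈ normalizer (A : Set C) ∧
    (g * y * g⁻¹) * (g * y * g⁻¹) ∈ A ∧
    ∀ a ∈ A, g * y * g⁻¹ * a * (g * y * g⁻¹)⁻¹ = a ∨ g * y * g⁻¹ * a * (g * y * g⁻¹)⁻¹ = z * a := by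
  have h1 : ∀ a ∈ A, g * y * g⁻¹ * a * (g * y * g⁻¹)⁻¹ = a ∨ g * y * g⁻¹ * a * (g * y * g⁻¹)⁻¹ = z * a := by
    intro a ha
    have e : g * y * g⁻¹ * a * (g * y * g⁻¹)⁻¹ = g * (y * (g⁻¹ * a * g) * y⁻¹) * g⁻¹ := by group
    rw [e]
    rcases h.hcomm k hy (m.gA a ha) with h2 | h2
    · left; rw [h2]; group
    · right; rw [h2, h.zcj]; group
  refine ⟨norm_fin ?_, ?_, h1⟩
  · intro a ha
    rcases h1 a ha with h2 | h2
    · rw [h2]; exact ha
    · rw [h2]; exact A.mul_mem m.zA ha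
  · have e : g * y * g⁻¹ * (g * y * g⁻¹) = g * (y * y) * g⁻¹ := by group
    rw [e]
    rcases h.hsq k hy with h2 | h2
    · rw [h2, mul_one, mul_inv_cancel]; exact A.one_mem
    · rw [h2, h.z_conj]; exact m.zA

theorem norm_x {x : C} (hx : x ∈ Qh) : x ∈ normalizer (A : Set C) ∧ x * x ∈ A := by
  constructor
  · apply norm_fin
    intro a ha
    rcases h.hcomm k hx (m.le ha) with h2 | h2
    · rw [h2]; exact ha
    · rw [h2]; exact A.mul_mem m.zA ha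
  · rcases h.hsq k hx with h2 | h2
    · rw [h2]; exact A.one_mem
    · rw [h2]; exact m.zA

/-- the element `c` lies in `g M g⁻¹` -/
theorem c_right {y c : C} (hy : y ∈ Qh) (hyA : g * y * g⁻¹ ∉ A) (hc : c ∈ normalizer (A : Set C))
    (hcy : c * (g * y * g⁻¹) * c⁻¹ * (g * y * g⁻¹)⁻¹ ∈ A) : g⁻¹ * c * g ∈ M := by
  obtain ⟨A', h1, h2, h3, h4⟩ := h.other k m
  refine h.norm_max k m h1 h2 h3 hy (fun h5 => hyA ((h4 y).1 h5)) (norm_fin ?_) ?_
  · intro x hx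
    rw [h4] at hx ⊢
    have e : g * (g⁻¹ * c * g * x * (g⁻¹ * c * g)⁻¹) * g⁻¹ = c * (g * x * g⁻¹) * c⁻¹ := by group
    rw [e]
    exact norm_conj hc hx
  · rw [h4]
    have e : g * (g⁻¹ * c * g * y * (g⁻¹ * c * g)⁻¹ * y⁻¹) * g⁻¹ =
      c * (g * y * g⁻¹) * c⁻¹ * (g * y * g⁻¹)⁻¹ := by group
    rw [e]
    exact hcy

/-- **conjugacy modulo `A`** -/
theorem conj_mod {x y : C} (hx : x ∈ Qh) (hxA : x ∉ A) (hy : y ∈ Qh) (hyA : g * y * g⁻¹ ∉ A) :
    ∃ u ∈ closure {x, g * y * g⁻¹}, u * x * u⁻¹ * (g * y * g⁻¹)⁻¹ ∈ A := by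
  obtain ⟨h1, h2, -⟩ := h.norm_y k m hy
  obtain ⟨h3, h4⟩ := h.norm_x k m hx
  rcases dih A h3 h1 h4 h2 with h5 | ⟨c, hc, hcA, hcc, hcx, hcy, hcase⟩
  · exact h5
  exfalso
  have hcN : c ∈ normalizer (A : Set C) := by
    have h6 : closure {x, g * y * g⁻¹} ≤ normalizer (A : Set C) := by
      rw [closure_le]
      rintro s hs
      rcases hs with rfl | hs
      · exact h3
      · rw [Set.mem_singleton_iff.1 hs]; exact h1
    exact h6 hc
  have hcM : c ∈ M := h.norm_max k m m.le m.zA rfl hx hxA hcN hcx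
  have hcM' : g⁻¹ * c * g ∈ M := h.c_right k m hy hyA hcN hcy
  -- `c` lies in `K`
  have hcK : c ∈ KK π Q := by
    have key : ∀ (w : C) (u : C), w ∈ Qh → u * w * u⁻¹ * (c * x)⁻¹ ∈ A → c ∈ KK π Q := by
      intro w u hw hu
      obtain ⟨n, hn⟩ := two_of_isPGroup k.syl.2.1 hw
      have h6 : u * w * u⁻¹ ∈ M := by
        have := M.mul_mem (h.hM k (m.le hu)) (M.mul_mem hcM (h.hM k hx))
        rwa [inv_mul_cancel_right] at this
      have h7 := h.c2 (h.hK k hw) hn h6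
      have h8 : c * x ∈ KK π Q := by
        have := (KK π Q).mul_mem ((KK π Q).inv_mem (h.hK k (m.le hu))) h7
        have e : (u * w * u⁻¹ * (c * x)⁻¹)⁻¹ * (u * w * u⁻¹) = c * x := by group
        rwa [e] at this
      exact h.K_of_mul h8 (h.hK k hx)
    rcases hcase with ⟨⟨u, -, hu⟩, -⟩ | ⟨⟨u, -, hu⟩, -⟩
    · exact key x u hx hu
    · refine key y (u * g) hy ?_
      have e : u * g * y * (u * g)⁻¹ * (c * x)⁻¹ = u * (g * y * g⁻¹) * u⁻¹ * (c * x)⁻¹ := by group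
      rw [e]
      exact hu
  exact m.ng (h.ext_max k m m.le m.zA rfl hcK hcA hcc hcN (fun a ha => h.hM k (m.gA a ha)) hcM')

theorem A_ne : A ≠ Qh := by
  rintro rfl
  have h1 : g⁻¹ ∈ M := by
    apply h.nq k
    intro x hx
    rw [inv_inv]
    exact m.gA x hx
  exact m.ng (by simpa using M.inv_mem h1)

theorem exists_x : ∃ x ∈ Qh, x ∉ A := by
  by_contra hcon
  push Not at hcon
  exact h.A_ne k m (le_antisymm m.le hcon)

theorem exists_y : ∃ y ∈ Qh, g * y * g⁻¹ ∉ A := by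
  obtain ⟨A', h1, h2, h3, h4⟩ := h.other k m
  by_contra hcon
  push Not at hcon
  have h5 : Qh ≤ A' := fun x hx => (h4 x).2 (hcon x hx)
  have h6 : A' = Qh := le_antisymm h1 h5
  rw [h6] at h3
  exact h.A_ne k m (Subgroup.eq_of_le_of_card_ge m.le (le_of_eq h3.symm))

/-- the image of `A` in `V` -/
theorem exists_S : ∃ S : Submodule (ZMod 2) V, ∀ v, v ∈ S ↔ ∃ a ∈ A, vec (pr π a) = v := by
  refine ⟨{ carrier := {v | ∃ a ∈ A, vec (pr π a) = v}, add_mem' := ?_, zero_mem' := ?_, smul_mem' := ?_ },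
    fun v => Iff.rfl⟩
  · rintro _ _ ⟨a, ha, rfl⟩ ⟨b, hb, rfl⟩
    exact ⟨a * b, A.mul_mem ha hb, h.vec_mul' k (m.le ha) (m.le hb)⟩
  · exact ⟨1, A.one_mem, by rw [pr_one, h.loc.vone]⟩
  · rintro c _ ⟨a, ha, rfl⟩
    rcases two_cases c with rfl | rfl
    · exact ⟨1, A.one_mem, by rw [pr_one, h.loc.vone, zero_smul]⟩
    · exact ⟨a, ha, by rw [one_smul]⟩

variable {S : Submodule (ZMod 2) V} (hS : ∀ v, v ∈ S ↔ ∃ a ∈ A, vec (pr π a) = v)
include hS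

theorem mem_S {x : C} (hx : x ∈ Qh) : vec (pr π x) ∈ S ↔ x ∈ A := by
  rw [hS]
  constructor
  · rintro ⟨a, ha, hax⟩
    rcases h.veq' k hx (m.le ha) hax.symm with h1 | h1
    · rw [h1]; exact ha
    · rw [h1]; exact A.mul_mem m.zA ha
  · intro hx; exact ⟨x, hx, rfl⟩

theorem S_ne_top : S ≠ ⊤ := by
  intro h1
  obtain ⟨x, hx, hxA⟩ := h.exists_x k m
  apply hxA
  rw [← h.mem_S k m hS hx, h1]
  exact Submodule.mem_top

theorem S_ne_bot : S ≠ ⊥ := by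
  intro h1
  have hAz : ∀ a ∈ A, a = 1 ∨ a = z := by
    intro a ha
    have h2 : vec (pr π a) ∈ S := (h.mem_S k m hS (m.le ha)).2 ha
    rw [h1, Submodule.mem_bot, ← h.loc.vone, ← pr_one (π := π)] at h2
    rcases h.veq' k (m.le ha) Qh.one_mem h2 with h3 | h3
    · left; exact h3
    · right; rw [h3, mul_one]
  obtain ⟨v, hv0, hqv⟩ := h.qf.sing
  obtain ⟨w, hqw⟩ := h.qf.nonsing
  obtain ⟨x, hx, rfl⟩ := h.hsrj k v
  obtain ⟨y, hy, rfl⟩ := h.hsrj k w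
  have hxx : x * x = 1 := by
    apply h.inj k (Qh.mul_mem hx hx) Qh.one_mem
    rw [pr_mul (h.hM k hx) (h.hM k hx), pr_one]
    exact h.loc.sq0 _ (h.hprQ k hx) hqv
  have hyy : y * y = z := by
    apply h.inj k (Qh.mul_mem hy hy) (h.zh k)
    rw [pr_mul (h.hM k hy) (h.hM k hy), h.pz]
    exact h.loc.sq1 _ (h.hprQ k hy) hqw
  have hsqA : ∀ a ∈ A, a * a = 1 := by
    intro a ha
    rcases hAz a ha with rfl | rfl
    · exact one_mul 1
    · exact h.zz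
  have hxA : x ∉ A := by
    intro h2
    apply hv0
    rcases hAz x h2 with rfl | rfl
    · rw [pr_one, h.loc.vone]
    · rw [h.pz, h.loc.vz]
  have hyA : g * y * g⁻¹ ∉ A := by
    intro h2
    have h3 := hsqA _ h2
    have e : g * y * g⁻¹ * (g * y * g⁻¹) = g * (y * y) * g⁻¹ := by group
    rw [e, hyy, h.z_conj] at h3
    exact h.z1 h3
  obtain ⟨u, -, hu⟩ := h.conj_mod k m hx hxA hy hyA
  obtain ⟨a, ha⟩ : ∃ a, a = u * x * u⁻¹ * (g * y * g⁻¹)⁻¹ := ⟨_, rfl⟩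
  rw [← ha] at hu
  have hac : ∀ c, c * a = a * c := by
    intro c
    rcases hAz a hu with h2 | h2
    · rw [h2, mul_one, one_mul]
    · rw [h2]; exact h.zc c
  have h2 : a * (g * y * g⁻¹) = u * x * u⁻¹ := by rw [ha]; group
  have h3 : a * (g * y * g⁻¹) * (a * (g * y * g⁻¹)) = z := by
    calc a * (g * y * g⁻¹) * (a * (g * y * g⁻¹)) = a * ((g * y * g⁻¹) * a) * (g * y * g⁻¹) := by group
      _ = a * (a * (g * y * g⁻¹)) * (g * y * g⁻¹) := by rw [hac]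
      _ = (a * a) * (g * (y * y) * g⁻¹) := by group
      _ = z := by rw [hsqA a hu, hyy, h.z_conj, one_mul]
  rw [h2] at h3
  apply h.z1
  rw [← h3]
  calc u * x * u⁻¹ * (u * x * u⁻¹) = u * (x * x) * u⁻¹ := by group
    _ = 1 := by rw [hxx]; group

/-- transitivity -/
theorem trs : Trs q B S := by
  intro v₁ v₂ hv₁ hv₂
  obtain ⟨x₁, hx₁, rfl⟩ := h.hsrj k v₁
  obtain ⟨x₂, hx₂, rfl⟩ := h.hsrj k v₂
  rw [h.mem_S k m hS hx₁] at hv₁
  rw [h.mem_S k m hS hx₂] at hv₂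
  obtain ⟨y, hy, hyA⟩ := h.exists_y k m
  obtain ⟨u₁, hu₁c, hu₁⟩ := h.conj_mod k m hx₁ hv₁ hy hyA
  obtain ⟨u₂, hu₂c, hu₂⟩ := h.conj_mod k m hx₂ hv₂ hy hyA
  -- elements of the closures
  have hcl : ∀ x ∈ Qh, ∀ u ∈ closure {x, g * y * g⁻¹}, u ∈ normalizer (A : Set C) ∧
      ∀ a ∈ A, u * a * u⁻¹ = a ∨ u * a * u⁻¹ = z * a := by
    intro x hx u hu
    let Y : Subgroup C :=
      { carrier := {c | ∀ a ∈ A, c * a * c⁻¹ = a ∨ c * a * c⁻¹ = z * a}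
        one_mem' := by intro x hx; left; group
        mul_mem' := by
          intro c d hc hd x hx
          have e : c * d * x * (c * d)⁻¹ = c * (d * x * d⁻¹) * c⁻¹ := by group
          rw [e]
          rcases hd x hx with hd | hd
          · rw [hd]; exact hc x hx
          · rw [hd, h.zcj]
            rcases hc x hx with hc | hc
            · right; rw [hc]
            · left; rw [hc, ← mul_assoc, h.zz, one_mul]
        inv_mem' := by
          intro c hc x hx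
          rcases hc x hx with hc | hc
          · left
            conv_lhs => rw [← hc]
            group
          · right
            have h3 : x = z * (c * x * c⁻¹) := by rw [hc, ← mul_assoc, h.zz, one_mul]
            conv_lhs => rw [h3, h.zcj]
            group }
    have h1 : closure {x, g * y * g⁻¹} ≤ Y := by
      rw [closure_le]
      rintro s hs
      rcases hs with rfl | hs
      · intro a ha
        exact h.hcomm k hx (m.le ha)
      · rw [Set.mem_singleton_iff.1 hs]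
        exact (h.norm_y k m hy).2.2
    have h2 : ∀ a ∈ A, u * a * u⁻¹ = a ∨ u * a * u⁻¹ = z * a := h1 hu
    refine ⟨norm_fin ?_, h2⟩
    intro a ha
    rcases h2 a ha with h3 | h3
    · rw [h3]; exact ha
    · rw [h3]; exact A.mul_mem m.zA ha
  obtain ⟨hn₁, ha₁⟩ := hcl x₁ hx₁ u₁ hu₁c
  obtain ⟨hn₂, ha₂⟩ := hcl x₂ hx₂ u₂ hu₂c
  obtain ⟨w, hw⟩ : ∃ w, w = u₂⁻¹ * u₁ := ⟨_, rfl⟩
  have hwN : w ∈ normalizer (A : Set C) := by
    rw [hw]; exact Subgroup.mul_mem _ (Subgroup.inv_mem _ hn₂) hn₁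
  have hwA : ∀ a ∈ A, w * a * w⁻¹ = a ∨ w * a * w⁻¹ = z * a := by
    intro a ha
    have e : w * a * w⁻¹ = u₂⁻¹ * (u₁ * a * u₁⁻¹) * u₂⁻¹⁻¹ := by rw [hw]; group
    have h2 : u₂⁻¹ * a * u₂⁻¹⁻¹ = a ∨ u₂⁻¹ * a * u₂⁻¹⁻¹ = z * a := by
      rcases ha₂ a ha with hc | hc
      · left
        conv_lhs => rw [← hc]
        group
      · right
        have h3 : a = z * (u₂ * a * u₂⁻¹) := by rw [hc, ← mul_assoc, h.zz, one_mul]
        conv_lhs => rw [h3, h.zcj]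
        group
    rw [e]
    rcases ha₁ a ha with h1 | h1
    · rw [h1]; exact h2
    · rw [h1, h.zcj]
      rcases h2 with h2 | h2
      · right; rw [h2]
      · left; rw [h2, ← mul_assoc, h.zz, one_mul]
  -- `w x₁ w⁻¹` lies in `A x₂`
  have hwx : w * x₁ * w⁻¹ * x₂⁻¹ ∈ A := by
    have h1 : u₁ * x₁ * u₁⁻¹ * (u₂ * x₂ * u₂⁻¹)⁻¹ ∈ A := by
      have := A.mul_mem hu₁ (A.inv_mem hu₂)
      have e : u₁ * x₁ * u₁⁻¹ * (g * y * g⁻¹)⁻¹ * (u₂ * x₂ * u₂⁻¹ * (g * y * g⁻¹)⁻¹)⁻¹ =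
        u₁ * x₁ * u₁⁻¹ * (u₂ * x₂ * u₂⁻¹)⁻¹ := by group
      rwa [e] at this
    have h2 := norm_conj (Subgroup.inv_mem _ hn₂) h1
    have e : u₂⁻¹ * (u₁ * x₁ * u₁⁻¹ * (u₂ * x₂ * u₂⁻¹)⁻¹) * u₂⁻¹⁻¹ = w * x₁ * w⁻¹ * x₂⁻¹ := by
      rw [hw]; group
    rwa [e] at h2
  have hwM : w ∈ M := by
    have hmy : x₂ ∈ zpowers x₂ ⊔ A := (le_sup_left : zpowers x₂ ≤ _) (mem_zpowers _)
    have hPQ : ∀ x ∈ Qh, zpowers x ⊔ A ≤ Qh := fun x hx => by
      rw [sup_le_iff, zpowers_le]; exact ⟨hx, m.le⟩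
    have h1 : w⁻¹ ∈ M := by
      refine h.max k m (P := zpowers x₁ ⊔ A) ((le_sup_right : A ≤ _) m.zA)
        ((hPQ x₁ hx₁).trans k.syl.1) (k.syl.2.1.to_le (hPQ x₁ hx₁)) (card_lt_sup A hv₁) ?_
      rw [inv_inv]
      have h2 : ∀ x ∈ zpowers x₁ ⊔ A, w * x * w⁻¹ ∈ zpowers x₂ ⊔ A := by
        apply conj_sup
        · apply conj_zpowers
          have := Subgroup.mul_mem _ ((le_sup_right : A ≤ zpowers x₂ ⊔ A) hwx) hmy
          rwa [inv_mul_cancel_right] at this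
        · intro x hx
          exact (le_sup_right : A ≤ _) (norm_conj hwN hx)
      intro x hx
      exact h.hM k (hPQ x₂ hx₂ (h2 x hx))
    simpa using M.inv_mem h1
  refine ⟨h.loc.rho (pr π w), h.loc.q_rho _, h.loc.B_rho h.qf _, ?_, ?_⟩
  · intro a₀ ha₀
    obtain ⟨a, ha, rfl⟩ := (hS a₀).1 ha₀
    rw [h.loc.rho_vec _ (h.hprQ k (m.le ha)), ← pr_conj hwM (h.hM k (m.le ha))]
    rcases hwA a ha with h1 | h1
    · rw [h1]
    · rw [h1, h.vec_z k (m.le ha)]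
  · rw [h.loc.rho_vec _ (h.hprQ k hx₁), ← pr_conj hwM (h.hM k hx₁), hS]
    refine ⟨_, hwx, ?_⟩
    have hwxQ : w * x₁ * w⁻¹ ∈ Qh := by
      have := Qh.mul_mem (m.le hwx) hx₂
      rwa [inv_mul_cancel_right] at this
    rw [h.vec_mul' k hwxQ (Qh.inv_mem hx₂), pr_inv (h.hM k hx₂), h.loc.vinv (h.hprQ k hx₂)]

/-- the contradiction -/
theorem absurd_mx : False := by
  obtain ⟨v, w, hp⟩ := exists_pair h.qf (h.S_ne_bot k m hS) (h.S_ne_top k m hS) (h.trs k m hS)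
  have hpair : Pair q B v w := ⟨hp.qv, hp.qw, hp.vw, hp.ne⟩
  obtain ⟨b₁, hbb₁, hact⟩ := h.loc.lift v w hpair
  have hB : IsB q B Q vec b₁ := ⟨hbb₁, v, w, hpair, hact⟩
  obtain ⟨b, hbM, hbb, hb1, hbn⟩ := h.lift_one k hB
  have hBb : IsB q B Q vec (pr π b) := by rw [hb1]; exact hB
  -- `b` is not in `K`
  have hbK : b ∉ KK π Q := by
    intro h1
    have h2 : b₁ ∈ Q := by rw [← hb1]; exact (mem_KK.1 h1).2
    have hv0 := h.qf.ne_zero_of_q hp.qv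
    have hw0 := h.qf.ne_zero_of_q hp.qw
    obtain ⟨u, hu⟩ := h.qf.exists_one hv0
    obtain ⟨x, hx, hxu⟩ := h.loc.vsurj u
    have h3 := hact x hx
    rw [h.loc.vcomm h2 hx, hxu, add_assoc] at h3
    have h4 := (left_eq_add.1 h3)
    have h5 := indep hv0 hw0 hp.ne h4
    rw [h5.1] at hu
    exact absurd hu (by decide)
  -- `b` normalizes `A`
  have hbA : ∀ a ∈ A, b * a * b⁻¹ ∈ A := by
    intro a ha
    rw [← h.mem_S k m hS (hbn a (m.le ha)), pr_conj hbM (h.hM k (m.le ha)), hb1,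
      hact _ (h.hprQ k (m.le ha)), add_assoc]
    have h1 := (h.mem_S k m hS (m.le ha)).2 ha
    exact S.add_mem h1 (hp.inv _ h1)
  have hbN : b ∈ normalizer (A : Set C) := norm_fin hbA
  have hbbA : b * b ∈ A := by rw [hbb]; exact A.one_mem
  obtain ⟨y, hy, hyA⟩ := h.exists_y k m
  obtain ⟨hyN, hyy, -⟩ := h.norm_y k m hy
  obtain ⟨n, hn⟩ := two_of_isPGroup k.syl.2.1 hy
  rcases dih A hbN hyN hbbA hyy with ⟨u, -, hu⟩ | ⟨c, hc, hcA, hcc, hcb, hcy, hcase⟩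
  · -- the odd case
    apply hbK
    obtain ⟨a, ha⟩ : ∃ a, a = u * b * u⁻¹ * (g * y * g⁻¹)⁻¹ := ⟨_, rfl⟩
    rw [← ha] at hu
    have h1 : g⁻¹ * a * g * y ∈ Qh := Qh.mul_mem (m.gA a hu) hy
    obtain ⟨n', hn'⟩ := two_of_isPGroup k.syl.2.1 h1
    have e : u⁻¹ * g * (g⁻¹ * a * g * y) * (u⁻¹ * g)⁻¹ = b := by rw [ha]; group
    have h2 := h.c2 (h.hK k h1) hn' (g := u⁻¹ * g) (by rw [e]; exact hbM)
    rwa [e] at h2
  have hcN : c ∈ normalizer (A : Set C) := by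
    have h6 : closure {b, g * y * g⁻¹} ≤ normalizer (A : Set C) := by
      rw [closure_le]
      rintro s hs
      rcases hs with rfl | hs
      · exact hbN
      · rw [Set.mem_singleton_iff.1 hs]; exact hyN
    exact h6 hc
  have hcM : c ∈ M := by
    apply h.good b hbM hbb hBb
    have := M.mul_mem (h.hM k (m.le hcb)) hbM
    rwa [inv_mul_cancel_right] at this
  have hcM' : g⁻¹ * c * g ∈ M := h.c_right k m hy hyA hcN hcy
  rcases hcase with ⟨-, ⟨u, -, hu⟩⟩ | ⟨⟨u, -, hu⟩, -⟩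
  · -- `c x'` is conjugate to `x'`
    obtain ⟨A', h1, h2, h3, h4⟩ := h.other k m
    -- `u x' u⁻¹ = a c x'`
    obtain ⟨a, ha⟩ : ∃ a, a = u * (g * y * g⁻¹) * u⁻¹ * (c * (g * y * g⁻¹))⁻¹ := ⟨_, rfl⟩
    rw [← ha] at hu
    have h5 : g⁻¹ * a * g * (g⁻¹ * c * g) * y ∈ M := M.mul_mem (M.mul_mem (h.hM k (m.gA a hu)) hcM') (h.hM k hy)
    have e : (g⁻¹ * u * g) * y * (g⁻¹ * u * g)⁻¹ = g⁻¹ * a * g * (g⁻¹ * c * g) * y := by rw [ha]; group
    have h6 := h.c2 (h.hK k hy) hn (g := g⁻¹ * u * g) (by rw [e]; exact h5)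
    rw [e] at h6
    have h7 : g⁻¹ * c * g ∈ KK π Q := by
      have h8 := h.K_of_mul h6 (h.hK k hy)
      have := (KK π Q).mul_mem ((KK π Q).inv_mem (h.hK k (m.gA a hu))) h8
      rwa [inv_mul_cancel_left] at this
    have h8 : g⁻¹ ∈ M := by
      refine h.ext_max k m h1 h2 h3 h7 ?_ ?_ (norm_fin ?_) ?_ ?_
      · rw [h4]
        have e : g * (g⁻¹ * c * g) * g⁻¹ = c := by group
        rwa [e]
      · rw [h4]
        have e : g * (g⁻¹ * c * g * (g⁻¹ * c * g)) * g⁻¹ = c * c := by group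
        rwa [e]
      · intro x hx
        rw [h4] at hx ⊢
        have e : g * (g⁻¹ * c * g * x * (g⁻¹ * c * g)⁻¹) * g⁻¹ = c * (g * x * g⁻¹) * c⁻¹ := by group
        rw [e]
        exact norm_conj hcN hx
      · intro x hx
        rw [inv_inv]
        exact h.hM k (m.le ((h4 x).1 hx))
      · rw [inv_inv]
        have e : g * (g⁻¹ * c * g) * g⁻¹ = c := by group
        rwa [e]
    exact m.ng (by simpa using M.inv_mem h8)
  · -- `c b` is conjugate to `x'`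
    obtain ⟨a, ha⟩ : ∃ a, a = u * (g * y * g⁻¹) * u⁻¹ * (c * b)⁻¹ := ⟨_, rfl⟩
    rw [← ha] at hu
    have e : (u * g) * y * (u * g)⁻¹ = a * (c * b) := by rw [ha]; group
    have h6 := h.c2 (h.hK k hy) hn (g := u * g) (by rw [e]; exact M.mul_mem (h.hM k (m.le hu)) (M.mul_mem hcM hbM))
    rw [e] at h6
    have h7 : c * b ∈ KK π Q := by
      have := (KK π Q).mul_mem ((KK π Q).inv_mem (h.hK k (m.le hu))) h6
      rwa [inv_mul_cancel_left] at this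
    -- `π c = b₁ k`
    obtain ⟨κ, hκ⟩ : ∃ κ, κ = b₁⁻¹ * pr π c := ⟨_, rfl⟩
    have hκQ : κ ∈ Q := by
      have h8 : pr π c * b₁ ∈ Q := by
        have := (mem_KK.1 h7).2
        rwa [pr_mul hcM hbM, hb1] at this
      have h9 := h.loc.norm b₁⁻¹ _ h8
      have e : b₁⁻¹ * (pr π c * b₁) * b₁⁻¹⁻¹ = κ := by
        calc b₁⁻¹ * (pr π c * b₁) * b₁⁻¹⁻¹ = b₁⁻¹ * pr π c * (b₁ * b₁) := by group
          _ = κ := by rw [hbb₁, mul_one, hκ]
      rwa [e] at h9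
    have hπc : pr π c = b₁ * κ := by rw [hκ]; group
    -- the image of `A`
    have hA1 : ((A.subgroupOf M).map π) ≤ Q := by
      rintro _ ⟨x, hx, rfl⟩
      rw [← pr_coe]
      exact h.hprQ k (m.le hx)
    have hmA1 : ∀ y, y ∈ (A.subgroupOf M).map π ↔ ∃ a ∈ A, pr π a = y := by
      intro y
      constructor
      · rintro ⟨x, hx, rfl⟩
        exact ⟨x, hx, pr_coe π x⟩
      · rintro ⟨x, hx, rfl⟩
        exact ⟨⟨x, h.hM k (m.le hx)⟩, hx, (pr_of π (h.hM k (m.le hx))).symm⟩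
    have hS1 : ∀ v, v ∈ S ↔ ∃ a ∈ (A.subgroupOf M).map π, vec a = v := by
      intro v
      rw [hS]
      constructor
      · rintro ⟨a, ha, rfl⟩
        exact ⟨_, (hmA1 _).2 ⟨a, ha, rfl⟩, rfl⟩
      · rintro ⟨_, ha₀, rfl⟩
        obtain ⟨a, ha, rfl⟩ := (hmA1 _).1 ha₀
        exact ⟨a, ha, rfl⟩
    obtain ⟨a₁, ha₁, hBa⟩ := h.loc.star hA1 hS1 hp hbb₁ hact hκQ (by
      rw [← hπc, ← pr_mul hcM hcM]
      exact (hmA1 _).2 ⟨_, hcc, rfl⟩)
    obtain ⟨a', ha', rfl⟩ := (hmA1 _).1 ha₁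
    rw [← hπc, ← pr_mul hcM (h.hM k (m.le ha'))] at hBa
    have hcaM : c * a' ∈ M := M.mul_mem hcM (h.hM k (m.le ha'))
    have hca : c * a' * (c * a') = 1 := by
      have h8 : c * a' * (c * a') ∈ A := by
        have h9 := A.mul_mem (A.mul_mem (norm_conj hcN ha') hcc) ha'
        have e : c * a' * c⁻¹ * (c * c) * a' = c * a' * (c * a') := by group
        rwa [e] at h9
      apply h.inj k (m.le h8) Qh.one_mem
      rw [pr_mul hcaM hcaM, hBa.1, pr_one]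
    have h8 : g⁻¹ ∈ M := by
      apply h.good (c * a') hcaM hca hBa
      rw [inv_inv]
      have := M.mul_mem hcM' (h.hM k (m.gA a' ha'))
      have e : g⁻¹ * c * g * (g⁻¹ * a' * g) = g⁻¹ * (c * a') * g := by group
      rwa [e] at this
    exact m.ng (by simpa using M.inv_mem h8)

end Hyp

/-- **The closing theorem** -/
theorem closing' {q : V → ZMod 2} {B : LinearMap.BilinForm (ZMod 2) V} {ζ : H} {Q : Subgroup H} {vec : H → V}
    {M : Subgroup C} {π : M →* H} {z : C} (h : Hyp q B ζ Q vec M π z) : M = ⊤ := by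
  by_contra hne
  obtain ⟨Qh, k⟩ := h.exists_hat
  obtain ⟨A, g, m⟩ := h.exists_mx k hne
  obtain ⟨S, hS⟩ := h.exists_S k m
  exact h.absurd_mx k m hS

/-- **The closing theorem** for groups like `2₋^(1+6) Ω₆⁻(2)` -/
theorem closing {q : V → ZMod 2} {B : LinearMap.BilinForm (ZMod 2) V} {ζ : H} {Q : Subgroup H} {vec : H → V}
    (hl : Loc q B ζ Q vec) (hq : QF q B) (C : Type*) [Group C] [Finite C] (M : Subgroup C) (π : M →* H)
    (hs : Function.Surjective π) (ho : Odd (Nat.card π.ker)) (z : M) (hz : ∀ c : C, c * z = z * c)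
    (hzz : z * z = 1) (hπz : π z = ζ)
    (hg : ∀ b : M, b * b = 1 → IsB q B Q vec (π b) → ∀ g : C, g * b * g⁻¹ ∈ M → g ∈ M) : M = ⊤ := by
  refine closing' (π := π) (z := (z : C)) ⟨hl, hq, hs, ho, z.2, hz, ?_, ?_, ?_⟩
  · exact congrArg Subtype.val hzz
  · rw [pr_coe, hπz]
  · intro b hb hbb hB g hgb
    refine hg ⟨b, hb⟩ (Subtype.ext hbb) ?_ g hgb
    rw [← pr_of π hb]
    exact hB

end Cfsg.Agent.SuzClosing
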