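import Mathlib

/-!
# Two elements inducing involutions of `N(A) / A`
-/

set_option autoImplicit false

namespace Cfsg.Agent.SuzClosing

open Subgroup

/-- Two involutions are conjugate, or centralize an involution of the group they generate. -/
theorem dihedral {G : Type*} [Group G] [Finite G] (s t : G) (hs : s * s = 1) (ht : t * t = 1) :
    (∃ g ∈ closure {s, t}, g * s * g⁻¹ = t) ∨
    ∃ c ∈ closure {s, t}, c ≠ 1 ∧ c * c = 1 ∧ c * s = s * c ∧ c * t = t * c ∧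
      (((∃ g ∈ closure {s, t}, g * s * g⁻¹ = c * s) ∧ (∃ g ∈ closure {s, t}, g * t * g⁻¹ = c * t)) ∨
       ((∃ g ∈ closure {s, t}, g * t * g⁻¹ = c * s) ∧ (∃ g ∈ closure {s, t}, g * s * g⁻¹ = c * t))) := by
  have hs' : s⁻¹ = s := inv_eq_of_mul_eq_one_left hs
  have ht' : t⁻¹ = t := inv_eq_of_mul_eq_one_left ht
  have hsm : s ∈ closure {s, t} := subset_closure (by simp)
  have htm : t ∈ closure {s, t} := subset_closure (by simp)
  obtain ⟨u, hu⟩ : ∃ u, u = s * t := ⟨_, rfl⟩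
  have hum : u ∈ closure {s, t} := by rw [hu]; exact mul_mem hsm htm
  have hpm : ∀ k : ℕ, u ^ k ∈ closure {s, t} := fun k => pow_mem hum k
  have hsu : s * u * s⁻¹ = u⁻¹ := by
    rw [hu, mul_inv_rev, hs', ht']
    calc s * (s * t) * s = (s * s) * t * s := by group
      _ = t * s := by rw [hs, one_mul]
  have hsuk : ∀ k : ℕ, s * u ^ k * s⁻¹ = (u ^ k)⁻¹ := by
    intro k
    rw [← inv_pow, ← hsu, conj_pow]
  have hsk : ∀ k : ℕ, s * (u ^ k)⁻¹ = u ^ k * s := by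
    intro k
    have h1 := hsuk k
    rw [mul_inv_eq_iff_eq_mul] at h1
    calc s * (u ^ k)⁻¹ = u ^ k * ((u ^ k)⁻¹ * s) * (u ^ k)⁻¹ := by group
      _ = u ^ k * (s * u ^ k) * (u ^ k)⁻¹ := by rw [h1]
      _ = u ^ k * s := by group
  have htu : t = u⁻¹ * s := by
    rw [hu, mul_inv_rev, hs', ht', mul_assoc, hs, mul_one]
  have hcs : ∀ k : ℕ, u ^ k * s * (u ^ k)⁻¹ = u ^ (2 * k) * s := by
    intro k
    rw [mul_assoc, hsk, ← mul_assoc, ← pow_add, two_mul]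
  have hct : ∀ k : ℕ, u ^ k * t * (u ^ k)⁻¹ = u ^ (2 * k) * t := by
    intro k
    calc u ^ k * t * (u ^ k)⁻¹ = u⁻¹ * (u ^ k * s * (u ^ k)⁻¹) := by rw [htu]; group
      _ = u⁻¹ * (u ^ (2 * k) * s) := by rw [hcs]
      _ = u ^ (2 * k) * (u⁻¹ * s) := by group
      _ = _ := by rw [← htu]
  have hn : 0 < orderOf u := orderOf_pos u
  rcases Nat.even_or_odd' (orderOf u) with ⟨m, hm | hm⟩
  · right
    have hm0 : m ≠ 0 := by omega
    have hc1 : u ^ m ≠ 1 := by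
      intro h1
      have := orderOf_dvd_of_pow_eq_one h1
      have := Nat.le_of_dvd (by omega) this
      omega
    have hc2 : u ^ m * u ^ m = 1 := by
      rw [← pow_add, ← two_mul, ← hm, pow_orderOf_eq_one]
    have hci : (u ^ m)⁻¹ = u ^ m := inv_eq_of_mul_eq_one_left hc2
    have hcc : u ^ m * s = s * u ^ m := by
      have h1 := hsk m
      rw [hci] at h1
      exact h1.symm
    refine ⟨u ^ m, hpm m, hc1, hc2, hcc, ?_, ?_⟩
    · rw [htu]
      calc u ^ m * (u⁻¹ * s) = u⁻¹ * (u ^ m * s) := by group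
        _ = u⁻¹ * (s * u ^ m) := by rw [hcc]
        _ = _ := by group
    · rcases Nat.even_or_odd' m with ⟨k, hk | hk⟩
      · left
        exact ⟨⟨u ^ k, hpm k, by rw [hcs, ← hk]⟩, ⟨u ^ k, hpm k, by rw [hct, ← hk]⟩⟩
      · right
        refine ⟨⟨u ^ (k + 1), hpm _, ?_⟩, ⟨u ^ k, hpm k, ?_⟩⟩
        · rw [hct, htu, show 2 * (k + 1) = m + 1 by omega, pow_succ]
          group
        · rw [hcs, htu, hk, pow_succ]
          group
  · left
    refine ⟨u ^ m, hpm m, ?_⟩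
    rw [hcs]
    have h1 : u ^ (2 * m) * u = 1 := by rw [← pow_succ, ← hm, pow_orderOf_eq_one]
    rw [htu, mul_left_inj]
    exact eq_inv_of_mul_eq_one_left h1

/-- The version modulo a subgroup normalized by both elements. -/
theorem dih {C : Type*} [Group C] [Finite C] (A : Subgroup C) {s t : C} (hs : s ∈ normalizer (A : Set C))
    (ht : t ∈ normalizer (A : Set C)) (hs2 : s * s ∈ A) (ht2 : t * t ∈ A) :
    (∃ g ∈ closure {s, t}, g * s * g⁻¹ * t⁻¹ ∈ A) ∨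
    ∃ c ∈ closure {s, t}, c ∉ A ∧ c * c ∈ A ∧ c * s * c⁻¹ * s⁻¹ ∈ A ∧ c * t * c⁻¹ * t⁻¹ ∈ A ∧
      (((∃ g ∈ closure {s, t}, g * s * g⁻¹ * (c * s)⁻¹ ∈ A) ∧
        (∃ g ∈ closure {s, t}, g * t * g⁻¹ * (c * t)⁻¹ ∈ A)) ∨
       ((∃ g ∈ closure {s, t}, g * t * g⁻¹ * (c * s)⁻¹ ∈ A) ∧
        (∃ g ∈ closure {s, t}, g * s * g⁻¹ * (c * t)⁻¹ ∈ A))) := by
  let N := normalizer (A : Set C)
  let A' : Subgroup N := A.subgroupOf N
  have hA' : A'.Normal := inferInstanceAs (A.subgroupOf (normalizer (A : Set C))).Normal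
  let s' : N := ⟨s, hs⟩
  let t' : N := ⟨t, ht⟩
  let p : N →* N ⧸ A' := QuotientGroup.mk' A'
  have hp : ∀ x : N, p x = 1 ↔ (x : C) ∈ A := fun x => by
    show ((x : N) : N ⧸ A') = 1 ↔ _
    rw [QuotientGroup.eq_one_iff]
    exact Iff.rfl
  have hpe : ∀ x y : N, p x = p y ↔ (x : C) * (y : C)⁻¹ ∈ A := fun x y => by
    rw [← mul_inv_eq_one, ← map_inv, ← map_mul, hp]; rfl
  have hcl : ∀ g ∈ closure {p s', p t'}, ∃ g' : N, (g' : C) ∈ closure {s, t} ∧ p g' = g := by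
    intro g hg
    have h1 : closure {p s', p t'} = (closure {s', t'}).map p := by
      rw [MonoidHom.map_closure]; congr 1
      rw [Set.image_pair]
    rw [h1] at hg
    obtain ⟨g', hg', rfl⟩ := hg
    refine ⟨g', ?_, rfl⟩
    have h2 : (closure {s', t'}).map N.subtype = closure {s, t} := by
      rw [MonoidHom.map_closure, Set.image_pair]; rfl
    rw [← h2]
    exact ⟨g', hg', rfl⟩
  rcases dihedral (p s') (p t') (by rw [← map_mul, hp]; exact hs2) (by rw [← map_mul, hp]; exact ht2) with h | h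
  · obtain ⟨g, hg, h⟩ := h
    obtain ⟨g', hg', rfl⟩ := hcl g hg
    left
    refine ⟨g', hg', ?_⟩
    rw [← map_inv, ← map_mul, ← map_mul, hpe] at h
    exact h
  · obtain ⟨c, hc, hc1, hc2, hcs, hct, h⟩ := h
    obtain ⟨c', hc', rfl⟩ := hcl c hc
    right
    refine ⟨c', hc', fun h1 => hc1 ((hp c').2 h1), ?_, ?_, ?_, ?_⟩
    · rw [← map_mul, hp] at hc2; exact hc2
    · rw [← map_mul, ← map_mul, hpe] at hcs
      have e : (c' : C) * s * (c' : C)⁻¹ * s⁻¹ = ((c' * s' : N) : C) * ((s' * c' : N) : C)⁻¹ := by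
        show (c' : C) * s * (c' : C)⁻¹ * s⁻¹ = (c' : C) * s * (s * (c' : C))⁻¹
        group
      rw [e]; exact hcs
    · rw [← map_mul, ← map_mul, hpe] at hct
      have e : (c' : C) * t * (c' : C)⁻¹ * t⁻¹ = ((c' * t' : N) : C) * ((t' * c' : N) : C)⁻¹ := by
        show (c' : C) * t * (c' : C)⁻¹ * t⁻¹ = (c' : C) * t * (t * (c' : C))⁻¹
        group
      rw [e]; exact hct
    · rcases h with ⟨⟨g, hg, h3⟩, ⟨k, hk, h4⟩⟩ | ⟨⟨g, hg, h3⟩, ⟨k, hk, h4⟩⟩
      · obtain ⟨g', hg', rfl⟩ := hcl g hg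
        obtain ⟨k', hk', rfl⟩ := hcl k hk
        rw [← map_inv, ← map_mul, ← map_mul, ← map_mul, hpe] at h3 h4
        exact Or.inl ⟨⟨g', hg', h3⟩, ⟨k', hk', h4⟩⟩
      · obtain ⟨g', hg', rfl⟩ := hcl g hg
        obtain ⟨k', hk', rfl⟩ := hcl k hk
        rw [← map_inv, ← map_mul, ← map_mul, ← map_mul, hpe] at h3 h4
        exact Or.inr ⟨⟨g', hg', h3⟩, ⟨k', hk', h4⟩⟩

end Cfsg.Agent.SuzClosing
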