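import Cfsg.Agent.StdLThreeFour.Syl

/-!
# Lifting 2-subgroups along a surjection with kernel of odd order, for a homomorphism from a subgroup
-/

set_option autoImplicit false

namespace Cfsg.Agent.SuzClosing

open Subgroup

variable {C H : Type*} [Group C] [Group H] {M : Subgroup C}

open Classical in
/-- the homomorphism `π : M → H` as a function on `C` -/
noncomputable def pr (π : M →* H) (x : C) : H := if hx : x ∈ M then π ⟨x, hx⟩ else 1

theorem pr_of (π : M →* H) {x : C} (hx : x ∈ M) : pr π x = π ⟨x, hx⟩ := dif_pos hx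

theorem pr_coe (π : M →* H) (x : M) : pr π (x : C) = π x := pr_of π x.2

variable {π : M →* H}

theorem pr_mul {x y : C} (hx : x ∈ M) (hy : y ∈ M) : pr π (x * y) = pr π x * pr π y := by
  rw [pr_of π hx, pr_of π hy, pr_of π (M.mul_mem hx hy), ← map_mul]; rfl

theorem pr_one : pr π (1 : C) = 1 := by
  rw [pr_of π M.one_mem]; exact map_one π

theorem pr_inv {x : C} (hx : x ∈ M) : pr π x⁻¹ = (pr π x)⁻¹ := by
  rw [pr_of π hx, pr_of π (M.inv_mem hx), ← map_inv]; rfl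

theorem pr_conj {x y : C} (hx : x ∈ M) (hy : y ∈ M) : pr π (x * y * x⁻¹) = pr π x * pr π y * (pr π x)⁻¹ := by
  rw [pr_mul (M.mul_mem hx hy) (M.inv_mem hx), pr_mul hx hy, pr_inv hx]

theorem pr_surj (hs : Function.Surjective π) (h : H) : ∃ x ∈ M, pr π x = h := by
  obtain ⟨x, hx⟩ := hs h
  exact ⟨x, x.2, by rw [pr_coe, hx]⟩

theorem pr_inj [Finite C] (ho : Odd (Nat.card π.ker)) {x : C} (hx : x ∈ M) {n : ℕ} (h2 : x ^ 2 ^ n = 1)
    (h : pr π x = 1) : x = 1 := by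
  rw [pr_of π hx] at h
  have h3 : orderOf (⟨⟨x, hx⟩, h⟩ : π.ker) ∣ Nat.card π.ker := orderOf_dvd_natCard _
  have h4 : orderOf (⟨⟨x, hx⟩, h⟩ : π.ker) = orderOf x := by
    rw [← Subgroup.orderOf_coe, ← Subgroup.orderOf_coe]
  rw [h4] at h3
  have h5 : orderOf x ∣ 2 ^ n := orderOf_dvd_of_pow_eq_one h2
  have h6 : Nat.Coprime (Nat.card π.ker) (2 ^ n) := (Nat.coprime_two_right.mpr ho).pow_right n
  exact orderOf_eq_one_iff.1 (Nat.eq_one_of_dvd_coprimes h6 h3 h5)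

theorem pr_inj2 [Finite C] (ho : Odd (Nat.card π.ker)) {P : Subgroup C} (hP : IsPGroup 2 P) (hPM : P ≤ M) {x y : C}
    (hx : x ∈ P) (hy : y ∈ P) (h : pr π x = pr π y) : x = y := by
  have h1 : x * y⁻¹ ∈ P := P.mul_mem hx (P.inv_mem hy)
  obtain ⟨n, hn⟩ := Cfsg.Agent.StdLThreeFour.Syl.two_of_isPGroup hP h1
  have h2 := pr_inj ho (hPM h1) hn (by
    rw [pr_mul (hPM hx) (M.inv_mem (hPM hy)), pr_inv (hPM hy), h, mul_inv_cancel])
  exact mul_inv_eq_one.1 h2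

/-- lifting of 2-subgroups -/
theorem pr_lift [Finite C] (hs : Function.Surjective π) {P₀ : Subgroup C} (hM : P₀ ≤ M) (h0 : IsPGroup 2 P₀)
    {P₁ : Subgroup H} (h1 : IsPGroup 2 P₁) (h : ∀ x ∈ P₀, pr π x ∈ P₁) :
    ∃ P : Subgroup C, P₀ ≤ P ∧ P ≤ M ∧ IsPGroup 2 P ∧ (∀ x ∈ P, pr π x ∈ P₁) ∧ ∀ y ∈ P₁, ∃ x ∈ P, pr π x = y := by
  have : Finite H := Finite.of_surjective π hs
  haveI : Fact (Nat.Prime 2) := ⟨Nat.prime_two⟩
  let D : Subgroup M := P₁.comap π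
  have hD : ∀ {x : C} (hx : x ∈ P₀), (⟨x, hM hx⟩ : M) ∈ D := by
    intro x hx
    have := h x hx
    rwa [pr_of π (hM hx)] at this
  have h3 : IsPGroup 2 ((P₀.subgroupOf M).subgroupOf D) :=
    (h0.comap_of_injective M.subtype M.subtype_injective).comap_of_injective D.subtype D.subtype_injective
  obtain ⟨S, hS⟩ := h3.exists_le_sylow
  have hf : Function.Surjective (π.subgroupComap P₁) := MonoidHom.subgroupComap_surjective_of_surjective π P₁ hs
  have h4 : (S.mapSurjective hf : Subgroup P₁) = ⊤ := by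
    have h5 : IsPGroup 2 (⊤ : Subgroup P₁) := h1.to_subgroup ⊤
    exact ((S.mapSurjective hf).3 h5 le_top).symm
  refine ⟨((S : Subgroup D).map D.subtype).map M.subtype, ?_, ?_, ?_, ?_, ?_⟩
  · intro x hx
    refine ⟨⟨x, hM hx⟩, ⟨⟨⟨x, hM hx⟩, hD hx⟩, hS ?_, rfl⟩, rfl⟩
    exact hx
  · rintro _ ⟨x, -, rfl⟩
    exact x.2
  · exact (S.2.map D.subtype).map M.subtype
  · rintro _ ⟨_, ⟨x, hx, rfl⟩, rfl⟩
    show pr π (x : M) ∈ P₁
    rw [pr_coe]
    exact x.2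
  · intro y hy
    have h5 : (⟨y, hy⟩ : P₁) ∈ (S.mapSurjective hf : Subgroup P₁) := by rw [h4]; exact Subgroup.mem_top _
    rw [Sylow.coe_mapSurjective] at h5
    obtain ⟨x, hx, hxy⟩ := h5
    refine ⟨(x : M), ⟨_, ⟨x, hx, rfl⟩, rfl⟩, ?_⟩
    rw [pr_coe]
    exact congrArg Subtype.val hxy

end Cfsg.Agent.SuzClosing
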