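import Cfsg.Agent.SuzClosing.Comm
import Cfsg.Agent.SuzClosing.Dih
import Cfsg.Agent.SuzClosing.Lift

/-!
# Closing argument, basic facts
-/

set_option autoImplicit false
set_option linter.unusedSectionVars false
set_option linter.style.haveILetI false

namespace Cfsg.Agent.SuzClosing

open Subgroup Cfsg.Agent.StdLThreeFour.Syl

section gen

variable {G : Type*} [Group G]

theorem norm_fin [Finite G] {R : Subgroup G} {c : G} (h : ∀ x ∈ R, c * x * c⁻¹ ∈ R) :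
    c ∈ normalizer (R : Set G) :=
  Subgroup.mem_normalizer_fintype (S := (R : Set G)) h

theorem norm_of_sq {R : Subgroup G} {c : G} (hc : c * c ∈ R) (h : ∀ x ∈ R, c * x * c⁻¹ ∈ R) :
    c ∈ normalizer (R : Set G) := by
  rw [mem_normalizer_iff]
  intro x
  refine ⟨h x, fun hx => ?_⟩
  have h1 := R.mul_mem (R.mul_mem (R.inv_mem hc) (h _ hx)) hc
  have e : (c * c)⁻¹ * (c * (c * x * c⁻¹) * c⁻¹) * (c * c) = x := by group
  rwa [e] at h1

theorem norm_conj {R : Subgroup G} {c x : G} (hc : c ∈ normalizer (R : Set G)) (hx : x ∈ R) :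
    c * x * c⁻¹ ∈ R := (mem_normalizer_iff.1 hc x).1 hx

theorem conj_closure {S : Set G} {R : Subgroup G} {b : G} (h : ∀ s ∈ S, b * s * b⁻¹ ∈ R) :
    ∀ y ∈ closure S, b * y * b⁻¹ ∈ R := by
  have h1 : closure S ≤ R.comap (MulAut.conj b).toMonoidHom := by
    rw [closure_le]
    intro s hs
    exact h s hs
  intro y hy
  exact h1 hy

theorem conj_sup {A B R : Subgroup G} {b : G} (hA : ∀ s ∈ A, b * s * b⁻¹ ∈ R) (hB : ∀ s ∈ B, b * s * b⁻¹ ∈ R) :
    ∀ y ∈ A ⊔ B, b * y * b⁻¹ ∈ R := by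
  have h1 : A ⊔ B ≤ R.comap (MulAut.conj b).toMonoidHom := by
    rw [sup_le_iff]
    exact ⟨fun s hs => hA s hs, fun s hs => hB s hs⟩
  intro y hy
  exact h1 hy

theorem conj_zpowers {R : Subgroup G} {b c : G} (hc : b * c * b⁻¹ ∈ R) :
    ∀ y ∈ zpowers c, b * y * b⁻¹ ∈ R := by
  have h1 : zpowers c ≤ R.comap (MulAut.conj b).toMonoidHom := by
    rw [zpowers_le]
    exact hc
  intro y hy
  exact h1 hy

theorem two_sup {R : Subgroup G} (hR : IsPGroup 2 R) {b : G} {n : ℕ} (hb : b ^ 2 ^ n = 1)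
    (hn : b ∈ normalizer (R : Set G)) : IsPGroup 2 (zpowers b ⊔ R : Subgroup G) := by
  apply IsPGroup.to_sup_of_normal_right' (isPGroup_zpowers hb) hR
  rw [zpowers_le]
  exact hn

theorem two_el {R : Subgroup G} (hR : IsPGroup 2 R) {b : G} (hb : b * b ∈ R) : ∃ n : ℕ, b ^ 2 ^ n = 1 := by
  obtain ⟨n, hn⟩ := two_of_isPGroup hR hb
  refine ⟨n + 1, ?_⟩
  rw [pow_succ', pow_mul, pow_two]
  exact hn

theorem card_lt [Finite G] {A B : Subgroup G} (h : A ≤ B) {x : G} (hx : x ∈ B) (hxA : x ∉ A) :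
    Nat.card A < Nat.card B := by
  by_contra hc
  have h1 := Subgroup.eq_of_le_of_card_ge h (not_lt.1 hc)
  rw [h1] at hxA
  exact hxA hx

theorem card_lt_sup [Finite G] (A : Subgroup G) {x : G} (hxA : x ∉ A) :
    Nat.card A < Nat.card (zpowers x ⊔ A : Subgroup G) :=
  card_lt le_sup_right ((le_sup_left : zpowers x ≤ zpowers x ⊔ A) (mem_zpowers x)) hxA

end gen

variable {V : Type*} [AddCommGroup V] [Module (ZMod 2) V] {H : Type*} [Group H] {C : Type*} [Group C]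

/-- the hypotheses of the closing theorem -/
structure Hyp (q : V → ZMod 2) (B : LinearMap.BilinForm (ZMod 2) V) (ζ : H) (Q : Subgroup H) (vec : H → V)
    (M : Subgroup C) (π : M →* H) (z : C) : Prop where
  loc : Loc q B ζ Q vec
  qf : QF q B
  surj : Function.Surjective π
  odd : Odd (Nat.card π.ker)
  zM : z ∈ M
  zc : ∀ c : C, c * z = z * c
  zz : z * z = 1
  pz : pr π z = ζ
  good : ∀ b ∈ M, b * b = 1 → IsB q B Q vec (pr π b) → ∀ g : C, g * b * g⁻¹ ∈ M → g ∈ M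

/-- the preimage of `Q` -/
def KK {M : Subgroup C} (π : M →* H) (Q : Subgroup H) : Subgroup C := (Q.comap π).map M.subtype

theorem mem_KK {M : Subgroup C} {π : M →* H} {Q : Subgroup H} {x : C} : x ∈ KK π Q ↔ x ∈ M ∧ pr π x ∈ Q := by
  constructor
  · rintro ⟨y, hy, rfl⟩
    refine ⟨y.2, ?_⟩
    have := pr_coe π y
    rw [Subgroup.coe_subtype, this]
    exact hy
  · rintro ⟨h1, h2⟩
    refine ⟨⟨x, h1⟩, ?_, rfl⟩
    rwa [pr_of π h1] at h2

namespace Hyp

variable {q : V → ZMod 2} {B : LinearMap.BilinForm (ZMod 2) V} {ζ : H} {Q : Subgroup H} {vec : H → V}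
  {M : Subgroup C} {π : M →* H} {z : C} (h : Hyp q B ζ Q vec M π z)
include h

theorem zinv : z⁻¹ = z := inv_eq_of_mul_eq_one_left h.zz

theorem z1 : z ≠ 1 := by
  rintro rfl
  have := h.pz
  rw [pr_one] at this
  exact h.loc.z1 this.symm

theorem zcj (c x : C) : c * (z * x) * c⁻¹ = z * (c * x * c⁻¹) := by
  calc c * (z * x) * c⁻¹ = (c * z) * x * c⁻¹ := by group
    _ = (z * c) * x * c⁻¹ := by rw [h.zc]
    _ = _ := by group

theorem z_conj (c : C) : c * z * c⁻¹ = z := by rw [h.zc]; group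

theorem Q_two : IsPGroup 2 Q := by
  apply isPGroup_of_two
  intro x hx
  refine ⟨2, ?_⟩
  have e : x ^ 2 ^ 2 = (x * x) * (x * x) := by
    rw [show (2 : ℕ) ^ 2 = 4 by norm_num, pow_succ, pow_succ, pow_two]; group
  rw [e]
  rcases h.loc.sq_mem hx with h1 | h1
  · rw [h1, one_mul]
  · rw [h1, h.loc.zz]

theorem KM {x : C} (hx : x ∈ KK π Q) : x ∈ M := (mem_KK.1 hx).1

theorem K_conj {m x : C} (hm : m ∈ M) (hx : x ∈ KK π Q) : m * x * m⁻¹ ∈ KK π Q := by
  rw [mem_KK] at hx ⊢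
  refine ⟨M.mul_mem (M.mul_mem hm hx.1) (M.inv_mem hm), ?_⟩
  rw [pr_conj hm hx.1]
  exact h.loc.norm _ _ hx.2

theorem zK : z ∈ KK π Q := mem_KK.2 ⟨h.zM, by rw [h.pz]; exact h.loc.zQ⟩

theorem K_of_mul {x y : C} (hxy : x * y ∈ KK π Q) (hy : y ∈ KK π Q) : x ∈ KK π Q := by
  have := (KK π Q).mul_mem hxy ((KK π Q).inv_mem hy)
  rwa [mul_inv_cancel_right] at this

variable [Finite C]

/-- a 2-subgroup containing a good involution is contained in `M` -/
theorem two_le {P : Subgroup C} (hP : IsPGroup 2 P) {b : C} (hb : b ∈ P) (hM : b ∈ M) (hbb : b * b = 1)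
    (hB : IsB q B Q vec (pr π b)) : P ≤ M := by
  have h1 : P = P ⊓ M := by
    apply Cfsg.Agent.Blocks.SylowIn.eq_of_normalizer_inf_le (p := 2) hP inf_le_left
    rintro x ⟨hx1, hx2⟩
    refine ⟨hx2, ?_⟩
    have h2 := norm_conj hx1 (show b ∈ P ⊓ M from ⟨hb, hM⟩)
    exact h.good b hM hbb hB x h2.2
  rw [h1]
  exact inf_le_right

theorem sq_one {b : C} {P : Subgroup C} (hP : IsPGroup 2 P) (hPM : P ≤ M) (hb : b ∈ P)
    (hbb : pr π b * pr π b = 1) : b * b = 1 := by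
  apply pr_inj2 h.odd hP hPM (P.mul_mem hb hb) P.one_mem
  rw [pr_mul (hPM hb) (hPM hb), hbb, pr_one]

/-- good involutions commuting modulo `z` with `a` -/
theorem exists_b {a : C} (ha : a ∈ M) (haa : a * a = 1 ∨ a * a = z) (h1 : a ≠ 1) (hz : a ≠ z) :
    ∃ b ∈ M, b * b = 1 ∧ IsB q B Q vec (pr π b) ∧ (b * a * b⁻¹ = a ∨ b * a * b⁻¹ = z * a) := by
  have h4 : a ^ 2 ^ 2 = 1 := by
    have e : a ^ 2 ^ 2 = (a * a) * (a * a) := by
      rw [show (2 : ℕ) ^ 2 = 4 by norm_num, pow_succ, pow_succ, pow_two]; group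
    rw [e]
    rcases haa with h1 | h1
    · rw [h1, one_mul]
    · rw [h1, h.zz]
  have hza : a * z = z * a := h.zc a
  have hz2 : z ^ 2 ^ 1 = 1 := by rw [pow_one, pow_two]; exact h.zz
  -- the group generated by `a` and `z`
  have hza2 : IsPGroup 2 (zpowers a ⊔ zpowers z : Subgroup C) := by
    refine two_sup (isPGroup_zpowers hz2) h4 (norm_fin ?_)
    apply conj_zpowers
    rw [h.z_conj]
    exact mem_zpowers z
  have hzaM : zpowers a ⊔ zpowers z ≤ M := by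
    rw [sup_le_iff, zpowers_le, zpowers_le]
    exact ⟨ha, h.zM⟩
  have hma : a ∈ zpowers a ⊔ zpowers z := (le_sup_left : zpowers a ≤ _) (mem_zpowers a)
  have hmz : z ∈ zpowers a ⊔ zpowers z := (le_sup_right : zpowers z ≤ _) (mem_zpowers z)
  have g1 : pr π a ≠ 1 := by
    intro h2
    apply h1
    apply pr_inj2 h.odd hza2 hzaM hma (Subgroup.one_mem _)
    rw [h2, pr_one]
  have g2 : pr π a ≠ ζ := by
    intro h2
    apply hz
    apply pr_inj2 h.odd hza2 hzaM hma hmz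
    rw [h2, h.pz]
  have g3 : pr π a * pr π a = 1 ∨ pr π a * pr π a = ζ := by
    rw [← pr_mul ha ha]
    rcases haa with h2 | h2
    · left; rw [h2, pr_one]
    · right; rw [h2, h.pz]
  obtain ⟨b₁, hB, hc⟩ := h.loc.exists_comm h.qf g3 g1 g2
  have hbb : b₁ * b₁ = 1 := hB.1
  have hc' : b₁ * pr π a * b₁⁻¹ = pr π a ∨ b₁ * pr π a * b₁⁻¹ = ζ * pr π a := by
    rcases hc with hc | hc
    · left; rw [hc]; group
    · right; rw [hc]; group
  have hb2 : b₁ ^ 2 ^ 1 = 1 := by rw [pow_one, pow_two]; exact hbb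
  have ha2 : pr π a ^ 2 ^ 2 = 1 := by
    have e : pr π a ^ 2 ^ 2 = (pr π a * pr π a) * (pr π a * pr π a) := by
      rw [show (2 : ℕ) ^ 2 = 4 by norm_num, pow_succ, pow_succ, pow_two]; group
    rw [e]
    rcases g3 with h1 | h1
    · rw [h1, one_mul]
    · rw [h1, h.loc.zz]
  have hζ2 : ζ ^ 2 ^ 1 = 1 := by rw [pow_one, pow_two]; exact h.loc.zz
  have hζc : ∀ g : H, g * ζ * g⁻¹ = ζ := fun g => by rw [h.loc.zc]; group
  haveI : Finite H := Finite.of_surjective π h.surj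
  have hR : IsPGroup 2 (zpowers (pr π a) ⊔ zpowers ζ : Subgroup H) := by
    refine two_sup (isPGroup_zpowers hζ2) ha2 (norm_fin ?_)
    apply conj_zpowers
    rw [hζc]
    exact mem_zpowers ζ
  have hma' : pr π a ∈ zpowers (pr π a) ⊔ zpowers ζ := (le_sup_left : zpowers (pr π a) ≤ _) (mem_zpowers _)
  have hmz' : ζ ∈ zpowers (pr π a) ⊔ zpowers ζ := (le_sup_right : zpowers ζ ≤ _) (mem_zpowers _)
  have hP₁ : IsPGroup 2 (zpowers b₁ ⊔ (zpowers (pr π a) ⊔ zpowers ζ) : Subgroup H) := by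
    refine two_sup hR hb2 (norm_fin ?_)
    apply conj_sup
    · apply conj_zpowers
      rcases hc' with hc' | hc'
      · rw [hc']; exact hma'
      · rw [hc']; exact Subgroup.mul_mem _ hmz' hma'
    · apply conj_zpowers
      rw [hζc]
      exact hmz'
  have hle : zpowers a ⊔ zpowers z ≤ KK π (zpowers b₁ ⊔ (zpowers (pr π a) ⊔ zpowers ζ)) := by
    rw [sup_le_iff, zpowers_le, zpowers_le, mem_KK, mem_KK, h.pz]
    exact ⟨⟨ha, (le_sup_right : zpowers (pr π a) ⊔ zpowers ζ ≤ _) hma'⟩,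
      ⟨h.zM, (le_sup_right : zpowers (pr π a) ⊔ zpowers ζ ≤ _) hmz'⟩⟩
  obtain ⟨P, hP0, hPM, hP2, -, hPs⟩ := pr_lift h.surj hzaM hza2 hP₁ (fun x hx => (mem_KK.1 (hle hx)).2)
  obtain ⟨b, hb, rfl⟩ := hPs b₁ ((le_sup_left : zpowers b₁ ≤ _) (mem_zpowers _))
  have haP := hP0 hma
  have hzP := hP0 hmz
  have hbM := hPM hb
  refine ⟨b, hbM, h.sq_one hP2 hPM hb hbb, hB, ?_⟩
  rcases hc' with hc' | hc'
  · left
    apply pr_inj2 h.odd hP2 hPM (P.mul_mem (P.mul_mem hb haP) (P.inv_mem hb)) haP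
    rw [pr_conj hbM ha, hc']
  · right
    apply pr_inj2 h.odd hP2 hPM (P.mul_mem (P.mul_mem hb haP) (P.inv_mem hb)) (P.mul_mem hzP haP)
    rw [pr_conj hbM ha, hc', pr_mul h.zM ha, h.pz]

theorem sq_of_K {a : C} (ha : a ∈ KK π Q) {n : ℕ} (h2 : a ^ 2 ^ n = 1) : a * a = 1 ∨ a * a = z := by
  have hz2 : z ^ 2 ^ 1 = 1 := by rw [pow_one, pow_two]; exact h.zz
  have hza2 : IsPGroup 2 (zpowers a ⊔ zpowers z : Subgroup C) := by
    refine two_sup (isPGroup_zpowers hz2) h2 (norm_fin ?_)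
    apply conj_zpowers
    rw [h.z_conj]
    exact mem_zpowers z
  have hzaM : zpowers a ⊔ zpowers z ≤ M := by
    rw [sup_le_iff, zpowers_le, zpowers_le]
    exact ⟨h.KM ha, h.zM⟩
  have hma : a ∈ zpowers a ⊔ zpowers z := (le_sup_left : zpowers a ≤ _) (mem_zpowers a)
  have hmz : z ∈ zpowers a ⊔ zpowers z := (le_sup_right : zpowers z ≤ _) (mem_zpowers z)
  rcases h.loc.sq_mem (mem_KK.1 ha).2 with h3 | h3
  · left
    apply pr_inj2 h.odd hza2 hzaM (Subgroup.mul_mem _ hma hma) (Subgroup.one_mem _)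
    rw [pr_mul (h.KM ha) (h.KM ha), h3, pr_one]
  · right
    apply pr_inj2 h.odd hza2 hzaM (Subgroup.mul_mem _ hma hma) hmz
    rw [pr_mul (h.KM ha) (h.KM ha), h3, h.pz]

/-- **(C2)** -/
theorem c2 {a g : C} (ha : a ∈ KK π Q) {n : ℕ} (h2 : a ^ 2 ^ n = 1) (hg : g * a * g⁻¹ ∈ M) :
    g * a * g⁻¹ ∈ KK π Q := by
  by_cases ha1 : a = 1
  · rw [ha1, mul_one, mul_inv_cancel]; exact (KK π Q).one_mem
  by_cases haz : a = z
  · rw [haz, h.z_conj]; exact h.zK
  have haa := h.sq_of_K ha h2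
  -- the group `C_a`
  let Ca : Subgroup C :=
    { carrier := {c | c * a * c⁻¹ = a ∨ c * a * c⁻¹ = z * a}
      one_mem' := by left; group
      mul_mem' := by
        intro c d hc hd
        have e : c * d * a * (c * d)⁻¹ = c * (d * a * d⁻¹) * c⁻¹ := by group
        show c * d * a * (c * d)⁻¹ = a ∨ c * d * a * (c * d)⁻¹ = z * a
        rw [e]
        rcases hd with hd | hd
        · rw [hd]; exact hc
        · rw [hd, h.zcj]
          rcases hc with hc | hc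
          · right; rw [hc]
          · left; rw [hc, ← mul_assoc, h.zz, one_mul]
      inv_mem' := by
        intro c hc
        show c⁻¹ * a * c⁻¹⁻¹ = a ∨ c⁻¹ * a * c⁻¹⁻¹ = z * a
        rcases hc with hc | hc
        · left
          conv_lhs => rw [← hc]
          group
        · right
          have h3 : a = z * (c * a * c⁻¹) := by rw [hc, ← mul_assoc, h.zz, one_mul]
          conv_lhs => rw [h3, h.zcj]
          group }
  have hCa : ∀ {c : C}, c ∈ Ca ↔ c * a * c⁻¹ = a ∨ c * a * c⁻¹ = z * a := Iff.rfl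
  obtain ⟨b, hbM, hbb, hbB, hba⟩ := h.exists_b (h.KM ha) haa ha1 haz
  obtain ⟨S, hS, hbS⟩ := exists_isSyl (H := Ca ⊓ M) (Q := zpowers b) (by
    rw [zpowers_le]; exact ⟨hba, hbM⟩) (isPGroup_zpowers (n := 1) (by rw [pow_one, pow_two]; exact hbb))
  rw [zpowers_le] at hbS
  have hS' : IsSyl S Ca := by
    refine ⟨hS.1.trans inf_le_left, hS.2.1, fun R hR hR2 hSR => ?_⟩
    exact hS.2.2 R (le_inf hR (h.two_le hR2 (hSR hbS) hbM hbb hbB)) hR2 hSR
  -- the element `b'` for the conjugate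
  have haa' : g * a * g⁻¹ * (g * a * g⁻¹) = 1 ∨ g * a * g⁻¹ * (g * a * g⁻¹) = z := by
    have e : g * a * g⁻¹ * (g * a * g⁻¹) = g * (a * a) * g⁻¹ := by group
    rw [e]
    rcases haa with h3 | h3
    · left; rw [h3]; group
    · right; rw [h3, h.z_conj]
  obtain ⟨b', hbM', hbb', hbB', hba'⟩ := h.exists_b hg haa'
    (by
      intro h3
      apply ha1
      have : a = g⁻¹ * (g * a * g⁻¹) * g := by group
      rw [this, h3]; group)
    (by
      intro h3
      apply haz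
      have : a = g⁻¹ * (g * a * g⁻¹) * g⁻¹⁻¹ := by group
      rw [this, h3, h.z_conj])
  have h5 : g⁻¹ * b' * g ∈ Ca := by
    rw [hCa]
    have e : g⁻¹ * b' * g * a * (g⁻¹ * b' * g)⁻¹ = g⁻¹ * (b' * (g * a * g⁻¹) * b'⁻¹) * g⁻¹⁻¹ := by group
    rw [e]
    rcases hba' with h3 | h3
    · left; rw [h3]; group
    · right; rw [h3, h.zcj]; group
  obtain ⟨c, hc, hcS⟩ := hS'.exists_conj_mem (Q := zpowers (g⁻¹ * b' * g)) (by rw [zpowers_le]; exact h5)
    (isPGroup_zpowers (n := 1) (by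
      rw [pow_one, pow_two]
      have e : g⁻¹ * b' * g * (g⁻¹ * b' * g) = g⁻¹ * (b' * b') * g := by group
      rw [e, hbb']; group))
  have h6 := hcS _ (mem_zpowers _)
  have h7 : c * g⁻¹ ∈ M := by
    apply h.good b' hbM' hbb' hbB'
    have e : c * g⁻¹ * b' * (c * g⁻¹)⁻¹ = c * (g⁻¹ * b' * g) * c⁻¹ := by group
    rw [e]
    exact (hS.1 h6).2
  have h8 : g * c⁻¹ ∈ M := by
    have := M.inv_mem h7
    rwa [mul_inv_rev, inv_inv] at this
  have h9 := h.K_conj h8 ha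
  have h10 : c⁻¹ * a * c⁻¹⁻¹ = a ∨ c⁻¹ * a * c⁻¹⁻¹ = z * a := hCa.1 (Ca.inv_mem hc)
  have e : g * c⁻¹ * a * (g * c⁻¹)⁻¹ = g * (c⁻¹ * a * c⁻¹⁻¹) * g⁻¹ := by group
  rw [e] at h9
  rcases h10 with h10 | h10
  · rwa [h10] at h9
  · rw [h10, h.zcj] at h9
    have := (KK π Q).mul_mem h.zK h9
    rwa [← mul_assoc, h.zz, one_mul] at this

end Hyp

end Cfsg.Agent.SuzClosing
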