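import Cfsg.Agent.SuzClosing.Loc

/-!
# Closing argument for groups of Suzuki type: every involution of `H / z` commutes with some `b`, `IsB b`
-/

set_option autoImplicit false

namespace Cfsg.Agent.SuzClosing

variable {V : Type*} [AddCommGroup V] [Module (ZMod 2) V] {H : Type*} [Group H]

theorem indep {v w : V} (hv : v ≠ 0) (hw : w ≠ 0) (hvw : v ≠ w) {c d : ZMod 2} (h : c • v + d • w = 0) :
    c = 0 ∧ d = 0 := by
  rcases two_cases c with rfl | rfl <;> rcases two_cases d with rfl | rfl
  · exact ⟨rfl, rfl⟩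
  · rw [zero_smul, one_smul, zero_add] at h; exact absurd h hw
  · rw [zero_smul, one_smul, add_zero] at h; exact absurd h hv
  · rw [one_smul, one_smul] at h; exact absurd (eq_of_add_eq_zero' h) hvw

namespace Loc

variable {q : V → ZMod 2} {B : LinearMap.BilinForm (ZMod 2) V} {z : H} {Q : Subgroup H} {vec : H → V}
  (h : Loc q B z Q vec)
include h

theorem rho_of_mem {g : H} (hg : g ∈ Q) (v : V) : h.rho g v = v := by
  conv_lhs => rw [← h.vec_sec v, h.rho_vec g (h.sec_mem v), h.vcomm hg (h.sec_mem v)]
  exact h.vec_sec v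

theorem rho_rho {x : H} (hxx : x * x = 1 ∨ x * x = z) (v : V) : h.rho x (h.rho x v) = v := by
  rw [← h.rho_mul]
  apply h.rho_of_mem
  rcases hxx with h1 | h1
  · rw [h1]; exact Q.one_mem
  · rw [h1]; exact h.zQ

theorem rho_inv {x : H} (hxx : x * x = 1 ∨ x * x = z) (v : V) : h.rho x⁻¹ v = h.rho x v := by
  have h1 : h.rho x⁻¹ (h.rho x (h.rho x v)) = h.rho x v := by
    rw [← h.rho_mul, inv_mul_cancel, h.rho_of_mem Q.one_mem]
  rwa [h.rho_rho hxx] at h1

/-- a nonsingular vector moved to an orthogonal vector -/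
theorem exists_swap (hq : QF q B) {x : H} (hxx : x * x = 1 ∨ x * x = z) (hxQ : x ∉ Q) :
    ∃ v, q v = 1 ∧ B v (h.rho x v) = 0 ∧ h.rho x v ≠ v := by
  by_contra hcon
  push Not at hcon
  have hrr := h.rho_rho hxx
  have hBr := h.B_rho hq x
  have hsw : ∀ v w, B w (h.rho x v) = B v (h.rho x w) := by
    intro v w
    rw [← hBr w (h.rho x v), hrr, hq.symm]
  let f : V →ₗ[ZMod 2] ZMod 2 :=
    { toFun := fun v => B v (h.rho x v)
      map_add' := by
        intro v w
        rw [map_add, map_add, map_add, LinearMap.add_apply, LinearMap.add_apply, hsw v w]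
        calc B v (h.rho x v) + B v (h.rho x w) + (B v (h.rho x w) + B w (h.rho x w))
            = B v (h.rho x v) + (B v (h.rho x w) + B v (h.rho x w)) + B w (h.rho x w) := by ring
          _ = _ := by rw [z2_add_self, add_zero]
      map_smul' := by
        intro c v
        rcases two_cases c with rfl | rfl
        · simp
        · simp }
  obtain ⟨u, hu⟩ := hq.dual f
  have hfix : ∀ v, q v = 1 → B u v = 0 → h.rho x v = v := fun v h1 h2 =>
    hcon v h1 (by rw [← h2, hu]; rfl)
  have hd : ∀ y, h.rho x y + y = 0 ∨ h.rho x y + y = u := by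
    intro y
    apply hq.L2 u
    intro v h1 h2
    rw [map_add, hsw y v, hfix v h1 h2, hq.symm y v, z2_add_self]
  have hmove : ∀ y, h.rho x y = y ∨ h.rho x y = y + u := by
    intro y
    rcases hd y with h1 | h1
    · left; exact eq_of_add_eq_zero' h1
    · right; rw [← h1, add_comm y, add_assoc, add_self', add_zero]
  by_cases hall : ∀ y, h.rho x y = y
  · apply hxQ
    apply h.cent
    intro y hy
    rw [← h.rho_vec x hy]; exact hall _
  · push Not at hall
    obtain ⟨y₀, hy₀⟩ := hall
    have hr0 : h.rho x y₀ = y₀ + u := (hmove y₀).resolve_left hy₀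
    have hu0 : u ≠ 0 := by
      rintro rfl
      rw [add_zero] at hr0
      exact hy₀ hr0
    have h6 : ∀ y, h.rho x y = y → B u y = 0 := by
      intro y hy
      have h7 := hBr y₀ y
      rw [hr0, hy, map_add, LinearMap.add_apply] at h7
      exact add_eq_left.1 h7
    have h7 : ∀ y, h.rho x y = y + u → B u y = B u y₀ := by
      intro y hy
      have h8 := hBr y₀ y
      have e1 : B (y₀ + u) (y + u) = B y₀ y + (B u y + B y₀ u) + B u u := by
        simp only [map_add, LinearMap.add_apply]; ring
      rw [hr0, hy, e1, hq.alt, add_zero] at h8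
      have h9 : B y₀ u + B u y = 0 := by
        rw [add_comm]; exact add_eq_left.1 h8
      rw [hq.symm y₀ u] at h9
      exact (eq_of_add_eq_zero' (V := ZMod 2) h9).symm
    have h8 : B u y₀ = 1 := by
      rcases two_cases (B u y₀) with h9 | h9
      · exfalso
        apply hu0
        apply hq.nondeg
        intro y
        rcases hmove y with h10 | h10
        · exact h6 y h10
        · rw [h7 y h10, h9]
      · exact h9
    have h5 : ∀ y, h.rho x y = y + B u y • u := by
      intro y
      rcases hmove y with h10 | h10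
      · rw [h6 y h10, zero_smul, add_zero]; exact h10
      · rw [h7 y h10, h8, one_smul]; exact h10
    have hqu : q u = 1 := by
      have h9 := h.q_rho x y₀
      rw [hr0, hq.qadd, hq.symm y₀ u, h8, add_assoc] at h9
      have h10 := add_eq_left.1 h9
      exact eq_of_add_eq_zero' (V := ZMod 2) h10
    exact h.notr x u hqu (fun y hy => by rw [← h.rho_vec x hy]; exact h5 _)

/-- Every element of `H` with square in `⟨z⟩` commutes modulo `z` with some `b`. -/
theorem exists_comm (hq : QF q B) {x : H} (hxx : x * x = 1 ∨ x * x = z) (h1 : x ≠ 1) (hz : x ≠ z) :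
    ∃ b, IsB q B Q vec b ∧ (b * x = x * b ∨ b * x = z * (x * b)) := by
  by_cases hxQ : x ∈ Q
  · have hu : vec x ≠ 0 := fun h0 => by
      rcases h.vker x hxQ h0 with h2 | h2
      · exact h1 h2
      · exact hz h2
    obtain ⟨v, w, qv, qw, vw, vne, uv, uw, -, -, -⟩ := hq.L1 _ hu
    obtain ⟨b, hb, ha⟩ := h.lift v w ⟨qv, qw, vw, vne⟩
    refine ⟨b, ⟨hb, v, w, ⟨qv, qw, vw, vne⟩, ha⟩, ?_⟩
    have h2 := ha x hxQ
    rw [hq.symm v, hq.symm w, uv, uw, zero_smul, zero_smul, add_zero, add_zero] at h2
    rcases h.veq (h.norm b x hxQ) hxQ h2 with h3 | h3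
    · left; exact mul_inv_eq_iff_eq_mul.1 h3
    · right; rw [mul_inv_eq_iff_eq_mul] at h3; rw [h3, mul_assoc]
  · obtain ⟨v, qv, vw, vne⟩ := h.exists_swap hq hxx hxQ
    set w := h.rho x v with hw
    have hwv : h.rho x w = v := h.rho_rho hxx v
    have hpair : Pair q B v w := ⟨qv, by rw [hw, h.q_rho, qv], vw, fun e => vne e.symm⟩
    have hv0 := hq.ne_zero_of_q hpair.qv
    have hw0 := hq.ne_zero_of_q hpair.qw
    have hvx : ∀ k, B v (h.rho x k) = B w k := by
      intro k
      rw [← h.B_rho hq x v (h.rho x k), h.rho_rho hxx, ← hw]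
    have hwx : ∀ k, B w (h.rho x k) = B v k := by
      intro k
      have h2 := h.B_rho hq x w (h.rho x k)
      rw [h.rho_rho hxx k, hwv] at h2
      exact h2.symm
    have hvv : B v v = 0 := hq.alt v
    have hww : B w w = 0 := hq.alt w
    have hwv' : B w v = 0 := by rw [hq.symm]; exact vw
    obtain ⟨b, hb, ha⟩ := h.lift v w hpair
    have hb' : b⁻¹ = b := inv_eq_of_mul_eq_one_left hb
    obtain ⟨e, he⟩ : ∃ e, e = b⁻¹ * (x * b * x⁻¹) := ⟨_, rfl⟩
    have hbe : x * b * x⁻¹ = b * e := by rw [he]; group
    have hxb : ∀ k, h.rho (x * b * x⁻¹) k = h.rho b k := by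
      intro k
      rw [h.rho_mul, h.rho_mul, h.rho_inv hxx, h.act_rho ha (h.rho x k), map_add, map_add, map_smul, map_smul,
        h.rho_rho hxx, hvx, hwx, ← hw, hwv, h.act_rho ha k]
      abel
    have heQ : e ∈ Q := by
      apply h.cent
      intro y hy
      rw [← h.rho_vec e hy, he, h.rho_mul, hxb, ← h.rho_mul, inv_mul_cancel, h.rho_of_mem Q.one_mem]
    -- (i)
    have hbe2 : b * e * (b * e) = 1 := by
      rw [← hbe]
      calc x * b * x⁻¹ * (x * b * x⁻¹) = x * (b * b) * x⁻¹ := by group
        _ = 1 := by rw [hb]; group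
    obtain ⟨ev, ew⟩ : B v (vec e) = 0 ∧ B w (vec e) = 0 := by
      have h2 := (h.vec_sq hb ha heQ).2
      rw [hbe2, h.vone] at h2
      exact indep hv0 hw0 hpair.ne h2.symm
    -- (ii)
    have hre : h.rho x (vec e) = vec e := by
      have h2 : x * (x * b * x⁻¹) * x⁻¹ = b := by
        rcases hxx with h3 | h3
        · calc x * (x * b * x⁻¹) * x⁻¹ = (x * x) * b * (x * x)⁻¹ := by group
            _ = b := by rw [h3]; group
        · calc x * (x * b * x⁻¹) * x⁻¹ = (x * x) * b * (x * x)⁻¹ := by group
            _ = b := by rw [h3, ← h.zc b]; group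
      have h4 : e * (x * e * x⁻¹) = 1 := by
        have h5 : x * (x * b * x⁻¹) * x⁻¹ = b * (e * (x * e * x⁻¹)) := by
          calc x * (x * b * x⁻¹) * x⁻¹ = x * (b * e) * x⁻¹ := by rw [hbe]
            _ = (x * b * x⁻¹) * (x * e * x⁻¹) := by group
            _ = b * e * (x * e * x⁻¹) := by rw [hbe]
            _ = _ := by group
        rw [h2] at h5
        exact (mul_eq_left.1 h5.symm)
      have h5 := h.vmul e heQ _ (h.norm x e heQ)
      rw [h4, h.vone, ← h.rho_vec x heQ] at h5
      exact (eq_of_add_eq_zero' h5.symm).symm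
    obtain ⟨d, hdQ, dv, dw, hd2, d0, d1, d3, d4⟩ := h.ex b v w hb hpair ha
    -- the element `k`
    obtain ⟨k, hkQ, kv, kw, hk2, hkI⟩ : ∃ k ∈ Q, B v (vec k) = 0 ∧ B w (vec k) = 0 ∧ b * k * (b * k) = 1 ∧
        (h.rho x (vec k) + vec e + vec k = 0 ∨ h.rho x (vec k) + vec e + vec k = v ∨
          h.rho x (vec k) + vec e + vec k = w ∨ h.rho x (vec k) + vec e + vec k = v + w) := by
      by_cases hI : vec e = 0 ∨ vec e = v ∨ vec e = w ∨ vec e = v + w
      · refine ⟨1, Q.one_mem, by rw [h.vone, map_zero], by rw [h.vone, map_zero], by rw [mul_one]; exact hb, ?_⟩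
        rw [h.vone, map_zero, zero_add, add_zero]; exact hI
      · have hdeQ := Q.mul_mem hdQ heQ
        have hvde : vec (d * e) = vec d + vec e := h.vmul d hdQ e heQ
        refine ⟨d * e, hdeQ, by rw [hvde, map_add, dv, ev, add_zero], by rw [hvde, map_add, dw, ew, add_zero], ?_, ?_⟩
        · by_contra h5
          have h6 := h.plus b v w hb hpair ha d hdQ _ hdeQ dv dw (by rw [hvde, map_add, dv, ev, add_zero])
            (by rw [hvde, map_add, dw, ew, add_zero]) hd2 h5
          rw [hvde, add_add_cancel'] at h6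
          exact hI h6
        · have hxd := h.norm x d hdQ
          have hyQ := Q.mul_mem heQ hxd
          have hvy : vec (e * (x * d * x⁻¹)) = vec e + h.rho x (vec d) := by
            rw [h.vmul e heQ _ hxd, h.rho_vec x hdQ]
          have hy2 : b * (e * (x * d * x⁻¹)) * (b * (e * (x * d * x⁻¹))) ≠ 1 := by
            have h5 : b * (e * (x * d * x⁻¹)) = x * (b * d) * x⁻¹ := by
              calc b * (e * (x * d * x⁻¹)) = (b * e) * (x * d * x⁻¹) := by group
                _ = (x * b * x⁻¹) * (x * d * x⁻¹) := by rw [hbe]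
                _ = _ := by group
            rw [h5]
            intro h6
            apply hd2
            calc b * d * (b * d) = x⁻¹ * (x * (b * d) * x⁻¹ * (x * (b * d) * x⁻¹)) * x := by group
              _ = 1 := by rw [h6]; group
          have h6 := h.plus b v w hb hpair ha d hdQ _ hyQ dv dw
            (by rw [hvy, map_add, ev, hvx, dw, add_zero]) (by rw [hvy, map_add, ew, hwx, dv, add_zero]) hd2 hy2
          rw [hvy] at h6
          have h7 : h.rho x (vec (d * e)) + vec e + vec (d * e) = vec d + (vec e + h.rho x (vec d)) := by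
            rw [hvde, map_add, hre]
            calc h.rho x (vec d) + vec e + vec e + (vec d + vec e)
                = (vec e + vec e) + (vec d + (vec e + h.rho x (vec d))) := by abel
              _ = _ := by rw [add_self', zero_add]
          rw [h7]; exact h6
    -- the fixed element
    have hfix : h.rho x (h.rho x (vec k) + vec e + vec k) = h.rho x (vec k) + vec e + vec k := by
      rw [map_add, map_add, h.rho_rho hxx, hre]; abel
    have hI2 : h.rho x (vec k) + vec e + vec k = 0 ∨ h.rho x (vec k) + vec e + vec k = v + w := by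
      rcases hkI with h5 | h5 | h5 | h5
      · left; exact h5
      · exfalso; rw [h5] at hfix; exact hpair.ne hfix.symm
      · exfalso; rw [h5, hwv] at hfix; exact hpair.ne hfix
      · right; exact h5
    obtain ⟨k₁, hk₁Q, hk₁2, hk₁v⟩ : ∃ k₁ ∈ Q, b * k₁ * (b * k₁) = 1 ∧ vec e + h.rho x (vec k₁) = vec k₁ := by
      rcases hI2 with h5 | h5
      · refine ⟨k, hkQ, hk2, ?_⟩
        rw [add_comm (vec e)]; exact eq_of_add_eq_zero' h5
      · obtain ⟨t, htQ, htv⟩ := h.vsurj v
        have hvkt : vec (k * t) = vec k + v := by rw [h.vmul k hkQ t htQ, htv]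
        refine ⟨k * t, Q.mul_mem hkQ htQ, ?_, ?_⟩
        · by_contra h6
          have hact := h.act_mul ha hkQ
          obtain ⟨d', hd'Q, dv', dw', hd2', d0', d1', d3', d4'⟩ := h.ex (b * k) v w hk2 hpair hact
          have h7 := h.plus (b * k) v w hk2 hpair hact d' hd'Q t htQ dv' dw' (by rw [htv]; exact hvv)
            (by rw [htv]; exact hwv') hd2' (by rw [mul_assoc b k t]; exact h6)
          rw [htv] at h7
          have hx : ∀ y, vec d' + v = y → vec d' = y + v := by
            intro y hy
            rw [← hy, add_assoc, add_self', add_zero]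
          rcases h7 with h7 | h7 | h7 | h7
          · exact d1' (by rw [hx _ h7, zero_add])
          · exact d0' (by rw [hx _ h7, add_self'])
          · exact d4' (by rw [hx _ h7, add_comm])
          · exact d3' (by rw [hx _ h7, add_comm v w, add_assoc, add_self', add_zero])
        · rw [hvkt, map_add, ← hw]
          have h8 : h.rho x (vec k) + vec e = v + w + vec k := by
            rw [← h5, add_assoc, add_self', add_zero]
          calc vec e + (h.rho x (vec k) + w) = (h.rho x (vec k) + vec e) + w := by abel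
            _ = v + w + vec k + w := by rw [h8]
            _ = (w + w) + (vec k + v) := by abel
            _ = vec k + v := by rw [add_self', zero_add]
    refine ⟨b * k₁, ⟨hk₁2, v, w, hpair, h.act_mul ha hk₁Q⟩, ?_⟩
    have hxk := h.norm x k₁ hk₁Q
    have hm : x * (b * k₁) * x⁻¹ = b * (e * (x * k₁ * x⁻¹)) := by
      calc x * (b * k₁) * x⁻¹ = (x * b * x⁻¹) * (x * k₁ * x⁻¹) := by group
        _ = b * e * (x * k₁ * x⁻¹) := by rw [hbe]
        _ = _ := by group
    have hvm : vec (e * (x * k₁ * x⁻¹)) = vec k₁ := by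
      rw [h.vmul e heQ _ hxk, ← h.rho_vec x hk₁Q]; exact hk₁v
    rcases h.veq (Q.mul_mem heQ hxk) hk₁Q hvm with h9 | h9
    · left
      rw [h9, mul_inv_eq_iff_eq_mul] at hm
      exact hm.symm
    · right
      rw [h9, mul_inv_eq_iff_eq_mul] at hm
      have h10 : x * (b * k₁) = z * (b * k₁ * x) := by
        rw [hm]
        calc b * (z * k₁) * x = (b * z) * k₁ * x := by group
          _ = z * b * k₁ * x := by rw [h.zc]
          _ = _ := by group
      rw [h10, ← mul_assoc, h.zz, one_mul]

end Loc

end Cfsg.Agent.SuzClosing
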