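import Mathlib

/-!
# Closing argument for groups of Suzuki type, linear algebra

`QF q B` : a nondegenerate quadratic form over `F₂` with some properties of the form of minus type in dimension 6.
`exists_pair` : if the pointwise stabilizer of a subspace `A ≠ 0` is transitive on the nonzero vectors of `V / A`,
there is a pair of orthogonal nonsingular vectors such that the product of the two transvections has good position
with respect to `A`.
-/

set_option autoImplicit false

namespace Cfsg.Agent.SuzClosing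

variable {V : Type*} [AddCommGroup V] [Module (ZMod 2) V]

/-- properties of the quadratic form of minus type on `F₂⁶` -/
structure QF (q : V → ZMod 2) (B : LinearMap.BilinForm (ZMod 2) V) : Prop where
  qadd : ∀ v w, q (v + w) = q v + q w + B v w
  dual : ∀ l : V →ₗ[ZMod 2] ZMod 2, ∃ u, ∀ v, B u v = l v
  nondeg : ∀ v, (∀ w, B v w = 0) → v = 0
  sing : ∃ v, v ≠ 0 ∧ q v = 0
  nonsing : ∃ v, q v = 1
  L1 : ∀ u, u ≠ 0 → ∃ v w, q v = 1 ∧ q w = 1 ∧ B v w = 0 ∧ v ≠ w ∧ B u v = 0 ∧ B u w = 0 ∧ u ≠ v ∧ u ≠ w ∧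
    u ≠ v + w
  L2 : ∀ u y, (∀ v, q v = 1 → B u v = 0 → B v y = 0) → y = 0 ∨ y = u
  big : ∀ v₁ v₂ v₃ v₄ : V, ∃ x, ∀ c₁ c₂ c₃ c₄ : ZMod 2, x ≠ c₁ • v₁ + c₂ • v₂ + c₃ • v₃ + c₄ • v₄

theorem two_cases : ∀ c : ZMod 2, c = 0 ∨ c = 1 := by decide

theorem add_self' (v : V) : v + v = 0 := by
  have h : (2 : ZMod 2) • v = v + v := two_smul _ v
  rw [← h]
  have : (2 : ZMod 2) = 0 := by decide
  rw [this, zero_smul]

theorem neg_self' (v : V) : -v = v := by
  rw [neg_eq_iff_add_eq_zero]; exact add_self' v

theorem eq_of_add_eq_zero' {v w : V} (h : v + w = 0) : v = w := by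
  rw [add_eq_zero_iff_eq_neg, neg_self'] at h; exact h

theorem add_add_cancel' (v w : V) : v + (v + w) = w := by
  rw [← add_assoc, add_self', zero_add]

theorem z2_add_self (c : ZMod 2) : c + c = 0 := by
  rcases two_cases c with rfl | rfl <;> decide

namespace QF

variable {q : V → ZMod 2} {B : LinearMap.BilinForm (ZMod 2) V} (hq : QF q B)
include hq

theorem q0 : q 0 = 0 := by
  have h := hq.qadd 0 0
  rw [add_zero, map_zero, add_zero] at h
  have h2 : q 0 + 0 = q 0 + q 0 := by rw [add_zero]; exact h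
  exact (add_left_cancel h2).symm

theorem alt (v : V) : B v v = 0 := by
  have h := hq.qadd v v
  rw [add_self', hq.q0, z2_add_self, zero_add] at h
  exact h.symm

theorem symm (v w : V) : B v w = B w v := by
  have h := hq.qadd v w
  have h' := hq.qadd w v
  rw [add_comm w v] at h'
  rw [h] at h'
  have h2 : q v + q w + B v w = q v + q w + B w v := by rw [h']; ring
  exact add_left_cancel h2

theorem ne_zero_of_q {v : V} (h : q v = 1) : v ≠ 0 := by
  rintro rfl
  rw [hq.q0] at h
  exact absurd h (by decide)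

/-- a vector not orthogonal to a nonzero vector -/
theorem exists_one {v : V} (hv : v ≠ 0) : ∃ a, B v a = 1 := by
  by_contra h
  push Not at h
  apply hv
  apply hq.nondeg
  intro w
  rcases two_cases (B v w) with h1 | h1
  · exact h1
  · exact absurd h1 (h w)

theorem exists_two {u v : V} (hu : u ≠ 0) (hv : v ≠ 0) (huv : u ≠ v) : ∃ a, B u a = 0 ∧ B v a = 1 := by
  by_contra h
  push Not at h
  obtain ⟨a₀, ha₀⟩ := hq.exists_one hu
  have key : ∀ a, B u a = 0 → B v a = 0 := by
    intro a ha
    rcases two_cases (B v a) with h1 | h1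
    · exact h1
    · exact absurd h1 (h a ha)
  have h2 : v + (B v a₀) • u = 0 := by
    apply hq.nondeg
    intro w
    rw [map_add, map_smul, LinearMap.add_apply, LinearMap.smul_apply, smul_eq_mul]
    have h3 := key (w + (B u w) • a₀) (by
      rw [map_add, map_smul, ha₀, smul_eq_mul, mul_one, z2_add_self])
    rw [map_add, map_smul, smul_eq_mul] at h3
    rw [← h3]; ring
  rcases two_cases (B v a₀) with h1 | h1
  · rw [h1, zero_smul, add_zero] at h2; exact hv h2
  · rw [h1, one_smul] at h2; exact huv (eq_of_add_eq_zero' h2).symm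

/-- independence of three vectors -/
theorem exists_three {u v w : V} (hu : u ≠ 0) (hv : v ≠ 0) (hw : w ≠ 0) (huv : u ≠ v) (huw : u ≠ w) (hvw : v ≠ w)
    (h3 : u ≠ v + w) : ∃ a, B u a = 0 ∧ B v a = 0 ∧ B w a = 1 := by
  by_contra h
  push Not at h
  obtain ⟨a₁, h11, h12⟩ := hq.exists_two hv hu huv.symm
  obtain ⟨a₂, h21, h22⟩ := hq.exists_two hu hv huv
  have key : ∀ a, B u a = 0 → B v a = 0 → B w a = 0 := by
    intro a ha ha'
    rcases two_cases (B w a) with h1 | h1
    · exact h1
    · exact absurd h1 (h a ha ha')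
  have h2 : w + (B w a₁) • u + (B w a₂) • v = 0 := by
    apply hq.nondeg
    intro x
    rw [map_add, map_add, map_smul, map_smul, LinearMap.add_apply, LinearMap.add_apply, LinearMap.smul_apply,
      LinearMap.smul_apply, smul_eq_mul, smul_eq_mul]
    have h3 := key (x + (B u x) • a₁ + (B v x) • a₂) (by
      rw [map_add, map_add, map_smul, map_smul, h12, h21, smul_eq_mul, smul_eq_mul, mul_one, mul_zero, add_zero,
        z2_add_self]) (by
      rw [map_add, map_add, map_smul, map_smul, h11, h22, smul_eq_mul, smul_eq_mul, mul_one, mul_zero, add_zero,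
        z2_add_self])
    rw [map_add, map_add, map_smul, map_smul, smul_eq_mul, smul_eq_mul] at h3
    rw [← h3]; ring
  rcases two_cases (B w a₁) with h1 | h1 <;> rcases two_cases (B w a₂) with h4 | h4 <;>
    simp only [h1, h4, zero_smul, one_smul, add_zero] at h2
  · exact hw h2
  · exact hvw (eq_of_add_eq_zero' h2).symm
  · exact huw (eq_of_add_eq_zero' h2).symm
  · apply h3
    have h5 : w + (u + v) = 0 := by rw [← add_assoc]; exact h2
    have h6 := eq_of_add_eq_zero' h5
    rw [h6, add_left_comm, add_self', add_zero]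

/-- prescribed values on three independent vectors -/
theorem exists_vals {u v w : V} (hu : u ≠ 0) (hv : v ≠ 0) (hw : w ≠ 0) (huv : u ≠ v) (huw : u ≠ w) (hvw : v ≠ w)
    (h3 : u ≠ v + w) (s t : ZMod 2) : ∃ a, B u a = 0 ∧ B v a = s ∧ B w a = t := by
  obtain ⟨a, ha1, ha2, ha3⟩ := hq.exists_three hu hv hw huv huw hvw h3
  obtain ⟨b, hb1, hb2, hb3⟩ := hq.exists_three hu hw hv huw huv hvw.symm (by rw [add_comm]; exact h3)
  refine ⟨s • b + t • a, ?_, ?_, ?_⟩
  · rw [map_add, map_smul, map_smul, ha1, hb1]; simp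
  · rw [map_add, map_smul, map_smul, ha2, hb3]; simp
  · rw [map_add, map_smul, map_smul, ha3, hb2]; simp

end QF

/-- The good position of the pair `v, w` with respect to `A`. -/
structure Pos (q : V → ZMod 2) (B : LinearMap.BilinForm (ZMod 2) V) (A : Submodule (ZMod 2) V) (v w : V) :
    Prop where
  qv : q v = 1
  qw : q w = 1
  vw : B v w = 0
  ne : v ≠ w
  inv : ∀ a ∈ A, B v a • v + B w a • w ∈ A
  adj : ∀ k, B v k • v + B w k • w ∈ A → ∃ a ∈ A, B v (k + a) = 0 ∧ B w (k + a) = 0
  oth : ∃ a ∈ A, B v a = 0 ∧ B w a = 0 ∧ a ≠ 0 ∧ a ≠ v ∧ a ≠ w ∧ a ≠ v + w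

/-- Transitivity of the pointwise stabilizer of `A`. -/
def Trs (q : V → ZMod 2) (B : LinearMap.BilinForm (ZMod 2) V) (A : Submodule (ZMod 2) V) : Prop :=
  ∀ x y, x ∉ A → y ∉ A → ∃ s : V →ₗ[ZMod 2] V, (∀ v, q (s v) = q v) ∧ (∀ v w, B (s v) (s w) = B v w) ∧
    (∀ a ∈ A, s a = a) ∧ s x + y ∈ A

theorem exists_pair {q : V → ZMod 2} {B : LinearMap.BilinForm (ZMod 2) V} (hq : QF q B)
    {A : Submodule (ZMod 2) V} (h0 : A ≠ ⊥) (h1 : A ≠ ⊤) (hT : Trs q B A) : ∃ v w, Pos q B A v w := by
  -- the orthogonal space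
  have key : ∀ x y, x ∉ A → y ∉ A → ∃ a ∈ A, ∀ c ∈ A, B (x + y + a) c = 0 := by
    intro x y hx hy
    obtain ⟨s, -, sB, sA, sxy⟩ := hT x y hx hy
    refine ⟨s x + y, sxy, ?_⟩
    intro c hc
    have h2 : B (s x) c = B x c := by
      conv_lhs => rw [← sA c hc]
      exact sB x c
    have e : x + y + (s x + y) = x + s x := by
      calc x + y + (s x + y) = x + s x + (y + y) := by abel
        _ = x + s x := by rw [add_self', add_zero]
    rw [e, map_add, LinearMap.add_apply, h2, z2_add_self]
  obtain ⟨y₀, hy₀⟩ : ∃ y, y ∉ A := by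
    by_contra h
    push Not at h
    exact h1 (eq_top_iff.2 fun x _ => h x)
  by_cases hP : ∀ p, (∀ c ∈ A, B p c = 0) → p ∈ A
  · -- case I : `A` is a hyperplane
    have hind : ∀ x y, x ∉ A → y ∉ A → x + y ∈ A := by
      intro x y hx hy
      obtain ⟨a, ha, h⟩ := key x y hx hy
      have h2 := hP _ h
      have h3 := A.add_mem h2 ha
      rwa [add_assoc, add_self', add_zero] at h3
    classical
    let l : V →ₗ[ZMod 2] ZMod 2 :=
      { toFun := fun x => if x ∈ A then 0 else 1
        map_add' := by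
          intro x y
          by_cases hx : x ∈ A <;> by_cases hy : y ∈ A
          · simp [hx, hy, A.add_mem hx hy]
          · have : x + y ∉ A := fun h => hy ((Submodule.add_mem_iff_right A hx).1 h)
            simp [hx, hy, this]
          · have : x + y ∉ A := fun h => hx ((Submodule.add_mem_iff_left A hy).1 h)
            simp [hx, hy, this]
          · have h3 := hind x y hx hy
            simp only [hx, hy, h3, if_true, if_false]
            decide
        map_smul' := by
          intro c x
          rcases two_cases c with rfl | rfl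
          · simp
          · simp }
    obtain ⟨u, hu⟩ := hq.dual l
    have hmem : ∀ x, x ∈ A ↔ B u x = 0 := by
      intro x
      rw [hu x]
      show _ ↔ (if x ∈ A then (0 : ZMod 2) else 1) = 0
      by_cases hx : x ∈ A <;> simp [hx]
    have hu0 : u ≠ 0 := by
      rintro rfl
      apply hy₀
      rw [hmem, map_zero, LinearMap.zero_apply]
    obtain ⟨v, w, qv, qw, vw, vne, uv, uw, n1, n2, n3⟩ := hq.L1 u hu0
    refine ⟨v, w, qv, qw, vw, vne, ?_, ?_, ?_⟩
    · intro a _
      rw [hmem, map_add, map_smul, map_smul, uv, uw]; simp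
    · intro k _
      obtain ⟨a, ha1, ha2, ha3⟩ := hq.exists_vals hu0 (hq.ne_zero_of_q qv) (hq.ne_zero_of_q qw) n1 n2 vne n3
        (B v k) (B w k)
      refine ⟨a, (hmem a).2 ha1, ?_, ?_⟩
      · rw [map_add, ha2, z2_add_self]
      · rw [map_add, ha3, z2_add_self]
    · exact ⟨u, (hmem u).2 (hq.alt u), by rw [hq.symm]; exact uv, by rw [hq.symm]; exact uw, hu0, n1, n2, n3⟩
  · -- case II
    push Not at hP
    obtain ⟨p, hp, hpA⟩ := hP
    have hdec : ∀ x, ∃ a ∈ A, ∃ r, (∀ c ∈ A, B r c = 0) ∧ x = a + r := by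
      intro x
      by_cases hx : x ∈ A
      · exact ⟨x, hx, 0, fun c _ => by rw [map_zero, LinearMap.zero_apply], (add_zero x).symm⟩
      · obtain ⟨a, ha, h⟩ := key p x hpA hx
        refine ⟨a, ha, p + (p + x + a), ?_, ?_⟩
        · intro c hc
          rw [map_add, LinearMap.add_apply, hp c hc, h c hc, add_zero]
        · calc x = x + (p + p) + (a + a) := by rw [add_self', add_self', add_zero, add_zero]
            _ = a + (p + (p + x + a)) := by abel
    have hint : ∀ r, (∀ c ∈ A, B r c = 0) → r ∈ A → r = 0 := by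
      intro r hr hrA
      apply hq.nondeg
      intro x
      obtain ⟨a, ha, s, hs, rfl⟩ := hdec x
      rw [map_add, hr a ha, zero_add, hq.symm]
      exact hs r hrA
    have hp0 : p ≠ 0 := by rintro rfl; exact hpA (zero_mem A)
    have hconst : ∀ r, (∀ c ∈ A, B r c = 0) → r ≠ 0 → q r = q p := by
      intro r hr hr0
      have hrA : r ∉ A := fun h => hr0 (hint r hr h)
      obtain ⟨s, sq, sB, sA, sxy⟩ := hT p r hpA hrA
      have hsp : ∀ c ∈ A, B (s p) c = 0 := by
        intro c hc
        have h2 : B (s p) c = B p c := by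
          conv_lhs => rw [← sA c hc]
          exact sB p c
        rw [h2, hp c hc]
      have h3 : s p + r = 0 := by
        apply hint _ _ sxy
        intro c hc
        rw [map_add, LinearMap.add_apply, hsp c hc, hr c hc, add_zero]
      rw [← eq_of_add_eq_zero' h3, sq]
    -- partners in the orthogonal space
    have hpart : ∀ r, (∀ c ∈ A, B r c = 0) → r ≠ 0 → ∃ r', (∀ c ∈ A, B r' c = 0) ∧ B r r' = 1 := by
      intro r hr hr0
      obtain ⟨x, hx⟩ := hq.exists_one hr0
      obtain ⟨a, ha, s, hs, rfl⟩ := hdec x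
      refine ⟨s, hs, ?_⟩
      rwa [map_add, hr a ha, zero_add] at hx
    have hadd : ∀ r r', (∀ c ∈ A, B r c = 0) → (∀ c ∈ A, B r' c = 0) → ∀ c ∈ A, B (r + r') c = 0 := by
      intro r r' hr hr' c hc
      rw [map_add, LinearMap.add_apply, hr c hc, hr' c hc, add_zero]
    have hqp : q p = 1 := by
      rcases two_cases (q p) with h | h
      · exfalso
        obtain ⟨r, hr, hpr⟩ := hpart p hp hp0
        have hr0 : r ≠ 0 := by
          rintro rfl
          rw [map_zero] at hpr
          exact absurd hpr (by decide)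
        have hpr0 : p + r ≠ 0 := by
          intro h2
          rw [← eq_of_add_eq_zero' h2, hq.alt] at hpr
          exact absurd hpr (by decide)
        have h3 := hconst _ (hadd p r hp hr) hpr0
        rw [hq.qadd, hconst r hr hr0, h, hpr] at h3
        exact absurd h3 (by decide)
      · exact h
    have hq1 : ∀ r, (∀ c ∈ A, B r c = 0) → r ≠ 0 → q r = 1 := fun r hr hr0 => by rw [hconst r hr hr0, hqp]
    obtain ⟨v, hv, hqv⟩ : ∃ v ∈ A, q v = 1 := by
      by_contra h
      push Not at h
      have h2 : ∀ a ∈ A, q a = 0 := by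
        intro a ha
        rcases two_cases (q a) with h3 | h3
        · exact h3
        · exact absurd h3 (h a ha)
      apply h0
      rw [Submodule.eq_bot_iff]
      intro a ha
      apply hint a _ ha
      intro c hc
      have h3 := hq.qadd a c
      rw [h2 _ (A.add_mem ha hc), h2 a ha, h2 c hc, zero_add, zero_add] at h3
      exact h3.symm
    have hv0 := hq.ne_zero_of_q hqv
    have hpv : B p v = 0 := hp v hv
    have hvp : B v p = 0 := by rw [hq.symm]; exact hpv
    have hvnp : v ≠ p := by rintro rfl; exact hpA hv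
    have hBp : ∀ a ∈ A, B p a = 0 := hp
    refine ⟨v, p, hqv, hqp, hvp, hvnp, ?_, ?_, ?_⟩
    · intro a ha
      rw [hBp a ha, zero_smul, add_zero]
      exact A.smul_mem _ hv
    · intro k hk
      have h3 : B p k = 0 := by
        rcases two_cases (B p k) with h3 | h3
        · exact h3
        · exfalso
          rw [h3, one_smul] at hk
          exact hpA ((Submodule.add_mem_iff_right A (A.smul_mem _ hv)).1 hk)
      rcases two_cases (B v k) with h4 | h4
      · exact ⟨0, zero_mem A, by rw [add_zero]; exact h4, by rw [add_zero]; exact h3⟩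
      · obtain ⟨x, hx⟩ := hq.exists_one hv0
        obtain ⟨a, ha, s, hs, rfl⟩ := hdec x
        have h5 : B v s = 0 := by rw [hq.symm]; exact hs v hv
        rw [map_add, h5, add_zero] at hx
        refine ⟨a, ha, ?_, ?_⟩
        · rw [map_add, h4, hx]; decide
        · rw [map_add, h3, hBp a ha, add_zero]
    · by_contra hcon
      push Not at hcon
      have hcon' : ∀ a ∈ A, B v a = 0 → a = 0 ∨ a = v := by
        intro a ha h3
        by_contra h4
        push Not at h4
        have h5 := hcon a ha h3 (hBp a ha) h4.1 h4.2 (by rintro rfl; exact hpA ha)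
        rw [h5] at ha
        exact hpA ((Submodule.add_mem_iff_right A hv).1 ha)
      obtain ⟨x, hx⟩ := hq.exists_one hv0
      obtain ⟨a₁, ha₁, s, hs, rfl⟩ := hdec x
      have h5 : B v s = 0 := by rw [hq.symm]; exact hs v hv
      rw [map_add, h5, add_zero] at hx
      have hA : ∀ a ∈ A, ∃ c₁ c₂ : ZMod 2, a = c₁ • v + c₂ • a₁ := by
        intro a ha
        rcases two_cases (B v a) with h6 | h6
        · rcases hcon' a ha h6 with rfl | rfl
          · exact ⟨0, 0, by simp⟩
          · exact ⟨1, 0, by simp⟩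
        · rcases hcon' (a + a₁) (A.add_mem ha ha₁) (by rw [map_add, h6, hx]; decide) with h7 | h7
          · exact ⟨0, 1, by rw [zero_smul, one_smul, zero_add]; exact eq_of_add_eq_zero' h7⟩
          · refine ⟨1, 1, ?_⟩
            rw [one_smul, one_smul, ← h7, add_assoc, add_self', add_zero]
      obtain ⟨p₂, hp₂, hpp₂⟩ := hpart p hp hp0
      have hp₂0 : p₂ ≠ 0 := by
        rintro rfl
        rw [map_zero] at hpp₂
        exact absurd hpp₂ (by decide)
      have hpp₂' : p ≠ p₂ := by
        rintro rfl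
        rw [hq.alt] at hpp₂
        exact absurd hpp₂ (by decide)
      have hB1 : ∀ r r', (∀ c ∈ A, B r c = 0) → (∀ c ∈ A, B r' c = 0) → r ≠ 0 → r' ≠ 0 → r ≠ r' → B r r' = 1 := by
        intro r r' hr hr' hr0 hr'0 hne
        have h6 := hq1 _ (hadd r r' hr hr') (fun h => hne (eq_of_add_eq_zero' h))
        rw [hq.qadd, hq1 r hr hr0, hq1 r' hr' hr'0] at h6
        rcases two_cases (B r r') with h7 | h7
        · rw [h7] at h6; exact absurd h6 (by decide)
        · exact h7
      have hPP : ∀ r, (∀ c ∈ A, B r c = 0) → ∃ c₁ c₂ : ZMod 2, r = c₁ • p + c₂ • p₂ := by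
        intro r hr
        by_cases h6 : r = 0
        · exact ⟨0, 0, by simp [h6]⟩
        by_cases h7 : r = p
        · exact ⟨1, 0, by simp [h7]⟩
        by_cases h8 : r = p₂
        · exact ⟨0, 1, by simp [h8]⟩
        by_cases h9 : r = p + p₂
        · exact ⟨1, 1, by simp [h9]⟩
        exfalso
        have e1 := hB1 r p hr hp h6 hp0 h7
        have e2 := hB1 r p₂ hr hp₂ h6 hp₂0 h8
        have e3 := hB1 r (p + p₂) hr (hadd p p₂ hp hp₂) h6 (fun h => hpp₂' (eq_of_add_eq_zero' h)) h9
        rw [map_add, e1, e2] at e3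
        exact absurd e3 (by decide)
      obtain ⟨x, hx⟩ := hq.big v a₁ p p₂
      obtain ⟨a, ha, r, hr, rfl⟩ := hdec x
      obtain ⟨c₁, c₂, rfl⟩ := hA a ha
      obtain ⟨c₃, c₄, rfl⟩ := hPP r hr
      exact hx c₁ c₂ c₃ c₄ (by abel)

end Cfsg.Agent.SuzClosing
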