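import Cfsg.Agent.SuzClosing.InstQ
import Cfsg.Agent.SuzThree.CentB2

/-!
Elements of odd order of the presented Suzuki group centralising the extraspecial group `Q0` are trivial; counting
elements of the Sylow 2-subgroup `T`.
-/

set_option autoImplicit false
set_option maxRecDepth 100000
set_option exponentiation.threshold 4000

namespace Cfsg.Agent.SuzClosing.Inst

open Cfsg.Spor Cfsg.Agent.Lib.PermNet Cfsg.Agent.Lib.PermNetOrbit Cfsg.Agent.SporadicRecognition.SuzPhi
  Cfsg.Agent.SporadicRecognition.SuzBound Cfsg.Agent.SporadicRecognition.SuzOrder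
  Cfsg.Agent.SuzThree.Basic Cfsg.Agent.SuzThree.CentA Cfsg.Agent.SuzThree.CentB Cfsg.Agent.SuzThree.CentCard
  Cfsg.Agent.SuzThree.QZero

/-- one point -/
theorem fix_aux {x u : Suz} {m : ℕ} (hm : m % 2 = 1) (hx : x ^ m = 1) (hu : u ^ 4 = 1) (hxu : x * u = u * x)
    {p : ℕ} (h : φ x p = φ u p) : φ x p = p := by
  have hcom : ∀ n : ℕ, x ^ n * u = u * x ^ n := by
    intro n
    exact (Commute.pow_left (show Commute x u from hxu) n).eq
  have key : ∀ n : ℕ, φ (x ^ n) p = φ (u ^ n) p := by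
    intro n
    induction n with
    | zero => rw [pow_zero, pow_zero]
    | succ n ih =>
      rw [pow_succ, map_mul, Equiv.Perm.mul_apply, h, ← Equiv.Perm.mul_apply, ← map_mul, hcom, map_mul,
        Equiv.Perm.mul_apply, ih, ← Equiv.Perm.mul_apply, ← map_mul, ← pow_succ']
  have h1 := key (m * m)
  rw [pow_mul, hx, one_pow] at h1
  have hmm : m * m = 4 * (m * m / 4) + 1 := by
    have h2 : m * m % 4 = 1 := by
      have : m % 4 = 1 ∨ m % 4 = 3 := by omega
      rcases this with h3 | h3 <;> rw [Nat.mul_mod, h3]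
    omega
  rw [hmm, pow_succ, pow_mul, hu, one_pow, one_mul, map_one] at h1
  rw [h, ← h1]; rfl

/-- the networks of the generators of `Q0` -/
noncomputable def wsQ : List (List Net) := wd [.a] :: ql.map qn

theorem wsQ_ok : WsOk (2 ^ 11) wsQ := by
  intro w hw
  rcases List.mem_cons.1 hw with rfl | hw
  · exact wd_ok _
  · obtain ⟨i, _, rfl⟩ := List.mem_map.1 hw
    exact qn_ok i

theorem wsQ_mem : ∀ w ∈ wsQ, wperm w ∈ Q0.map φ := by
  intro w hw
  rcases List.mem_cons.1 hw with rfl | hw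
  · exact ⟨z0, z_mem, φ_el _⟩
  · obtain ⟨i, _, rfl⟩ := List.mem_map.1 hw
    exact ⟨_, q_mem i, (rep_q i).eq⟩

/-- points moved by one of the words -/
noncomputable def mvd (Y : List (List (Option Qx))) : ℕ :=
  List.rec (motive := fun _ => ℕ) 0 (fun l _ ih => Nat.lor (moved 11 (qpn l) 11) ih) Y

theorem mvd_spec {Y : List (List (Option Qx))} {r : ℕ} (h : (mvd Y).testBit r = true) :
    ∃ l ∈ Y, φ (qp l) r ≠ r := by
  induction Y with
  | nil =>
    have h' : (0 : ℕ).testBit r = true := h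
    rw [Nat.zero_testBit] at h'; exact absurd h' (by simp)
  | cons l Y ih =>
    have h' : (moved 11 (qpn l) 11 ||| mvd Y).testBit r = true := h
    rw [Nat.testBit_or, Bool.or_eq_true] at h'
    rcases h' with h' | h'
    · refine ⟨l, List.mem_cons_self, ?_⟩
      rw [(rep_qp l).eq]
      exact moved_spec (rep_qp l).ok h'
    · obtain ⟨l', hl', h2⟩ := ih h'
      exact ⟨l', List.mem_cons_of_mem _ hl', h2⟩

/-- the orbit of a point -/
noncomputable def orbQ (p : ℕ) : ℕ := sat wsQ 8 (Nat.pow 2 p)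

/-- the check -/
noncomputable def covQ (p : ℕ) (Y : List (List (Option Qx))) (b : ℕ) : Bool :=
  Nat.beq (Nat.land (Nat.lor (mvd Y) (Nat.lor (orbQ p) b)) U0) U0

theorem orb_aux {x : Suz} (hx : ∀ y ∈ Q0, x * y = y * x) {p : ℕ} (hp : p < 1782) {Y : List (List (Option Qx))}
    (hY : ∀ l ∈ Y, φ (qp l) p = p) {b : ℕ} (hb : b.testBit (φ x p) = false) (hc : covQ p Y b = true) :
    ∃ u ∈ Q0, φ x p = φ u p := by
  have h0 : φ x p < 1782 := Cfsg.Agent.SuzThree.Basic.φ_lt p hp
  have h1 : (Nat.land (Nat.lor (mvd Y) (Nat.lor (orbQ p) b)) U0).testBit (φ x p) = true := by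
    rw [Nat.eq_of_beq_eq_true hc, U0_bits, decide_eq_true_eq]; exact h0
  have h2 : ((mvd Y ||| (orbQ p ||| b)) &&& U0).testBit (φ x p) = true := h1
  rw [Nat.testBit_and, Bool.and_eq_true, Nat.testBit_or, Nat.testBit_or, hb, Bool.or_false, Bool.or_eq_true] at h2
  rcases h2.1 with h3 | h3
  · exfalso
    obtain ⟨l, hl, h4⟩ := mvd_spec h3
    apply h4
    rw [← Equiv.Perm.mul_apply, ← map_mul, ← hx _ (qp_mem l), map_mul, Equiv.Perm.mul_apply, hY l hl]
  · obtain ⟨g, ⟨u, hu, rfl⟩, hg⟩ := sat_point_spec wsQ_ok wsQ_mem 8 h3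
    exact ⟨u, hu, hg.symm⟩

/-- the test sets -/
def Y0 : List (List (Option Qx)) := [[some .k1], [some .k2], [some .k4]]
def Y1 : List (List (Option Qx)) := [[some .k1], [some .k2], [some .k5]]
def Y14 : List (List (Option Qx)) := [[some .k5]]
def Y98 : List (List (Option Qx)) := [[some .k1, some .k2, some .k4, some .k5, none]]

/-- the words fix the point -/
noncomputable def fixY (p : ℕ) (Y : List (List (Option Qx))) : Bool :=
  List.rec (motive := fun _ => Bool) true (fun l _ ih => and (mv (qpn l) p p) ih) Y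

theorem fixY_spec {p : ℕ} {Y : List (List (Option Qx))} (h : fixY p Y = true) : ∀ l ∈ Y, φ (qp l) p = p := by
  induction Y with
  | nil => intro l hl; exact absurd hl (by simp)
  | cons l Y ih =>
    have h' : and (mv (qpn l) p p) (fixY p Y) = true := h
    rw [Bool.and_eq_true] at h'
    intro l' hl'
    rcases List.mem_cons.1 hl' with rfl | hl'
    · exact (rep_qp l').pt h'.1
    · exact ih h'.2 l' hl'

theorem F_fix {r : ℕ} (h : F.testBit r = true) : φ z0 r = r := by
  obtain ⟨g, ⟨c, hc, rfl⟩, hg⟩ := sat_point_spec (K := C1.map φ) (wsokS ga) (fun w hw => by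
      obtain ⟨u, hu, rfl⟩ := List.mem_map.1 hw
      exact ⟨el u, ga_le (el_mem_cl hu), φ_el u⟩) 12 h
  rw [← hg]
  exact fix_of_C1 hc z0_fix0

theorem pow4 {u : Suz} (hu : u ∈ Q0) : u ^ 4 = 1 := by
  have key : ∀ u ∈ Q0, u * u = 1 ∨ u * u = z0 := by
    intro u hu
    have h1 : Q0 ≤ QH.map C1.subtype := by
      rw [Q0, Subgroup.closure_le]
      rintro y (rfl | hy)
      · exact ⟨zH, gens.z_mem, rfl⟩
      · obtain ⟨i, _, rfl⟩ := List.mem_map.1 hy
        have hi : ∃ k, ix k = i := by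
          cases i
          · exact ⟨0, rfl⟩
          · exact ⟨1, rfl⟩
          · exact ⟨2, rfl⟩
          · exact ⟨3, rfl⟩
          · exact ⟨4, rfl⟩
          · exact ⟨5, rfl⟩
        obtain ⟨k, rfl⟩ := hi
        refine ⟨xH k, ?_, rfl⟩
        rw [← E_e (x := xH) k]
        exact gens.E_mem _
    obtain ⟨y, ⟨a, v, rfl⟩, rfl⟩ := h1 hu
    have h2 := gens.nf_sq a v
    rcases two_cases (q v) with h3 | h3
    · left
      rw [h3, pw_zero] at h2
      exact congrArg Subtype.val h2
    · right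
      rw [h3, pw_one] at h2
      exact congrArg Subtype.val h2
  have h4 : u ^ 4 = (u * u) * (u * u) := by rw [← pow_two, ← pow_two, ← pow_mul]
  rw [h4]
  rcases key u hu with h | h
  · rw [h, one_mul]
  · rw [h]; exact z_sq

/-- **Elements of odd order centralising `Q0` are trivial.** -/
theorem eq_one_of_odd {x : Suz} (hx : ∀ y ∈ Q0, x * y = y * x) {m : ℕ} (hm : m % 2 = 1) (hxm : x ^ m = 1) :
    x = 1 := by
  have hz : x * z0 = z0 * x := hx _ z_mem
  have hfix : ∀ {p : ℕ} (_ : p < 1782) {Y : List (List (Option Qx))} (_ : ∀ l ∈ Y, φ (qp l) p = p) {b : ℕ}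
      (_ : b.testBit (φ x p) = false) (_ : covQ p Y b = true), φ x p = p := by
    intro p hp Y hY b hb hc
    obtain ⟨u, hu, h⟩ := orb_aux hx hp hY hb hc
    exact fix_aux hm hxm (pow4 hu) (hx u hu) h
  have hF : ∀ {p : ℕ}, φ z0 p ≠ p → F.testBit (φ x p) = false := by
    intro p hp
    rw [← Bool.not_eq_true]
    intro h
    have h1 := F_fix h
    apply hp
    rw [← Equiv.Perm.mul_apply, ← map_mul, ← hz, map_mul, Equiv.Perm.mul_apply] at h1
    exact (φ x).injective h1
  apply eq_one_of_fix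
  intro p hp
  simp only [List.mem_cons, List.not_mem_nil, or_false] at hp
  rcases hp with rfl | rfl | rfl | rfl | rfl
  · refine hfix (by norm_num) (fixY_spec (Y := Y14) (by decide +kernel)) (hF ?_) (by decide +kernel)
    have h1 : φ z0 14 = Cfsg.Agent.SporRec.SuzCl.app Cfsg.Agent.SporRec.SuzCl.tA 14 := by
      rw [z0_eq]; exact (Cfsg.Agent.SporRec.SuzCl.R_a 14 (by norm_num)).1
    rw [h1]
    decide +kernel
  · refine hfix (by norm_num) (fixY_spec (Y := Y98) (by decide +kernel)) (hF ?_) (by decide +kernel)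
    have h1 : φ z0 98 = Cfsg.Agent.SporRec.SuzCl.app Cfsg.Agent.SporRec.SuzCl.tA 98 := by
      rw [z0_eq]; exact (Cfsg.Agent.SporRec.SuzCl.R_a 98 (by norm_num)).1
    rw [h1]
    decide +kernel
  · exact hfix (by norm_num) (fixY_spec (Y := Y0) (by decide +kernel)) (b := 0) (Nat.zero_testBit _)
      (by decide +kernel)
  · exact hfix (by norm_num) (fixY_spec (Y := Y1) (by decide +kernel)) (b := 0) (Nat.zero_testBit _)
      (by decide +kernel)
  · exact hfix (by norm_num) (fixY_spec (Y := Y0) (by decide +kernel)) (b := 0) (Nat.zero_testBit _)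
      (by decide +kernel)

end Cfsg.Agent.SuzClosing.Inst
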