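import Cfsg.Agent.SuzClosing.Form

/-!
# Closing argument for groups of Suzuki type, the model of the centralizer

`Loc q B z Q vec` : `H` is a group like `2₋^(1+6) Ω₆⁻(2)`, `Q` the extraspecial subgroup, `vec : Q → V` the
projection. `IsB b` : `b` is an involution inducing the product of two orthogonal transvections.
-/

set_option autoImplicit false

namespace Cfsg.Agent.SuzClosing

variable {V : Type*} [AddCommGroup V] [Module (ZMod 2) V] {H : Type*} [Group H]

/-- `b` induces the product of the transvections with respect to `v` and `w` -/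
def Act (B : LinearMap.BilinForm (ZMod 2) V) (Q : Subgroup H) (vec : H → V) (b : H) (v w : V) : Prop :=
  ∀ x ∈ Q, vec (b * x * b⁻¹) = vec x + B v (vec x) • v + B w (vec x) • w

/-- a pair of orthogonal nonsingular vectors -/
structure Pair (q : V → ZMod 2) (B : LinearMap.BilinForm (ZMod 2) V) (v w : V) : Prop where
  qv : q v = 1
  qw : q w = 1
  vw : B v w = 0
  ne : v ≠ w

/-- the involutions inducing a product of two orthogonal transvections -/
def IsB (q : V → ZMod 2) (B : LinearMap.BilinForm (ZMod 2) V) (Q : Subgroup H) (vec : H → V) (b : H) : Prop :=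
  b * b = 1 ∧ ∃ v w, Pair q B v w ∧ Act B Q vec b v w

/-- `Q` is an extraspecial normal subgroup of `H` with center `⟨z⟩`, with quadratic form `q` -/
structure Pre (q : V → ZMod 2) (B : LinearMap.BilinForm (ZMod 2) V) (z : H) (Q : Subgroup H) (vec : H → V) :
    Prop where
  zc : ∀ g, g * z = z * g
  zz : z * z = 1
  z1 : z ≠ 1
  zQ : z ∈ Q
  norm : ∀ g, ∀ x ∈ Q, g * x * g⁻¹ ∈ Q
  vmul : ∀ x ∈ Q, ∀ y ∈ Q, vec (x * y) = vec x + vec y
  vker : ∀ x ∈ Q, vec x = 0 → x = 1 ∨ x = z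
  vz : vec z = 0
  vsurj : ∀ v, ∃ x ∈ Q, vec x = v
  sq0 : ∀ x ∈ Q, q (vec x) = 0 → x * x = 1
  sq1 : ∀ x ∈ Q, q (vec x) = 1 → x * x = z
  cent : ∀ g, (∀ x ∈ Q, vec (g * x * g⁻¹) = vec x) → g ∈ Q

/-- `H` is a group like `2₋^(1+6) Ω₆⁻(2)` -/
structure Loc (q : V → ZMod 2) (B : LinearMap.BilinForm (ZMod 2) V) (z : H) (Q : Subgroup H) (vec : H → V) :
    Prop extends Pre q B z Q vec where
  notr : ∀ g u, q u = 1 → ¬ ∀ x ∈ Q, vec (g * x * g⁻¹) = vec x + B u (vec x) • u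
  lift : ∀ v w, Pair q B v w → ∃ b, b * b = 1 ∧ Act B Q vec b v w
  plus : ∀ b v w, b * b = 1 → Pair q B v w → Act B Q vec b v w → ∀ x ∈ Q, ∀ y ∈ Q,
    B v (vec x) = 0 → B w (vec x) = 0 → B v (vec y) = 0 → B w (vec y) = 0 →
    (b * x) * (b * x) ≠ 1 → (b * y) * (b * y) ≠ 1 →
    vec x + vec y = 0 ∨ vec x + vec y = v ∨ vec x + vec y = w ∨ vec x + vec y = v + w
  ex : ∀ b v w, b * b = 1 → Pair q B v w → Act B Q vec b v w → ∃ x ∈ Q, B v (vec x) = 0 ∧ B w (vec x) = 0 ∧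
    (b * x) * (b * x) ≠ 1 ∧ vec x ≠ 0 ∧ vec x ≠ v ∧ vec x ≠ w ∧ vec x ≠ v + w
  four : ∃ r s, IsB q B Q vec r ∧ IsB q B Q vec s ∧ IsB q B Q vec (r * s) ∧ r * s = s * r

namespace Pre

variable {q : V → ZMod 2} {B : LinearMap.BilinForm (ZMod 2) V} {z : H} {Q : Subgroup H} {vec : H → V}
  (h : Pre q B z Q vec)
include h

theorem vone : vec 1 = 0 := by
  have h1 := h.vmul 1 Q.one_mem 1 Q.one_mem
  rw [mul_one, add_self'] at h1
  exact h1

theorem vinv {x : H} (hx : x ∈ Q) : vec x⁻¹ = vec x := by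
  have h1 := h.vmul x hx x⁻¹ (Q.inv_mem hx)
  rw [mul_inv_cancel, h.vone] at h1
  exact (eq_of_add_eq_zero' h1.symm).symm

theorem veq {x y : H} (hx : x ∈ Q) (hy : y ∈ Q) (hxy : vec x = vec y) : x = y ∨ x = z * y := by
  have h1 : vec (x * y⁻¹) = 0 := by
    rw [h.vmul x hx _ (Q.inv_mem hy), h.vinv hy, hxy, add_self']
  rcases h.vker _ (Q.mul_mem hx (Q.inv_mem hy)) h1 with h2 | h2
  · left; exact mul_inv_eq_one.1 h2
  · right; exact mul_inv_eq_iff_eq_mul.1 h2

theorem vconj {g x y : H} (hx : x ∈ Q) (hy : y ∈ Q) (hxy : vec x = vec y) :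
    vec (g * x * g⁻¹) = vec (g * y * g⁻¹) := by
  rcases h.veq hx hy hxy with rfl | rfl
  · rfl
  · have h1 : g * (z * y) * g⁻¹ = z * (g * y * g⁻¹) := by
      calc g * (z * y) * g⁻¹ = (g * z) * y * g⁻¹ := by group
        _ = (z * g) * y * g⁻¹ := by rw [h.zc]
        _ = _ := by group
    rw [h1, h.vmul _ h.zQ _ (h.norm g y hy), h.vz, zero_add]

/-- a section -/
noncomputable def sec (v : V) : H := Classical.choose (h.vsurj v)

theorem sec_mem (v : V) : h.sec v ∈ Q := (Classical.choose_spec (h.vsurj v)).1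

theorem vec_sec (v : V) : vec (h.sec v) = v := (Classical.choose_spec (h.vsurj v)).2

/-- the action on `V` -/
noncomputable def rho (g : H) : V →ₗ[ZMod 2] V where
  toFun v := vec (g * h.sec v * g⁻¹)
  map_add' v w := by
    rw [← h.vmul _ (h.norm g _ (h.sec_mem v)) _ (h.norm g _ (h.sec_mem w))]
    have e : g * h.sec v * g⁻¹ * (g * h.sec w * g⁻¹) = g * (h.sec v * h.sec w) * g⁻¹ := by group
    rw [e]
    apply h.vconj (h.sec_mem _) (Q.mul_mem (h.sec_mem v) (h.sec_mem w))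
    rw [h.vmul _ (h.sec_mem v) _ (h.sec_mem w), h.vec_sec, h.vec_sec, h.vec_sec]
  map_smul' c v := by
    rcases two_cases c with rfl | rfl
    · simp only [zero_smul, RingHom.id_apply]
      rw [h.vconj (h.sec_mem _) Q.one_mem (by rw [h.vec_sec, h.vone]), mul_one, mul_inv_cancel, h.vone]
    · simp only [one_smul, RingHom.id_apply]

theorem rho_vec (g : H) {x : H} (hx : x ∈ Q) : h.rho g (vec x) = vec (g * x * g⁻¹) :=
  h.vconj (h.sec_mem _) hx (h.vec_sec _)

theorem rho_mul (g k : H) (v : V) : h.rho (g * k) v = h.rho g (h.rho k v) := by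
  conv_rhs => rw [← h.vec_sec v, h.rho_vec k (h.sec_mem v), h.rho_vec g (h.norm k _ (h.sec_mem v))]
  conv_lhs => rw [← h.vec_sec v, h.rho_vec _ (h.sec_mem v)]
  congr 1; group

theorem q_vec {x : H} (hx : x ∈ Q) : q (vec x) = 0 ↔ x * x = 1 := by
  constructor
  · exact h.sq0 x hx
  · intro h1
    rcases two_cases (q (vec x)) with h2 | h2
    · exact h2
    · exact absurd ((h.sq1 x hx h2).symm.trans h1) h.z1

theorem q_rho (g : H) (v : V) : q (h.rho g v) = q v := by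
  have key : q (h.rho g v) = 0 ↔ q v = 0 := by
    conv_rhs => rw [← h.vec_sec v, h.q_vec (h.sec_mem v)]
    conv_lhs => rw [← h.vec_sec v, h.rho_vec g (h.sec_mem v), h.q_vec (h.norm g _ (h.sec_mem v))]
    constructor
    · intro h1
      have h2 : h.sec v * h.sec v = g⁻¹ * (g * h.sec v * g⁻¹ * (g * h.sec v * g⁻¹)) * g := by group
      rw [h2, h1]; group
    · intro h1
      have h2 : g * h.sec v * g⁻¹ * (g * h.sec v * g⁻¹) = g * (h.sec v * h.sec v) * g⁻¹ := by group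
      rw [h2, h1]; group
  rcases two_cases (q v) with h1 | h1
  · rw [h1]; exact key.2 h1
  · rcases two_cases (q (h.rho g v)) with h2 | h2
    · rw [key.1 h2] at h1
      exact absurd h1 (by decide)
    · rw [h1, h2]

theorem B_rho (hq : QF q B) (g : H) (v w : V) : B (h.rho g v) (h.rho g w) = B v w := by
  have h1 := hq.qadd (h.rho g v) (h.rho g w)
  rw [← map_add, h.q_rho, h.q_rho, h.q_rho, hq.qadd] at h1
  exact (add_left_cancel h1).symm

theorem sq_mem {x : H} (hx : x ∈ Q) : x * x = 1 ∨ x * x = z := by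
  rcases two_cases (q (vec x)) with h1 | h1
  · left; exact h.sq0 x hx h1
  · right; exact h.sq1 x hx h1

theorem vcomm {x y : H} (hx : x ∈ Q) (hy : y ∈ Q) : vec (x * y * x⁻¹) = vec y := by
  rw [h.vmul _ (Q.mul_mem hx hy) _ (Q.inv_mem hx), h.vmul _ hx _ hy, h.vinv hx]
  rw [add_comm (vec x) (vec y), add_assoc, add_self', add_zero]

theorem act_mul {b : H} {v w : V} (ha : Act B Q vec b v w) {x : H} (hx : x ∈ Q) : Act B Q vec (b * x) v w := by
  intro y hy
  have e : b * x * y * (b * x)⁻¹ = b * (x * y * x⁻¹) * b⁻¹ := by group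
  have hm : x * y * x⁻¹ ∈ Q := Q.mul_mem (Q.mul_mem hx hy) (Q.inv_mem hx)
  rw [e, ha _ hm, h.vcomm hx hy]

theorem act_rho {b : H} {v w : V} (ha : Act B Q vec b v w) (k : V) :
    h.rho b k = k + B v k • v + B w k • w := by
  conv_lhs => rw [← h.vec_sec k, h.rho_vec b (h.sec_mem k), ha _ (h.sec_mem k)]
  rw [h.vec_sec]

/-- the square of `b k` -/
theorem vec_sq {b : H} {v w : V} (hb : b * b = 1) (ha : Act B Q vec b v w) {k : H} (hk : k ∈ Q) :
    b * k * (b * k) ∈ Q ∧ vec (b * k * (b * k)) = B v (vec k) • v + B w (vec k) • w := by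
  have hb' : b⁻¹ = b := inv_eq_of_mul_eq_one_left hb
  have e : b * k * (b * k) = b * k * b⁻¹ * k := by rw [hb']; group
  rw [e]
  have hm := h.norm b k hk
  refine ⟨Q.mul_mem hm hk, ?_⟩
  rw [h.vmul _ hm _ hk, ha k hk]
  calc vec k + B v (vec k) • v + B w (vec k) • w + vec k
      = (vec k + vec k) + (B v (vec k) • v + B w (vec k) • w) := by abel
    _ = _ := by rw [add_self', zero_add]

end Pre

namespace Loc

variable {q : V → ZMod 2} {B : LinearMap.BilinForm (ZMod 2) V} {z : H} {Q : Subgroup H} {vec : H → V}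
  (h : Loc q B z Q vec)
include h

/-- adjusting `b k` inside `A` -/
theorem star {A : Subgroup H} (hA : A ≤ Q) {S : Submodule (ZMod 2) V} (hS : ∀ v, v ∈ S ↔ ∃ a ∈ A, vec a = v)
    {b : H} {v w : V} (hp : Pos q B S v w) (hb : b * b = 1) (ha : Act B Q vec b v w) {k : H} (hk : k ∈ Q)
    (hbk : b * k * (b * k) ∈ A) : ∃ a ∈ A, IsB q B Q vec (b * k * a) := by
  have hpair : Pair q B v w := ⟨hp.qv, hp.qw, hp.vw, hp.ne⟩
  obtain ⟨-, h1⟩ := h.vec_sq hb ha hk
  have h2 : B v (vec k) • v + B w (vec k) • w ∈ S := (hS _).2 ⟨_, hbk, h1⟩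
  obtain ⟨a', ha', h3, h4⟩ := hp.adj _ h2
  obtain ⟨a₁, ha₁, rfl⟩ := (hS _).1 ha'
  have hk3 : k * a₁ ∈ Q := Q.mul_mem hk (hA ha₁)
  rw [← h.vmul _ hk _ (hA ha₁)] at h3 h4
  by_cases h5 : b * (k * a₁) * (b * (k * a₁)) = 1
  · refine ⟨a₁, ha₁, ?_, v, w, hpair, ?_⟩
    · rw [mul_assoc b k a₁]; exact h5
    · rw [mul_assoc b k a₁]; exact h.act_mul ha hk3
  · obtain ⟨a₀, ha₀, g1, g2, g3, g4, g5, g6⟩ := hp.oth
    obtain ⟨a₂, ha₂, rfl⟩ := (hS _).1 ha₀
    have hk4 : k * a₁ * a₂ ∈ Q := Q.mul_mem hk3 (hA ha₂)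
    have hv4 : vec (k * a₁ * a₂) = vec (k * a₁) + vec a₂ := h.vmul _ hk3 _ (hA ha₂)
    by_cases h6 : b * (k * a₁ * a₂) * (b * (k * a₁ * a₂)) = 1
    · refine ⟨a₁ * a₂, A.mul_mem ha₁ ha₂, ?_, v, w, hpair, ?_⟩
      · have e : b * k * (a₁ * a₂) = b * (k * a₁ * a₂) := by group
        rw [e]; exact h6
      · have e : b * k * (a₁ * a₂) = b * (k * a₁ * a₂) := by group
        rw [e]; exact h.act_mul ha hk4
    · exfalso
      have h7 := h.plus b v w hb hpair ha _ hk3 _ hk4 h3 h4 (by rw [hv4, map_add, h3, g1, add_zero])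
        (by rw [hv4, map_add, h4, g2, add_zero]) h5 h6
      rw [hv4, add_add_cancel'] at h7
      rcases h7 with h7 | h7 | h7 | h7
      · exact g3 h7
      · exact g4 h7
      · exact g5 h7
      · exact g6 h7

end Loc

end Cfsg.Agent.SuzClosing
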