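import Cfsg.Agent.SuzClosing.InstForm
import Cfsg.Agent.SuzClosing.Loc

/-!
Six involutions commuting modulo a central involution: normal forms.
-/

set_option autoImplicit false

namespace Cfsg.Agent.SuzClosing.Inst

variable {H : Type*} [Group H]

/-- power -/
def pw (g : H) (a : ZMod 2) : H := g ^ a.val

theorem pw_zero (g : H) : pw g 0 = 1 := by
  show g ^ (0 : ℕ) = 1
  rw [pow_zero]

theorem pw_one (g : H) : pw g 1 = g := by
  show g ^ (1 : ℕ) = g
  rw [pow_one]

theorem pw_add {g : H} (h : g * g = 1) (a b : ZMod 2) : pw g (a + b) = pw g a * pw g b := by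
  rcases two_cases a with rfl | rfl <;> rcases two_cases b with rfl | rfl
  · rw [add_zero, pw_zero, mul_one]
  · rw [zero_add, pw_zero, pw_one, one_mul]
  · rw [add_zero, pw_zero, pw_one, mul_one]
  · have : (1 : ZMod 2) + 1 = 0 := by decide
    rw [this, pw_zero, pw_one, h]

theorem pw_inj {g : H} (h : g ≠ 1) {a b : ZMod 2} (hab : pw g a = pw g b) : a = b := by
  rcases two_cases a with rfl | rfl <;> rcases two_cases b with rfl | rfl
  · rfl
  · rw [pw_zero, pw_one] at hab; exact absurd hab.symm h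
  · rw [pw_zero, pw_one] at hab; exact absurd hab h
  · rfl

/-- the commutation matrix -/
def cf : Fin 6 → Fin 6 → ZMod 2 :=
  ![![0, 1, 1, 0, 0, 1], ![1, 0, 1, 0, 0, 1], ![1, 1, 0, 0, 0, 1], ![0, 0, 0, 0, 1, 0], ![0, 0, 0, 1, 0, 0],
    ![1, 1, 1, 0, 0, 0]]

/-- six involutions commuting modulo the central involution `z` -/
structure Gens (z : H) (x : Fin 6 → H) : Prop where
  zc : ∀ g, g * z = z * g
  zz : z * z = 1
  z1 : z ≠ 1
  sq : ∀ i, x i * x i = 1
  cm : ∀ i j, x i * x j = pw z (cf i j) * (x j * x i)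

/-- the product -/
def E (x : Fin 6 → H) (v : V) : H :=
  pw (x 0) (v 0) * (pw (x 1) (v 1) * (pw (x 2) (v 2) * (pw (x 3) (v 3) * (pw (x 4) (v 4) * pw (x 5) (v 5)))))

namespace Gens

variable {z : H} {x : Fin 6 → H} (h : Gens z x)
include h

theorem zpc (g : H) (e : ZMod 2) : g * pw z e = pw z e * g := by
  rcases two_cases e with rfl | rfl
  · rw [pw_zero, mul_one, one_mul]
  · rw [pw_one]; exact h.zc g

theorem zadd (a b : ZMod 2) : pw z (a + b) = pw z a * pw z b := pw_add h.zz a b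

omit h in
theorem cm_pw {P y : H} {c : ZMod 2} (hc : P * y = pw z c * (y * P)) (a : ZMod 2) :
    pw P a * y = pw z (a * c) * (y * pw P a) := by
  rcases two_cases a with rfl | rfl
  · rw [pw_zero, zero_mul, pw_zero, one_mul, mul_one, one_mul]
  · rw [pw_one, one_mul]; exact hc

theorem cm_mul {P P' y : H} {c c' : ZMod 2} (hc : P * y = pw z c * (y * P))
    (hc' : P' * y = pw z c' * (y * P')) : P * P' * y = pw z (c + c') * (y * (P * P')) := by
  calc P * P' * y = P * (P' * y) := by group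
    _ = (P * pw z c') * (y * P') := by rw [hc']; group
    _ = pw z c' * (P * y) * P' := by rw [h.zpc]; group
    _ = (pw z c' * pw z c) * (y * (P * P')) := by rw [hc]; group
    _ = _ := by rw [← h.zadd, add_comm]

theorem step {P P' R y : H} {c β : ZMod 2} (hy : y * y = 1) (hc : P * y = pw z c * (y * P))
    (hP : P * P' = pw z β * R) (a b : ZMod 2) :
    pw y a * P * (pw y b * P') = pw z (b * c + β) * (pw y (a + b) * R) := by
  rcases two_cases b with rfl | rfl
  · rw [pw_zero, one_mul, zero_mul, zero_add, add_zero]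
    calc pw y a * P * P' = pw y a * (P * P') := by group
      _ = (pw y a * pw z β) * R := by rw [hP]; group
      _ = _ := by rw [h.zpc]; group
  · rw [pw_one, one_mul, pw_add hy, pw_one, h.zadd]
    calc pw y a * P * (y * P') = pw y a * (P * y) * P' := by group
      _ = (pw y a * pw z c) * y * (P * P') := by rw [hc]; group
      _ = pw z c * ((pw y a * y) * pw z β) * R := by rw [h.zpc, hP]; group
      _ = _ := by rw [h.zpc]; group

theorem E_mul (v w : V) : E x v * E x w = pw z (bt v w) * E x (v + w) := by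
  have c5 : ∀ a : ZMod 2, ∀ j, pw (x 5) a * x j = pw z (a * cf 5 j) * (x j * pw (x 5) a) :=
    fun a j => cm_pw (h.cm 5 j) a
  have c4 : ∀ a b : ZMod 2, ∀ j, (pw (x 4) a * pw (x 5) b) * x j =
      pw z (a * cf 4 j + b * cf 5 j) * (x j * (pw (x 4) a * pw (x 5) b)) :=
    fun a b j => h.cm_mul (cm_pw (h.cm 4 j) a) (c5 b j)
  have c3 : ∀ a b c : ZMod 2, ∀ j, (pw (x 3) a * (pw (x 4) b * pw (x 5) c)) * x j =
      pw z (a * cf 3 j + (b * cf 4 j + c * cf 5 j)) * (x j * (pw (x 3) a * (pw (x 4) b * pw (x 5) c))) :=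
    fun a b c j => h.cm_mul (cm_pw (h.cm 3 j) a) (c4 b c j)
  have c2 : ∀ a b c d : ZMod 2, ∀ j, (pw (x 2) a * (pw (x 3) b * (pw (x 4) c * pw (x 5) d))) * x j =
      pw z (a * cf 2 j + (b * cf 3 j + (c * cf 4 j + d * cf 5 j))) *
        (x j * (pw (x 2) a * (pw (x 3) b * (pw (x 4) c * pw (x 5) d)))) :=
    fun a b c d j => h.cm_mul (cm_pw (h.cm 2 j) a) (c3 b c d j)
  have c1 : ∀ a b c d e : ZMod 2, ∀ j,
      (pw (x 1) a * (pw (x 2) b * (pw (x 3) c * (pw (x 4) d * pw (x 5) e)))) * x j =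
      pw z (a * cf 1 j + (b * cf 2 j + (c * cf 3 j + (d * cf 4 j + e * cf 5 j)))) *
        (x j * (pw (x 1) a * (pw (x 2) b * (pw (x 3) c * (pw (x 4) d * pw (x 5) e))))) :=
    fun a b c d e j => h.cm_mul (cm_pw (h.cm 1 j) a) (c2 b c d e j)
  have m5 : pw (x 5) (v 5) * pw (x 5) (w 5) = pw z 0 * pw (x 5) (v 5 + w 5) := by
    rw [pw_zero, one_mul, pw_add (h.sq 5)]
  have m4 := h.step (h.sq 4) (c5 (v 5) 4) m5 (v 4) (w 4)
  have m3 := h.step (h.sq 3) (c4 (v 4) (v 5) 3) m4 (v 3) (w 3)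
  have m2 := h.step (h.sq 2) (c3 (v 3) (v 4) (v 5) 2) m3 (v 2) (w 2)
  have m1 := h.step (h.sq 1) (c2 (v 2) (v 3) (v 4) (v 5) 1) m2 (v 1) (w 1)
  have m0 := h.step (h.sq 0) (c1 (v 1) (v 2) (v 3) (v 4) (v 5) 0) m1 (v 0) (w 0)
  unfold E
  rw [m0]
  congr 1
  congr 1
  simp [cf, bt]
  ring

omit h in
theorem E_zero : E x 0 = 1 := by
  unfold E
  simp only [Pi.zero_apply, pw_zero, mul_one]

theorem nf_mul (a b : ZMod 2) (v w : V) :
    (pw z a * E x v) * (pw z b * E x w) = pw z (a + b + bt v w) * E x (v + w) := by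
  calc (pw z a * E x v) * (pw z b * E x w) = pw z a * (E x v * pw z b) * E x w := by group
    _ = (pw z a * pw z b) * (E x v * E x w) := by rw [h.zpc]; group
    _ = _ := by rw [h.E_mul, h.zadd, h.zadd]; group

theorem nf_sq (a : ZMod 2) (v : V) : (pw z a * E x v) * (pw z a * E x v) = pw z (q v) := by
  rw [h.nf_mul, z2_add_self, zero_add, add_self', E_zero, mul_one, bt_self]

theorem eq_zero {a : ZMod 2} {v : V} (h1 : pw z a * E x v = 1) : v = 0 ∧ a = 0 := by
  have h2 : E x v = pw z a := by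
    have : pw z a * pw z a = 1 := by rw [← h.zadd, z2_add_self, pw_zero]
    calc E x v = (pw z a * pw z a) * E x v := by rw [this, one_mul]
      _ = pw z a * (pw z a * E x v) := by group
      _ = pw z a := by rw [h1, mul_one]
  have hv : v = 0 := by
    apply nondeg
    intro w
    have h3 := h.E_mul v w
    have h4 := h.E_mul w v
    rw [h2] at h3 h4
    rw [← h.zpc, h4, add_comm w v] at h3
    have h5 := mul_right_cancel h3
    have h6 := pw_inj h.z1 h5
    rw [B_apply, ← h6, z2_add_self]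
  refine ⟨hv, ?_⟩
  rw [hv, E_zero, mul_one] at h1
  exact pw_inj h.z1 (h1.trans (pw_zero z).symm)

theorem nf_inj {a b : ZMod 2} {v w : V} (h1 : pw z a * E x v = pw z b * E x w) : v = w ∧ a = b := by
  have h2 := h.nf_sq a v
  have h3 := h.nf_mul a b v w
  rw [← h1, h2] at h3
  have h4 : pw z (q v + (a + b + bt v w)) * E x (v + w) = 1 := by
    calc pw z (q v + (a + b + bt v w)) * E x (v + w)
        = pw z (q v) * (pw z (a + b + bt v w) * E x (v + w)) := by rw [h.zadd]; group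
      _ = 1 := by rw [← h3, ← h.zadd, z2_add_self, pw_zero]
  obtain ⟨h5, -⟩ := h.eq_zero h4
  have h7 := eq_of_add_eq_zero' h5
  refine ⟨h7, ?_⟩
  rw [h7] at h1
  exact pw_inj h.z1 (mul_right_cancel h1)

/-- the extraspecial group -/
def Q : Subgroup H where
  carrier := {g | ∃ a v, g = pw z a * E x v}
  one_mem' := ⟨0, 0, by rw [pw_zero, E_zero, mul_one]⟩
  mul_mem' := by
    rintro g k ⟨a, v, rfl⟩ ⟨b, w, rfl⟩
    exact ⟨_, _, h.nf_mul a b v w⟩
  inv_mem' := by
    rintro g ⟨a, v, rfl⟩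
    refine ⟨a + q v, v, ?_⟩
    apply inv_eq_of_mul_eq_one_right
    rw [h.nf_mul, add_self', E_zero, mul_one, bt_self]
    have : a + (a + q v) + q v = 0 := by
      calc a + (a + q v) + q v = (a + a) + (q v + q v) := by ring
        _ = 0 := by rw [z2_add_self, z2_add_self, add_zero]
    rw [this, pw_zero]

theorem mem_Q {g : H} : g ∈ h.Q ↔ ∃ a v, g = pw z a * E x v := Iff.rfl

theorem nf_mem (a : ZMod 2) (v : V) : pw z a * E x v ∈ h.Q := ⟨a, v, rfl⟩

theorem E_mem (v : V) : E x v ∈ h.Q := ⟨0, v, by rw [pw_zero, one_mul]⟩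

theorem z_mem : z ∈ h.Q := ⟨1, 0, by rw [pw_one, E_zero, mul_one]⟩

open Classical in
/-- the vector -/
noncomputable def vec (_ : Gens z x) (g : H) : V := if hg : ∃ v a, g = pw z a * E x v then Classical.choose hg else 0

theorem vec_nf (a : ZMod 2) (v : V) : h.vec (pw z a * E x v) = v := by
  have hg : ∃ w b, pw z a * E x v = pw z b * E x w := ⟨v, a, rfl⟩
  unfold vec
  rw [dif_pos hg]
  obtain ⟨b, hb⟩ := Classical.choose_spec hg
  exact (h.nf_inj hb).1.symm

theorem vec_E (v : V) : h.vec (E x v) = v := by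
  have := h.vec_nf 0 v
  rwa [pw_zero, one_mul] at this

theorem vec_z : h.vec z = 0 := by
  have := h.vec_nf 1 0
  rwa [pw_one, E_zero, mul_one] at this

theorem vec_mul {g k : H} (hg : g ∈ h.Q) (hk : k ∈ h.Q) : h.vec (g * k) = h.vec g + h.vec k := by
  obtain ⟨a, v, rfl⟩ := hg
  obtain ⟨b, w, rfl⟩ := hk
  rw [h.nf_mul, h.vec_nf, h.vec_nf, h.vec_nf]

theorem vec_ker {g : H} (hg : g ∈ h.Q) (h0 : h.vec g = 0) : g = 1 ∨ g = z := by
  obtain ⟨a, v, rfl⟩ := hg
  rw [h.vec_nf] at h0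
  rw [h0, E_zero, mul_one]
  rcases two_cases a with rfl | rfl
  · left; exact pw_zero z
  · right; exact pw_one z

theorem sq0 {g : H} (hg : g ∈ h.Q) (h0 : q (h.vec g) = 0) : g * g = 1 := by
  obtain ⟨a, v, rfl⟩ := hg
  rw [h.vec_nf] at h0
  rw [h.nf_sq, h0, pw_zero]

theorem sq1 {g : H} (hg : g ∈ h.Q) (h0 : q (h.vec g) = 1) : g * g = z := by
  obtain ⟨a, v, rfl⟩ := hg
  rw [h.vec_nf] at h0
  rw [h.nf_sq, h0, pw_one]

theorem exists_nf {g : H} (hg : g ∈ h.Q) : ∃ a, g = pw z a * E x (h.vec g) := by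
  obtain ⟨a, v, rfl⟩ := hg
  exact ⟨a, by rw [h.vec_nf]⟩

end Gens

end Cfsg.Agent.SuzClosing.Inst
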