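import Cfsg.Agent.SuzClosing.Form

/-!
The quadratic form of minus type on `F₂⁶` used for the centraliser of the involution `a` in the presented Suzuki group.
-/

set_option autoImplicit false

namespace Cfsg.Agent.SuzClosing.Inst

/-- the module -/
abbrev V := Fin 6 → ZMod 2

/-- the quadratic form -/
def q (v : V) : ZMod 2 :=
  v 0 * v 1 + v 0 * v 2 + v 1 * v 2 + v 0 * v 5 + v 1 * v 5 + v 2 * v 5 + v 3 * v 4

/-- the cocycle -/
def bt (v w : V) : ZMod 2 :=
  v 1 * w 0 + v 2 * w 0 + v 2 * w 1 + v 5 * w 0 + v 5 * w 1 + v 5 * w 2 + v 4 * w 3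

theorem bt_self (v : V) : bt v v = q v := by unfold bt q; ring

theorem bt_add_left (v v' w : V) : bt (v + v') w = bt v w + bt v' w := by
  unfold bt; simp only [Pi.add_apply]; ring

theorem bt_add_right (v w w' : V) : bt v (w + w') = bt v w + bt v w' := by
  unfold bt; simp only [Pi.add_apply]; ring

theorem bt_smul_left (c : ZMod 2) (v w : V) : bt (c • v) w = c * bt v w := by
  unfold bt; simp only [Pi.smul_apply, smul_eq_mul]; ring

theorem bt_smul_right (c : ZMod 2) (v w : V) : bt v (c • w) = c * bt v w := by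
  unfold bt; simp only [Pi.smul_apply, smul_eq_mul]; ring

/-- the bilinear form -/
def B : LinearMap.BilinForm (ZMod 2) V :=
  LinearMap.mk₂ (ZMod 2) (fun v w => bt v w + bt w v)
    (fun v v' w => by simp only [bt_add_left, bt_add_right]; ring)
    (fun c v w => by simp only [bt_smul_left, bt_smul_right, smul_eq_mul]; ring)
    (fun v w w' => by simp only [bt_add_left, bt_add_right]; ring)
    (fun c v w => by simp only [bt_smul_left, bt_smul_right, smul_eq_mul]; ring)

theorem B_apply (v w : V) : B v w = bt v w + bt w v := rfl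

theorem qadd (v w : V) : q (v + w) = q v + q w + B v w := by
  rw [← bt_self, ← bt_self, ← bt_self, B_apply, bt_add_left, bt_add_right, bt_add_right]; ring

/-! ### Boolean coordinates -/

/-- the element of a Boolean -/
def zb (b : Bool) : ZMod 2 := cond b 1 0

theorem zb_and : ∀ a b : Bool, zb (a && b) = zb a * zb b := by decide
theorem zb_xor : ∀ a b : Bool, zb (a ^^ b) = zb a + zb b := by decide
theorem zb_inj : ∀ a b : Bool, zb a = zb b ↔ a = b := by decide
theorem zb_one : ∀ a : Bool, zb a = 1 ↔ a = true := by decide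
theorem zb_zero : ∀ a : Bool, zb a = 0 ↔ a = false := by decide
theorem exists_zb : ∀ x : ZMod 2, ∃ b : Bool, x = zb b := by decide

/-- a vector -/
def mk (a b c d e f : Bool) : V := ![zb a, zb b, zb c, zb d, zb e, zb f]

/-- Statement on all vectors, in coordinates. -/
theorem all_vec {P : V → Prop} (h : ∀ a b c d e f : Bool, P (mk a b c d e f)) (v : V) : P v := by
  obtain ⟨a, ha⟩ := exists_zb (v 0)
  obtain ⟨b, hb⟩ := exists_zb (v 1)
  obtain ⟨c, hc⟩ := exists_zb (v 2)
  obtain ⟨d, hd⟩ := exists_zb (v 3)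
  obtain ⟨e, he⟩ := exists_zb (v 4)
  obtain ⟨f, hf⟩ := exists_zb (v 5)
  have : v = mk a b c d e f := by
    ext i; fin_cases i
    · exact ha
    · exact hb
    · exact hc
    · exact hd
    · exact he
    · exact hf
  rw [this]
  exact h _ _ _ _ _ _

theorem mk_eq {a b c d e f a' b' c' d' e' f' : Bool} : mk a b c d e f = mk a' b' c' d' e' f' ↔
    (a = a' ∧ b = b' ∧ c = c' ∧ d = d' ∧ e = e' ∧ f = f') := by
  constructor
  · intro h
    have h0 := (zb_inj _ _).1 (congrFun h 0)
    have h1 := (zb_inj _ _).1 (congrFun h 1)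
    have h2 := (zb_inj _ _).1 (congrFun h 2)
    have h3 := (zb_inj _ _).1 (congrFun h 3)
    have h4 := (zb_inj _ _).1 (congrFun h 4)
    have h5 := (zb_inj _ _).1 (congrFun h 5)
    exact ⟨h0, h1, h2, h3, h4, h5⟩
  · rintro ⟨rfl, rfl, rfl, rfl, rfl, rfl⟩; rfl

theorem mk_zero : mk false false false false false false = 0 := by
  ext i; fin_cases i <;> rfl

theorem mk_add (a b c d e f a' b' c' d' e' f' : Bool) : mk a b c d e f + mk a' b' c' d' e' f' =
    mk (a ^^ a') (b ^^ b') (c ^^ c') (d ^^ d') (e ^^ e') (f ^^ f') := by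
  ext i; fin_cases i <;> exact (zb_xor _ _).symm

/-- the quadratic form -/
def qB (a b c d e f : Bool) : Bool :=
  (a && b) ^^ (a && c) ^^ (b && c) ^^ (a && f) ^^ (b && f) ^^ (c && f) ^^ (d && e)

/-- the cocycle -/
def btB (_a b c _d e f a' b' c' d' _e' _f' : Bool) : Bool :=
  (b && a') ^^ (c && a') ^^ (c && b') ^^ (f && a') ^^ (f && b') ^^ (f && c') ^^ (e && d')

/-- the bilinear form -/
def BB (a b c d e f a' b' c' d' e' f' : Bool) : Bool :=
  btB a b c d e f a' b' c' d' e' f' ^^ btB a' b' c' d' e' f' a b c d e f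

theorem q_mk (a b c d e f : Bool) : q (mk a b c d e f) = zb (qB a b c d e f) := by
  unfold qB
  simp only [zb_and, zb_xor]
  rfl

theorem bt_mk (a b c d e f a' b' c' d' e' f' : Bool) : bt (mk a b c d e f) (mk a' b' c' d' e' f') =
    zb (btB a b c d e f a' b' c' d' e' f') := by
  unfold btB
  simp only [zb_and, zb_xor]
  rfl

theorem B_mk (a b c d e f a' b' c' d' e' f' : Bool) : B (mk a b c d e f) (mk a' b' c' d' e' f') =
    zb (BB a b c d e f a' b' c' d' e' f') := by
  rw [B_apply, bt_mk, bt_mk, BB, zb_xor]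

/-- all values -/
def al (f : Bool → Bool) : Bool := f false && f true
/-- some value -/
def ex (f : Bool → Bool) : Bool := f false || f true

theorem al_iff (f : Bool → Bool) : al f = true ↔ ∀ b, f b = true := by
  unfold al
  rw [Bool.and_eq_true]
  constructor
  · rintro ⟨h1, h2⟩ b
    cases b
    · exact h1
    · exact h2
  · intro h; exact ⟨h _, h _⟩

theorem ex_iff (f : Bool → Bool) : ex f = true ↔ ∃ b, f b = true := by
  unfold ex
  rw [Bool.or_eq_true]
  constructor
  · rintro (h | h)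
    · exact ⟨_, h⟩
    · exact ⟨_, h⟩
  · rintro ⟨b, h⟩
    cases b
    · exact Or.inl h
    · exact Or.inr h

/-- all vectors -/
def al6 (p : Bool → Bool → Bool → Bool → Bool → Bool → Bool) : Bool :=
  al fun a => al fun b => al fun c => al fun d => al fun e => al fun f => p a b c d e f
/-- some vector -/
def ex6 (p : Bool → Bool → Bool → Bool → Bool → Bool → Bool) : Bool :=
  ex fun a => ex fun b => ex fun c => ex fun d => ex fun e => ex fun f => p a b c d e f

theorem al6_iff (p : Bool → Bool → Bool → Bool → Bool → Bool → Bool) :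
    al6 p = true ↔ ∀ a b c d e f, p a b c d e f = true := by
  simp only [al6, al_iff]

theorem ex6_iff (p : Bool → Bool → Bool → Bool → Bool → Bool → Bool) :
    ex6 p = true ↔ ∃ a b c d e f, p a b c d e f = true := by
  simp only [ex6, ex_iff]

/-- equality of vectors -/
def eqB (a b c d e f a' b' c' d' e' f' : Bool) : Bool :=
  !(a ^^ a') && !(b ^^ b') && !(c ^^ c') && !(d ^^ d') && !(e ^^ e') && !(f ^^ f')

theorem xor_false' : ∀ a b : Bool, (a ^^ b) = false ↔ a = b := by decide

theorem eqB_iff {a b c d e f a' b' c' d' e' f' : Bool} :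
    eqB a b c d e f a' b' c' d' e' f' = true ↔ mk a b c d e f = mk a' b' c' d' e' f' := by
  rw [mk_eq]
  unfold eqB
  simp only [Bool.and_eq_true, Bool.not_eq_true', xor_false']
  tauto

theorem eqB_false {a b c d e f a' b' c' d' e' f' : Bool} (h : (!eqB a b c d e f a' b' c' d' e' f') = true) :
    mk a b c d e f ≠ mk a' b' c' d' e' f' := by
  rw [Bool.not_eq_true'] at h
  intro h'
  rw [← eqB_iff, h] at h'
  exact absurd h' (by decide)

/-! ### The properties of the form -/

/-- the inverse of the Gram matrix -/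
def dl (f : V) : V := ![f 1 + f 2 + f 5, f 0 + f 2 + f 5, f 0 + f 1 + f 5, f 4, f 3, f 0 + f 1 + f 2]

theorem B_dl (f v : V) : B (dl f) v = f 0 * v 0 + f 1 * v 1 + f 2 * v 2 + f 3 * v 3 + f 4 * v 4 + f 5 * v 5 := by
  revert f v
  apply all_vec
  intro a b c d e f
  apply all_vec
  intro a' b' c' d' e' f'
  have h1 : dl (mk a b c d e f) = mk (b ^^ c ^^ f) (a ^^ c ^^ f) (a ^^ b ^^ f) e d (a ^^ b ^^ c) := by
    ext i; fin_cases i
    · show zb b + zb c + zb f = zb _
      rw [zb_xor, zb_xor]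
    · show zb a + zb c + zb f = zb _
      rw [zb_xor, zb_xor]
    · show zb a + zb b + zb f = zb _
      rw [zb_xor, zb_xor]
    · rfl
    · rfl
    · show zb a + zb b + zb c = zb _
      rw [zb_xor, zb_xor]
  rw [h1, B_mk]
  show _ = zb a * zb a' + zb b * zb b' + zb c * zb c' + zb d * zb d' + zb e * zb e' + zb f * zb f'
  simp only [← zb_and, ← zb_xor]
  congr 1
  revert a b c d e f a' b' c' d' e' f'
  decide +kernel

theorem exists_dual (l : V →ₗ[ZMod 2] ZMod 2) : ∃ u, ∀ v, B u v = l v := by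
  refine ⟨dl (fun i => l (Pi.single i 1)), fun v => ?_⟩
  rw [B_dl]
  have h : v = ∑ i, v i • (Pi.single i 1 : V) := by
    ext j
    rw [Finset.sum_apply, Finset.sum_eq_single j]
    · simp
    · intro i _ hij
      simp [hij.symm]
    · intro hj; exact absurd (Finset.mem_univ j) hj
  conv_rhs => rw [h]
  rw [map_sum, Fin.sum_univ_six]
  simp only [map_smul, smul_eq_mul]
  ring

theorem nondeg' : al6 (fun a b c d e f => eqB a b c d e f false false false false false false ||
    ex6 (fun a' b' c' d' e' f' => BB a b c d e f a' b' c' d' e' f')) = true := by decide +kernel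

theorem nondeg (v : V) (h : ∀ w, B v w = 0) : v = 0 := by
  revert v
  apply all_vec
  intro a b c d e f h
  have h1 := (al6_iff _).1 nondeg' a b c d e f
  rw [Bool.or_eq_true, ex6_iff] at h1
  rcases h1 with h1 | ⟨a', b', c', d', e', f', h1⟩
  · rw [eqB_iff.1 h1, mk_zero]
  · have h2 := h (mk a' b' c' d' e' f')
    rw [B_mk, h1] at h2
    exact absurd h2 (by decide)

theorem L1' : al6 (fun a b c d e f => eqB a b c d e f false false false false false false ||
    ex6 (fun a' b' c' d' e' f' => (qB a' b' c' d' e' f' && !BB a b c d e f a' b' c' d' e' f' &&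
      !eqB a b c d e f a' b' c' d' e' f') &&
      ex6 (fun a'' b'' c'' d'' e'' f'' => qB a'' b'' c'' d'' e'' f'' &&
        !BB a' b' c' d' e' f' a'' b'' c'' d'' e'' f'' && !eqB a' b' c' d' e' f' a'' b'' c'' d'' e'' f'' &&
        !BB a b c d e f a'' b'' c'' d'' e'' f'' && !eqB a b c d e f a'' b'' c'' d'' e'' f'' &&
        !eqB a b c d e f (a' ^^ a'') (b' ^^ b'') (c' ^^ c'') (d' ^^ d'') (e' ^^ e'') (f' ^^ f'')))) = true := by
  decide +kernel

theorem L1 (u : V) (hu : u ≠ 0) : ∃ v w, q v = 1 ∧ q w = 1 ∧ B v w = 0 ∧ v ≠ w ∧ B u v = 0 ∧ B u w = 0 ∧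
    u ≠ v ∧ u ≠ w ∧ u ≠ v + w := by
  revert u
  apply all_vec
  intro a b c d e f hu
  have h1 := (al6_iff _).1 L1' a b c d e f
  rw [Bool.or_eq_true] at h1
  rcases h1 with h1 | h1
  · exact absurd ((eqB_iff.1 h1).trans mk_zero) hu
  rw [ex6_iff] at h1
  obtain ⟨a', b', c', d', e', f', h1⟩ := h1
  rw [Bool.and_eq_true, Bool.and_eq_true, Bool.and_eq_true, ex6_iff] at h1
  obtain ⟨⟨⟨h2, h3⟩, h4⟩, a'', b'', c'', d'', e'', f'', h5⟩ := h1
  simp only [Bool.and_eq_true] at h5
  obtain ⟨⟨⟨⟨⟨h5, h6⟩, h7⟩, h8⟩, h9⟩, h10⟩ := h5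
  rw [Bool.not_eq_true'] at h3 h6 h8
  refine ⟨mk a' b' c' d' e' f', mk a'' b'' c'' d'' e'' f'', ?_, ?_, ?_, eqB_false h7, ?_, ?_, eqB_false h4,
    eqB_false h9, ?_⟩
  · rw [q_mk, h2]; rfl
  · rw [q_mk, h5]; rfl
  · rw [B_mk, h6]; rfl
  · rw [B_mk, h3]; rfl
  · rw [B_mk, h8]; rfl
  · rw [mk_add]; exact eqB_false h10

theorem L2' : al6 (fun a b c d e f => al6 (fun a' b' c' d' e' f' =>
    eqB a' b' c' d' e' f' false false false false false false || (eqB a' b' c' d' e' f' a b c d e f ||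
      ex6 (fun a'' b'' c'' d'' e'' f'' => qB a'' b'' c'' d'' e'' f'' &&
        !BB a b c d e f a'' b'' c'' d'' e'' f'' && BB a'' b'' c'' d'' e'' f'' a' b' c' d' e' f')))) = true := by
  decide +kernel

theorem L2 (u y : V) (h : ∀ v, q v = 1 → B u v = 0 → B v y = 0) : y = 0 ∨ y = u := by
  revert u y
  apply all_vec
  intro a b c d e f
  apply all_vec
  intro a' b' c' d' e' f' h
  have h1 := (al6_iff _).1 ((al6_iff _).1 L2' a b c d e f) a' b' c' d' e' f'
  rw [Bool.or_eq_true, Bool.or_eq_true, ex6_iff] at h1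
  rcases h1 with h1 | h1 | ⟨a'', b'', c'', d'', e'', f'', h1⟩
  · left; rw [eqB_iff.1 h1, mk_zero]
  · right; exact eqB_iff.1 h1
  · exfalso
    rw [Bool.and_eq_true, Bool.and_eq_true, Bool.not_eq_true'] at h1
    obtain ⟨⟨h2, h3⟩, h4⟩ := h1
    have h5 := h (mk a'' b'' c'' d'' e'' f'') (by rw [q_mk, h2]; rfl) (by rw [B_mk, h3]; rfl)
    rw [B_mk, h4] at h5
    exact absurd h5 (by decide)

theorem big (v₁ v₂ v₃ v₄ : V) : ∃ x, ∀ c₁ c₂ c₃ c₄ : ZMod 2, x ≠ c₁ • v₁ + c₂ • v₂ + c₃ • v₃ + c₄ • v₄ := by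
  by_contra hcon
  push Not at hcon
  have hs : Function.Surjective (fun c : ZMod 2 × ZMod 2 × ZMod 2 × ZMod 2 =>
      c.1 • v₁ + c.2.1 • v₂ + c.2.2.1 • v₃ + c.2.2.2 • v₄) := by
    intro x
    obtain ⟨c₁, c₂, c₃, c₄, h⟩ := hcon x
    exact ⟨(c₁, c₂, c₃, c₄), h.symm⟩
  have h1 := Fintype.card_le_of_surjective _ hs
  have h2 : Fintype.card V = 64 := by simp [V, ZMod.card]
  have h3 : Fintype.card (ZMod 2 × ZMod 2 × ZMod 2 × ZMod 2) = 16 := by simp [ZMod.card]
  rw [h2, h3] at h1
  omega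

theorem qf : QF q B where
  qadd := qadd
  dual := exists_dual
  nondeg := nondeg
  sing := ⟨![1, 0, 0, 0, 0, 0], by decide, by decide⟩
  nonsing := ⟨![1, 1, 0, 0, 0, 0], by decide⟩
  L1 := L1
  L2 := L2
  big := big

end Cfsg.Agent.SuzClosing.Inst
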