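import Cfsg.Agent.SuzClosing.InstQ

/-!
Two commuting involutions of the centraliser of the involution `a` in the presented Suzuki group which, like their
product, induce products of two orthogonal transvections.
-/

set_option autoImplicit false
set_option maxRecDepth 100000
set_option exponentiation.threshold 4000

namespace Cfsg.Agent.SuzClosing.Inst

open Cfsg.Spor Cfsg.Agent.Lib.PermNet Cfsg.Agent.Lib.PermNetOrbit Cfsg.Agent.SporadicRecognition.SuzPhi
  Cfsg.Agent.SporadicRecognition.SuzBound Cfsg.Agent.SporadicRecognition.SuzOrder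
  Cfsg.Agent.SuzThree.Basic Cfsg.Agent.SuzThree.CentA Cfsg.Agent.SuzThree.CentCard
  Cfsg.Agent.SuzThree.QZero

theorem sum_e6 (u : V) : u = u 0 • e 0 + (u 1 • e 1 + (u 2 • e 2 + (u 3 • e 3 + (u 4 • e 4 + u 5 • e 5)))) := by
  ext j
  fin_cases j <;> simp [e]

theorem lin6 {M : Type*} [AddCommGroup M] [Module (ZMod 2) M] (c : Fin 6 → ZMod 2) (E : Fin 6 → M) (p r : Fin 6 → ZMod 2)
    (v w : M) :
    c 0 • (E 0 + p 0 • v + r 0 • w) + (c 1 • (E 1 + p 1 • v + r 1 • w) + (c 2 • (E 2 + p 2 • v + r 2 • w) +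
      (c 3 • (E 3 + p 3 • v + r 3 • w) + (c 4 • (E 4 + p 4 • v + r 4 • w) + c 5 • (E 5 + p 5 • v + r 5 • w))))) =
    (c 0 • E 0 + (c 1 • E 1 + (c 2 • E 2 + (c 3 • E 3 + (c 4 • E 4 + c 5 • E 5))))) +
    (c 0 * p 0 + (c 1 * p 1 + (c 2 * p 2 + (c 3 * p 3 + (c 4 * p 4 + c 5 * p 5))))) • v +
    (c 0 * r 0 + (c 1 * r 1 + (c 2 * r 2 + (c 3 * r 3 + (c 4 * r 4 + c 5 * r 5))))) • w := by
  module

theorem B_sum (t u : V) : B t u = u 0 * B t (e 0) + (u 1 * B t (e 1) + (u 2 * B t (e 2) + (u 3 * B t (e 3) +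
    (u 4 * B t (e 4) + u 5 * B t (e 5))))) := by
  conv_lhs => rw [sum_e6 u]
  simp only [map_add, map_smul, smul_eq_mul]

theorem cj_of {y : Fin 6 → ZMod 2 × V} {v w : V} (hv : ∀ i, (y i).2 = e i + B v (e i) • v + B w (e i) • w) (u : V) :
    (cj y u).2 = u + B v u • v + B w u • w := by
  rw [cj_snd, hv, hv, hv, hv, hv, hv]
  have h := lin6 u e (fun i => B v (e i)) (fun i => B w (e i)) v w
  rw [← sum_e6 u, ← B_sum, ← B_sum] at h
  exact h

theorem vec_ne4 (p : ZMod 2 × V) : gens.vec (ne zH xH p) = p.2 := gens.vec_nf p.1 p.2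

/-- `Act` from the images of the generators -/
theorem act_of {b : H} {y : Fin 6 → ZMod 2 × V} (hy : ∀ i, b * xH i * b⁻¹ = ne zH xH (y i)) {v w : V}
    (hv : ∀ i, (y i).2 = e i + B v (e i) • v + B w (e i) • w) : Act B gens.Q gens.vec b v w := by
  intro x hx
  obtain ⟨a, u, h0⟩ := hx
  have h2 : x = ne zH xH (a, u) := h0
  rw [h2, conj_ne gens hy (a, u), vec_ne4, vec_ne4]
  exact cj_of hv u

/-- images of the generators under `f4` -/
def j5 : Fin 6 → List (Option (Fin 6)) :=
  ![[some 0, none], [some 0, some 1, some 3, some 4, none], [some 0, some 2, some 3, some 4, none],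
    [some 0, some 4], [some 0, some 3, none], [some 1, some 2, some 3, some 4, some 5, none]]

/-- a word -/
def w4 : List Suz.Gen := [.d, .b, .a, .c, .g, .b, .f, .g, .b, .c, .d, .c, .b, .g, .f, .b, .a, .c, .d, .g, .b]

theorem w4_mem : el w4 ∈ C1 := mem_C1_of (by decide +kernel)

/-- an involution -/
noncomputable def f4 : H := ⟨el w4, w4_mem⟩

theorem conj5 (i : Fin 6) : f4 * xH i * f4⁻¹ = ne zH xH (nfl (j5 i)) := by
  fin_cases i <;> exact conj_x w4_mem (by decide +kernel)

theorem f4_sq : f4 * f4 = 1 := by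
  apply Subtype.ext
  show el w4 * el w4 = 1
  exact eq_of_reps ((Rep.el w4).mul (Rep.el w4)) Rep.one (by decide +kernel)

theorem g1_sq : g1 * g1 = 1 := by
  apply Subtype.ext
  show el [.e] * el [.e] = 1
  exact eq_of_reps ((Rep.el [.e]).mul (Rep.el [.e])) Rep.one (by decide +kernel)

theorem g1_f4 : g1 * f4 = f4 * g1 := by
  apply Subtype.ext
  show el [.e] * el w4 = el w4 * el [.e]
  exact eq_of_reps ((Rep.el _).mul (Rep.el w4)) ((Rep.el w4).mul (Rep.el _)) (by decide +kernel)

/-- vectors -/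
def va : V := ![1, 1, 1, 0, 0, 0]
/-- vectors -/
def vb : V := ![0, 1, 1, 0, 0, 0]
/-- vectors -/
def vc : V := ![1, 0, 0, 1, 1, 0]

theorem pair_ab : Pair q B va vb := ⟨by decide, by decide, by decide, by decide⟩
theorem pair_ac : Pair q B va vc := ⟨by decide, by decide, by decide, by decide⟩
theorem pair_bc : Pair q B vb vc := ⟨by decide, by decide, by decide, by decide⟩

theorem act_g1 : Act B gens.Q gens.vec g1 va vb := act_of conj1 (by decide +kernel)

theorem act_f4 : Act B gens.Q gens.vec f4 va vc := act_of conj5 (by decide +kernel)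

theorem isB_g1 : IsB q B gens.Q gens.vec g1 := ⟨g1_sq, va, vb, pair_ab, act_g1⟩

theorem isB_f4 : IsB q B gens.Q gens.vec f4 := ⟨f4_sq, va, vc, pair_ac, act_f4⟩

theorem norm_f4 {x : H} (hx : x ∈ gens.Q) : f4 * x * f4⁻¹ ∈ gens.Q := by
  obtain ⟨a, u, rfl⟩ := hx
  have h1 := conj_ne gens conj5 (a, u)
  have h2 : ne zH xH (a, u) = pw zH a * E xH u := rfl
  rw [h2] at h1
  rw [h1]
  exact ⟨_, _, rfl⟩

theorem isB_mul : IsB q B gens.Q gens.vec (g1 * f4) := by
  refine ⟨?_, vb, vc, pair_bc, ?_⟩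
  · calc g1 * f4 * (g1 * f4) = g1 * (f4 * g1) * f4 := by group
      _ = (g1 * g1) * (f4 * f4) := by rw [← g1_f4]; group
      _ = 1 := by rw [g1_sq, f4_sq, one_mul]
  · intro x hx
    have e1 : g1 * f4 * x * (g1 * f4)⁻¹ = g1 * (f4 * x * f4⁻¹) * g1⁻¹ := by group
    rw [e1, act_g1 _ (norm_f4 hx), act_f4 x hx]
    generalize gens.vec x = u
    have h1 : B va (u + B va u • va + B vc u • vc) = B va u := by
      rw [map_add, map_add, map_smul, map_smul]
      have : B va va = 0 := by decide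
      have h2 : B va vc = 0 := by decide
      rw [this, h2, smul_zero, smul_zero, add_zero, add_zero]
    have h2 : B vb (u + B va u • va + B vc u • vc) = B vb u := by
      rw [map_add, map_add, map_smul, map_smul]
      have : B vb va = 0 := by decide
      have h2 : B vb vc = 0 := by decide
      rw [this, h2, smul_zero, smul_zero, add_zero, add_zero]
    rw [h1, h2]
    calc u + B va u • va + B vc u • vc + B va u • va + B vb u • vb
        = u + B vb u • vb + B vc u • vc + (B va u • va + B va u • va) := by abel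
      _ = _ := by rw [add_self', add_zero]

/-- The field `four` of `Loc`. -/
theorem four_g1 : ∃ r s, IsB q B gens.Q gens.vec r ∧ IsB q B gens.Q gens.vec s ∧ IsB q B gens.Q gens.vec (r * s) ∧
    r * s = s * r := ⟨g1, f4, isB_g1, isB_f4, isB_mul, g1_f4⟩

end Cfsg.Agent.SuzClosing.Inst
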