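import Cfsg.Agent.SuzClosing.InstC

/-!
The centraliser of the involution `a` in the presented Suzuki group: `Pre`.
-/

set_option autoImplicit false
set_option maxRecDepth 100000
set_option exponentiation.threshold 4000

namespace Cfsg.Agent.SuzClosing.Inst

open Cfsg.Spor Cfsg.Agent.SporadicRecognition.SuzPhi Cfsg.Agent.SporadicRecognition.SuzOrder
  Cfsg.Agent.SuzThree.CentA Cfsg.Agent.SuzThree.CentCard Cfsg.Agent.SuzThree.QZero
  Cfsg.Agent.SporRec.SuzCl

/-! ### `QH = Q0` -/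

theorem ix_surj (i : Qx) : ∃ k, ix k = i := by
  cases i
  · exact ⟨0, rfl⟩
  · exact ⟨1, rfl⟩
  · exact ⟨2, rfl⟩
  · exact ⟨3, rfl⟩
  · exact ⟨4, rfl⟩
  · exact ⟨5, rfl⟩

theorem xH_mem (i : Fin 6) : xH i ∈ QH := by
  rw [← E_e (x := xH) i]
  exact gens.E_mem _

theorem coe_mem {x : H} : (x : Suz) ∈ Q0 ↔ x ∈ QH := by
  constructor
  · intro hx
    have h1 : Q0 ≤ QH.map C1.subtype := by
      rw [Q0, Subgroup.closure_le]
      rintro y (rfl | hy)
      · exact ⟨zH, gens.z_mem, rfl⟩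
      · obtain ⟨i, _, rfl⟩ := List.mem_map.1 hy
        obtain ⟨k, rfl⟩ := ix_surj i
        exact ⟨xH k, xH_mem k, rfl⟩
    obtain ⟨y, hy, hyx⟩ := h1 hx
    have : y = x := Subtype.ext hyx
    rw [← this]; exact hy
  · rintro ⟨a, v, rfl⟩
    have hz : ∀ a, ((pw zH a : H) : Suz) ∈ Q0 := by
      intro a
      rcases two_cases a with rfl | rfl
      · rw [pw_zero]; exact Q0.one_mem
      · rw [pw_one]; exact z_mem
    have hx : ∀ i a, ((pw (xH i) a : H) : Suz) ∈ Q0 := by
      intro i a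
      rcases two_cases a with rfl | rfl
      · rw [pw_zero]; exact Q0.one_mem
      · rw [pw_one]; exact q_mem _
    exact Q0.mul_mem (hz a) (Q0.mul_mem (hx _ _) (Q0.mul_mem (hx _ _) (Q0.mul_mem (hx _ _)
      (Q0.mul_mem (hx _ _) (Q0.mul_mem (hx _ _) (hx _ _))))))

theorem norm (g : H) (x : H) (hx : x ∈ QH) : g * x * g⁻¹ ∈ QH := by
  rw [← coe_mem] at hx ⊢
  exact (Subgroup.mem_normalizer_iff.1 (C1_le_normalizer g.2) _).1 hx

/-- the vector -/
noncomputable def vec : H → V := gens.vec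

theorem vec_ne (p : ZMod 2 × V) : vec (ne zH xH p) = p.2 := gens.vec_nf p.1 p.2

theorem vec_mul {x y : H} (hx : x ∈ QH) (hy : y ∈ QH) : vec (x * y) = vec x + vec y := gens.vec_mul hx hy

theorem vec_one : vec 1 = 0 := by
  have := vec_ne (0, 0)
  rwa [ne_zero] at this

theorem vec_inv {x : H} (hx : x ∈ QH) : vec x⁻¹ = vec x := by
  have h1 := vec_mul hx (QH.inv_mem hx)
  rw [mul_inv_cancel, vec_one] at h1
  exact (eq_of_add_eq_zero' h1.symm).symm

theorem vec_eq {x y : H} (hx : x ∈ QH) (hy : y ∈ QH) (hxy : vec x = vec y) : x = y ∨ x = zH * y := by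
  have h1 : vec (x * y⁻¹) = 0 := by
    rw [vec_mul hx (QH.inv_mem hy), vec_inv hy, hxy, add_self']
  rcases gens.vec_ker (QH.mul_mem hx (QH.inv_mem hy)) h1 with h2 | h2
  · left; exact mul_inv_eq_one.1 h2
  · right; exact mul_inv_eq_iff_eq_mul.1 h2

theorem vec_zmul {x : H} (hx : x ∈ QH) : vec (zH * x) = vec x := by
  rw [vec_mul gens.z_mem hx]
  show gens.vec zH + _ = _
  rw [gens.vec_z, zero_add]

theorem vec_conj {g x y : H} (hx : x ∈ QH) (hy : y ∈ QH) (hxy : vec x = vec y) :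
    vec (g * x * g⁻¹) = vec (g * y * g⁻¹) := by
  rcases vec_eq hx hy hxy with rfl | rfl
  · rfl
  · have h1 : g * (zH * y) * g⁻¹ = zH * (g * y * g⁻¹) := by
      calc g * (zH * y) * g⁻¹ = (g * zH) * y * g⁻¹ := by group
        _ = (zH * g) * y * g⁻¹ := by rw [gens.zc]
        _ = _ := by group
    rw [h1, vec_zmul (norm g y hy)]

/-! ### The kernel of the action -/

/-- the kernel -/
noncomputable def KH : Subgroup H where
  carrier := {g | ∀ x ∈ QH, vec (g * x * g⁻¹) = vec x}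
  one_mem' := by
    intro x _
    rw [one_mul, inv_one, mul_one]
  mul_mem' := by
    intro g k hg hk x hx
    have e : g * k * x * (g * k)⁻¹ = g * (k * x * k⁻¹) * g⁻¹ := by group
    rw [e, hg _ (norm k x hx), hk x hx]
  inv_mem' := by
    intro g hg x hx
    have h1 := hg _ (norm g⁻¹ x hx)
    rw [← h1]
    congr 1
    group

theorem mem_KH {g : H} : g ∈ KH ↔ ∀ x ∈ QH, vec (g * x * g⁻¹) = vec x := Iff.rfl

theorem KH_conj {g c : H} (hg : g ∈ KH) : c * g * c⁻¹ ∈ KH := by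
  intro x hx
  have hy := norm c⁻¹ x hx
  have e : c * g * c⁻¹ * x * (c * g * c⁻¹)⁻¹ = c * (g * (c⁻¹ * x * c⁻¹⁻¹) * g⁻¹) * c⁻¹ := by group
  have e2 : c * (c⁻¹ * x * c⁻¹⁻¹) * c⁻¹ = x := by group
  rw [e, vec_conj (norm g _ hy) hy (hg _ hy), e2]

theorem QH_le : QH ≤ KH := by
  intro g hg x hx
  rw [vec_mul (QH.mul_mem hg hx) (QH.inv_mem hg), vec_mul hg hx, vec_inv hg, add_comm (vec g), add_assoc,
    add_self', add_zero]

/-- An element of odd order of the kernel is trivial. -/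
theorem KH_odd {g : H} (hg : g ∈ KH) {m : ℕ} (hm : m % 2 = 1) (hgm : g ^ m = 1) : g = 1 := by
  have hcomm : ∀ x ∈ QH, g * x = x * g := by
    intro x hx
    have h1 := vec_eq (norm g x hx) hx (hg x hx)
    rcases h1 with h1 | h1
    · rw [mul_inv_eq_iff_eq_mul] at h1; exact h1
    · exfalso
      have h2 : ∀ n : ℕ, g ^ n * x * (g ^ n)⁻¹ = pw zH (n : ZMod 2) * x := by
        intro n
        induction n with
        | zero => rw [pow_zero, Nat.cast_zero, pw_zero]; group
        | succ n ih =>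
          have e : g ^ (n + 1) * x * (g ^ (n + 1))⁻¹ = g * (g ^ n * x * (g ^ n)⁻¹) * g⁻¹ := by
            rw [pow_succ']; group
          rw [e, ih, Nat.cast_succ, gens.zadd, pw_one]
          calc g * (pw zH (n : ZMod 2) * x) * g⁻¹ = (g * pw zH (n : ZMod 2)) * x * g⁻¹ := by group
            _ = pw zH (n : ZMod 2) * (g * x * g⁻¹) := by rw [gens.zpc]; group
            _ = _ := by rw [h1]; group
      have h3 := h2 m
      have h4 : ((m : ℕ) : ZMod 2) = 1 := by
        have : m = 2 * (m / 2) + 1 := by omega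
        rw [this]; push_cast
        have h5 : (2 : ZMod 2) = 0 := by decide
        rw [h5, zero_mul, zero_add]
      rw [hgm, h4, pw_one, one_mul, inv_one, mul_one] at h3
      have h5 : zH = 1 := by
        calc zH = (zH * x) * x⁻¹ := by group
          _ = 1 := by rw [← h3, mul_inv_cancel]
      exact gens.z1 h5
  apply Subtype.ext
  refine eq_one_of_odd (m := m) ?_ hm ?_
  · intro y hy
    have hyC : y ∈ C1 := Q0_le hy
    exact congrArg Subtype.val (hcomm ⟨y, hyC⟩ (coe_mem.1 hy))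
  · exact congrArg Subtype.val hgm

theorem KH_two : IsPGroup 2 KH := by
  intro ⟨g, hg⟩
  have hpos : orderOf g ≠ 0 := (orderOf_pos g).ne'
  obtain ⟨k, m, hm, hn⟩ := Nat.exists_eq_two_pow_mul_odd hpos
  refine ⟨k, ?_⟩
  apply Subtype.ext
  show g ^ 2 ^ k = 1
  apply KH_odd (KH.pow_mem hg _) (m := m) (Nat.odd_iff.1 hm)
  rw [← pow_mul, ← hn, pow_orderOf_eq_one]

theorem T_le_C1 : ((TS : Subgroup Suz)) ≤ C1 := by
  rw [C1_eq, coe_TS]; exact T_le

/-- the Sylow subgroup -/
noncomputable def TH : Sylow 2 H := TS.subtype T_le_C1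

theorem KH_le_T {g : H} (hg : g ∈ KH) : (g : Suz) ∈ T := by
  obtain ⟨P, hP⟩ := KH_two.exists_le_sylow
  obtain ⟨c, hc⟩ := MulAction.exists_smul_eq H P TH
  have h1 : c⁻¹ * g * c⁻¹⁻¹ ∈ (P : Subgroup H) := hP (KH_conj hg)
  have h2 : c * (c⁻¹ * g * c⁻¹⁻¹) * c⁻¹ ∈ (TH : Subgroup H) := by
    rw [← hc]
    exact ⟨_, h1, rfl⟩
  have e : c * (c⁻¹ * g * c⁻¹⁻¹) * c⁻¹ = g := by group
  rw [e] at h2
  exact h2

/-! ### Counting -/

/-- the product of generators `k` commutes with an involution modulo `a` -/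
noncomputable def cB (k : ℕ) (t : ℕ → ℕ) : Bool :=
  or (Cfsg.Agent.SporRec.SuzCl.eqB (fun p => tev Ts k 0 (t p)) (fun p => t (tev Ts k 0 p)))
    (Cfsg.Agent.SporRec.SuzCl.eqB (fun p => tev Ts k 0 (t p)) (fun p => app tA (t (tev Ts k 0 p))))

noncomputable def cK (k : ℕ) : Bool := and (cB k (app t2)) (cB k (app tF))

theorem cnt : cntP cK 13 0 = 128 := by decide +kernel

theorem cB_of {k : ℕ} {t : ℕ} {y : Suz} (ht : R t y) (h : pr Gs k * y = y * pr Gs k ∨ pr Gs k * y = z0 * (y * pr Gs k)) :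
    cB k (app t) = true := by
  unfold cB
  rw [Bool.or_eq_true]
  have hT := tev_zero R_Ts k
  rcases h with h | h
  · left
    refine eqB_of_eq (fun p hp => ?_) (fun p hp => ?_) h
    · rw [map_mul, Equiv.Perm.mul_apply, (ht p hp).1, (hT _ (ht p hp).2).1]
    · rw [map_mul, Equiv.Perm.mul_apply, (hT p hp).1, (ht _ (hT p hp).2).1]
  · right
    refine eqB_of_eq (fun p hp => ?_) (fun p hp => ?_) h
    · rw [map_mul, Equiv.Perm.mul_apply, (ht p hp).1, (hT _ (ht p hp).2).1]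
    · have h1 := hT p hp
      have h2 := ht _ h1.2
      rw [z0_eq, map_mul, map_mul, Equiv.Perm.mul_apply, Equiv.Perm.mul_apply, h1.1, h2.1, (R_a _ h2.2).1]

theorem KH_card : Nat.card KH ≤ 128 := by
  have hk : ∀ g : KH, ∃ k, k < 8192 ∧ ((g : H) : Suz) = pr Gs k := fun g => (mem_T _).1 (KH_le_T g.2)
  choose f hf1 hf2 using hk
  have hcK : ∀ g : KH, cK (f g) = true := by
    intro g
    have hcomm : ∀ i, pr Gs (f g) * (xH i : Suz) = (xH i : Suz) * pr Gs (f g) ∨
        pr Gs (f g) * (xH i : Suz) = z0 * ((xH i : Suz) * pr Gs (f g)) := by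
      intro i
      rw [← hf2]
      rcases vec_eq (norm g.1 _ (xH_mem i)) (xH_mem i) (g.2 _ (xH_mem i)) with h1 | h1
      · left
        rw [mul_inv_eq_iff_eq_mul] at h1
        exact congrArg Subtype.val h1
      · right
        rw [mul_inv_eq_iff_eq_mul, mul_assoc] at h1
        exact congrArg Subtype.val h1
    unfold cK
    rw [Bool.and_eq_true]
    constructor
    · refine cB_of (y := (xH 1 : Suz)) ?_ (hcomm 1)
      exact R2
    · refine cB_of (y := (xH 3 : Suz)) ?_ (hcomm 3)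
      have : ((xH 3 : H) : Suz) = PresentedGroup.of Suz.Gen.f := by
        show ([Suz.Gen.f].map fun x => (PresentedGroup.of x : Suz)).prod = _
        rw [List.map_singleton, List.prod_singleton]
      rw [this]
      exact R_gen Suz.Gen.f
  have h1 := cnt
  rw [cntP_eq] at h1
  rw [← h1, ← Fintype.card_coe, ← Nat.card_eq_fintype_card]
  refine Nat.card_le_card_of_injective (fun g => ⟨f g, ?_⟩) ?_
  · rw [Finset.mem_filter, Finset.mem_Ico]
    exact ⟨⟨Nat.zero_le _, by norm_num; exact hf1 g⟩, hcK g⟩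
  · intro g g' h
    have h2 : f g = f g' := congrArg Subtype.val h
    apply Subtype.ext
    apply Subtype.ext
    rw [hf2 g, hf2 g', h2]

theorem QH_card : 128 ≤ Nat.card QH := by
  have h1 : Nat.card (ZMod 2 × V) = 128 := by
    rw [Nat.card_eq_fintype_card]
    simp [ZMod.card]
  rw [← h1]
  refine Nat.card_le_card_of_injective (fun p => ⟨ne zH xH p, gens.nf_mem p.1 p.2⟩) ?_
  rintro ⟨a, v⟩ ⟨b, w⟩ h
  have h2 : pw zH a * E xH v = pw zH b * E xH w := congrArg Subtype.val h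
  obtain ⟨h3, h4⟩ := gens.nf_inj h2
  rw [h3, h4]

theorem KH_eq : QH = KH := Subgroup.eq_of_le_of_card_ge QH_le (KH_card.trans QH_card)

/-- **`Pre` for the centraliser of `a`.** -/
theorem pre : Pre q B zH QH vec where
  zc := gens.zc
  zz := gens.zz
  z1 := gens.z1
  zQ := gens.z_mem
  norm := norm
  vmul := fun x hx y hy => vec_mul hx hy
  vker := fun x hx h0 => gens.vec_ker hx h0
  vz := gens.vec_z
  vsurj := fun v => ⟨E xH v, gens.E_mem v, gens.vec_E v⟩
  sq0 := fun x hx h0 => gens.sq0 hx h0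
  sq1 := fun x hx h0 => gens.sq1 hx h0
  cent := fun g hg => by
    rw [KH_eq]
    exact hg

/-- the action of an element -/
theorem rho_eq {g : H} {y : Fin 6 → ZMod 2 × V} (hy : ∀ i, g * xH i * g⁻¹ = ne zH xH (y i)) (v : V) :
    pre.rho g v = (cj y v).2 := by
  have h1 := pre.rho_vec g (gens.E_mem v)
  have h2 : vec (E xH v) = v := gens.vec_E v
  rw [h2] at h1
  rw [h1, conj_E gens hy, vec_ne]

theorem rho0 (v : V) : pre.rho g0 v = (cj (fun i => nfl (j0 i)) v).2 := rho_eq conj0 v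
theorem rho1 (v : V) : pre.rho g1 v = (cj (fun i => nfl (j1 i)) v).2 := rho_eq conj1 v
theorem rho2 (v : V) : pre.rho g2 v = (cj (fun i => nfl (j2 i)) v).2 := rho_eq conj2 v
theorem rho3 (v : V) : pre.rho g3 v = (cj (fun i => nfl (j3 i)) v).2 := rho_eq conj3 v
theorem rho4 (v : V) : pre.rho g4 v = (cj (fun i => nfl (j4 i)) v).2 := rho_eq conj4 v

end Cfsg.Agent.SuzClosing.Inst
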