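import Cfsg.Agent.SuzClosing.InstE
import Cfsg.Agent.SuzThree.CentCard

/-!
The extraspecial normal subgroup of the centraliser of the involution `a` in the presented Suzuki group, and the action
of the five generating words.
-/

set_option autoImplicit false
set_option maxRecDepth 100000
set_option exponentiation.threshold 4000

namespace Cfsg.Agent.SuzClosing.Inst

open Cfsg.Spor Cfsg.Agent.Lib.PermNet Cfsg.Agent.SporadicRecognition.SuzPhi
  Cfsg.Agent.SporadicRecognition.SuzBound Cfsg.Agent.SporadicRecognition.SuzOrder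
  Cfsg.Agent.SuzThree.Basic Cfsg.Agent.SuzThree.CentA Cfsg.Agent.SuzThree.CentCard
  Cfsg.Agent.SuzThree.QZero

/-! ### Normal forms -/

/-- the basis -/
def e (i : Fin 6) : V := Pi.single i 1

/-- product of normal forms -/
def nfm (p r : ZMod 2 × V) : ZMod 2 × V := (p.1 + r.1 + bt p.2 r.2, p.2 + r.2)

/-- power of a normal form -/
def sm (a : ZMod 2) (p : ZMod 2 × V) : ZMod 2 × V := (a * p.1, a • p.2)

/-- image of a vector when the images of the generators are known -/
def cj (y : Fin 6 → ZMod 2 × V) (v : V) : ZMod 2 × V :=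
  nfm (sm (v 0) (y 0)) (nfm (sm (v 1) (y 1)) (nfm (sm (v 2) (y 2)) (nfm (sm (v 3) (y 3))
    (nfm (sm (v 4) (y 4)) (sm (v 5) (y 5))))))

theorem cj_snd (y : Fin 6 → ZMod 2 × V) (v : V) : (cj y v).2 = v 0 • (y 0).2 + (v 1 • (y 1).2 +
    (v 2 • (y 2).2 + (v 3 • (y 3).2 + (v 4 • (y 4).2 + v 5 • (y 5).2)))) := rfl

section

variable {G : Type*} [Group G] {z : G} {x : Fin 6 → G}

/-- the element of a normal form -/
def ne (z : G) (x : Fin 6 → G) (p : ZMod 2 × V) : G := pw z p.1 * E x p.2

theorem ne_mul (h : Gens z x) (p r : ZMod 2 × V) : ne z x p * ne z x r = ne z x (nfm p r) :=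
  h.nf_mul p.1 r.1 p.2 r.2

theorem ne_zero : ne z x (0, 0) = 1 := by
  show pw z 0 * E x 0 = 1
  rw [pw_zero, Gens.E_zero, mul_one]

theorem ne_pw (p : ZMod 2 × V) (a : ZMod 2) : pw (ne z x p) a = ne z x (sm a p) := by
  rcases two_cases a with rfl | rfl
  · rw [pw_zero]
    show _ = pw z (0 * p.1) * E x ((0 : ZMod 2) • p.2)
    rw [zero_mul, zero_smul, pw_zero, Gens.E_zero, mul_one]
  · rw [pw_one]
    show _ = pw z (1 * p.1) * E x ((1 : ZMod 2) • p.2)
    rw [one_mul, one_smul]; rfl

theorem E_e (i : Fin 6) : E x (e i) = x i := by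
  have h : ∀ a b c d e' f, E x ![a, b, c, d, e', f] =
      pw (x 0) a * (pw (x 1) b * (pw (x 2) c * (pw (x 3) d * (pw (x 4) e' * pw (x 5) f)))) := fun _ _ _ _ _ _ => rfl
  fin_cases i
  · have : e 0 = ![1, 0, 0, 0, 0, 0] := by ext i; fin_cases i <;> rfl
    show E x (e 0) = x 0
    rw [this, h]; simp only [pw_zero, pw_one, mul_one]
  · have : e 1 = ![0, 1, 0, 0, 0, 0] := by ext i; fin_cases i <;> rfl
    show E x (e 1) = x 1
    rw [this, h]; simp only [pw_zero, pw_one, mul_one, one_mul]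
  · have : e 2 = ![0, 0, 1, 0, 0, 0] := by ext i; fin_cases i <;> rfl
    show E x (e 2) = x 2
    rw [this, h]; simp only [pw_zero, pw_one, mul_one, one_mul]
  · have : e 3 = ![0, 0, 0, 1, 0, 0] := by ext i; fin_cases i <;> rfl
    show E x (e 3) = x 3
    rw [this, h]; simp only [pw_zero, pw_one, mul_one, one_mul]
  · have : e 4 = ![0, 0, 0, 0, 1, 0] := by ext i; fin_cases i <;> rfl
    show E x (e 4) = x 4
    rw [this, h]; simp only [pw_zero, pw_one, mul_one, one_mul]
  · have : e 5 = ![0, 0, 0, 0, 0, 1] := by ext i; fin_cases i <;> rfl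
    show E x (e 5) = x 5
    rw [this, h]; simp only [pw_zero, pw_one, one_mul]

theorem ne_z : ne z x (1, 0) = z := by
  show pw z 1 * E x 0 = z
  rw [pw_one, Gens.E_zero, mul_one]

theorem ne_x (i : Fin 6) : ne z x (0, e i) = x i := by
  show pw z 0 * E x (e i) = x i
  rw [pw_zero, one_mul, E_e]

theorem conj_pw (g y : G) (a : ZMod 2) : g * pw y a * g⁻¹ = pw (g * y * g⁻¹) a := by
  rcases two_cases a with rfl | rfl
  · rw [pw_zero, pw_zero]; group
  · rw [pw_one, pw_one]

/-- conjugation in normal forms -/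
theorem conj_E (h : Gens z x) {g : G} {y : Fin 6 → ZMod 2 × V} (hy : ∀ i, g * x i * g⁻¹ = ne z x (y i)) (v : V) :
    g * E x v * g⁻¹ = ne z x (cj y v) := by
  unfold E cj
  rw [← ne_mul h, ← ne_mul h, ← ne_mul h, ← ne_mul h, ← ne_mul h, ← ne_pw, ← ne_pw, ← ne_pw, ← ne_pw, ← ne_pw,
    ← ne_pw, ← hy, ← hy, ← hy, ← hy, ← hy, ← hy, ← conj_pw, ← conj_pw, ← conj_pw, ← conj_pw, ← conj_pw, ← conj_pw]
  group

theorem conj_ne (h : Gens z x) {g : G} {y : Fin 6 → ZMod 2 × V} (hy : ∀ i, g * x i * g⁻¹ = ne z x (y i))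
    (p : ZMod 2 × V) : g * ne z x p * g⁻¹ = ne z x (p.1 + (cj y p.2).1, (cj y p.2).2) := by
  show g * (pw z p.1 * E x p.2) * g⁻¹ = pw z (p.1 + (cj y p.2).1) * E x (cj y p.2).2
  calc g * (pw z p.1 * E x p.2) * g⁻¹ = (g * pw z p.1) * E x p.2 * g⁻¹ := by group
    _ = pw z p.1 * (g * E x p.2 * g⁻¹) := by rw [h.zpc]; group
    _ = pw z p.1 * (pw z (cj y p.2).1 * E x (cj y p.2).2) := by rw [conj_E h hy]; rfl
    _ = _ := by rw [h.zadd]; group

end

/-! ### The instance -/

/-- the centraliser -/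
abbrev H := ↥C1

/-- the central involution -/
noncomputable def zH : H := ⟨z0, mem_C1.2 rfl⟩

/-- indices -/
def ix : Fin 6 → Qx := ![.k1, .k2, .k3, .k4, .k5, .k6]

/-- the generators -/
noncomputable def xH (i : Fin 6) : H := ⟨Cfsg.Agent.SuzThree.QZero.q (ix i), q_mem_C1 _⟩

theorem q_cm (i j : Qx) : Cfsg.Agent.SuzThree.QZero.q i * Cfsg.Agent.SuzThree.QZero.q j = (cond (cm i j) 1 z0) * (Cfsg.Agent.SuzThree.QZero.q j * Cfsg.Agent.SuzThree.QZero.q i) := by
  have h : allL (fun i => allL (fun j => cond (cm i j) (checkEq 11 (qn i ++ qn j) (qn j ++ qn i))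
      (checkEq 11 (qn i ++ qn j) (wd [.a] ++ (qn j ++ qn i)))) ql) ql = true := by decide +kernel
  have h1 := allL_spec (allL_spec h i (mem_ql i)) j (mem_ql j)
  cases hc : cm i j
  · rw [hc] at h1
    exact eq_of_reps ((rep_q i).mul (rep_q j)) (rep_z.mul ((rep_q j).mul (rep_q i))) h1
  · rw [hc] at h1
    rw [cond_true, one_mul]
    exact eq_of_reps ((rep_q i).mul (rep_q j)) ((rep_q j).mul (rep_q i)) h1

theorem cf_eq : ∀ i j : Fin 6, cf i j = cond (cm (ix i) (ix j)) 0 1 := by decide

theorem gens : Gens zH xH where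
  zc g := Subtype.ext (mem_C1.1 g.2)
  zz := Subtype.ext z_sq
  z1 := by
    intro h
    exact Cfsg.Agent.SporRec.SuzCl.a_ne (z0_eq ▸ congrArg Subtype.val h)
  sq i := Subtype.ext (q_sq _)
  cm i j := by
    apply Subtype.ext
    show Cfsg.Agent.SuzThree.QZero.q (ix i) * Cfsg.Agent.SuzThree.QZero.q (ix j) = (pw zH (cf i j) : Suz) * (Cfsg.Agent.SuzThree.QZero.q (ix j) * Cfsg.Agent.SuzThree.QZero.q (ix i))
    rw [q_cm, cf_eq]
    cases cm (ix i) (ix j)
    · rw [cond_false, cond_false, pw_one]; rfl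
    · rw [cond_true, cond_true, pw_zero]

/-- the normal subgroup -/
noncomputable def QH : Subgroup H := gens.Q

/-- product of generators -/
noncomputable def qpH : List (Option (Fin 6)) → H
  | [] => 1
  | none :: l => zH * qpH l
  | some i :: l => xH i * qpH l

theorem coe_qpH (l : List (Option (Fin 6))) : (qpH l : Suz) = qp (l.map (Option.map ix)) := by
  induction l with
  | nil => rfl
  | cons a l ih =>
    cases a with
    | none =>
      show (zH : Suz) * (qpH l : Suz) = z0 * qp _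
      rw [ih]; rfl
    | some i =>
      show (xH i : Suz) * (qpH l : Suz) = Cfsg.Agent.SuzThree.QZero.q (ix i) * qp _
      rw [ih]; rfl

/-- its normal form -/
def nfl : List (Option (Fin 6)) → ZMod 2 × V
  | [] => (0, 0)
  | none :: l => nfm (1, 0) (nfl l)
  | some i :: l => nfm (0, e i) (nfl l)

theorem qpH_eq (l : List (Option (Fin 6))) : qpH l = ne zH xH (nfl l) := by
  induction l with
  | nil => exact ne_zero.symm
  | cons a l ih =>
    cases a with
    | none =>
      show zH * qpH l = ne zH xH (nfm (1, 0) (nfl l))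
      rw [← ne_mul gens, ih, ne_z]
    | some i =>
      show xH i * qpH l = ne zH xH (nfm (0, e i) (nfl l))
      rw [← ne_mul gens, ih, ne_x]

/-- images of the generators -/
def j0 : Fin 6 → List (Option (Fin 6)) :=
  ![[some 1], [some 0], [some 2], [some 3], [some 4], [some 0, some 1, some 2, some 5]]
/-- images of the generators -/
def j1 : Fin 6 → List (Option (Fin 6)) :=
  ![[some 0], [some 2], [some 1], [some 3], [some 4], [some 0, some 1, some 2, some 5]]
/-- images of the generators -/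
def j2 : Fin 6 → List (Option (Fin 6)) :=
  ![[some 0], [some 1, some 3, none], [some 2, some 3, none], [some 3], [some 0, some 4, none], [some 3, some 5, none]]
/-- images of the generators -/
def j3 : Fin 6 → List (Option (Fin 6)) :=
  ![[some 0], [some 1, some 4, none], [some 2, some 4, none], [some 0, some 3, none], [some 4], [some 4, some 5, none]]
/-- images of the generators -/
def j4 : Fin 6 → List (Option (Fin 6)) :=
  ![[some 0, none], [some 1, none], [some 5, none], [some 3], [some 4], [some 0, some 1, some 2, some 5]]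

/-- check of the images -/
noncomputable def chkJ (w : List Suz.Gen) (j : Fin 6 → List (Option (Fin 6))) (i : Fin 6) : Bool :=
  checkEq 11 (wd w ++ qn (ix i)) (qpn ((j i).map (Option.map ix)) ++ wd w)

theorem conj_x {w : List Suz.Gen} {j : Fin 6 → List (Option (Fin 6))} (hw : el w ∈ C1) {i : Fin 6}
    (h : chkJ w j i = true) : (⟨el w, hw⟩ : H) * xH i * (⟨el w, hw⟩ : H)⁻¹ = ne zH xH (nfl (j i)) := by
  rw [← qpH_eq, mul_inv_eq_iff_eq_mul]
  apply Subtype.ext
  show el w * Cfsg.Agent.SuzThree.QZero.q (ix i) = (qpH (j i) : Suz) * el w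
  rw [coe_qpH]
  exact eq_of_reps ((Rep.el w).mul (rep_q _)) ((rep_qp _).mul (Rep.el w)) h

/-- the five generators -/
noncomputable def g0 : H := ⟨el [.d], d_mem⟩
/-- the five generators -/
noncomputable def g1 : H := ⟨el [.e], e_mem⟩
/-- the five generators -/
noncomputable def g2 : H := ⟨el h1, h1_mem⟩
/-- the five generators -/
noncomputable def g3 : H := ⟨el h2, h2_mem⟩
/-- the five generators -/
noncomputable def g4 : H := ⟨el h3, h3_mem⟩

theorem conj0 (i : Fin 6) : g0 * xH i * g0⁻¹ = ne zH xH (nfl (j0 i)) := by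
  fin_cases i <;> exact conj_x d_mem (by decide +kernel)
theorem conj1 (i : Fin 6) : g1 * xH i * g1⁻¹ = ne zH xH (nfl (j1 i)) := by
  fin_cases i <;> exact conj_x e_mem (by decide +kernel)
theorem conj2 (i : Fin 6) : g2 * xH i * g2⁻¹ = ne zH xH (nfl (j2 i)) := by
  fin_cases i <;> exact conj_x h1_mem (by decide +kernel)
theorem conj3 (i : Fin 6) : g3 * xH i * g3⁻¹ = ne zH xH (nfl (j3 i)) := by
  fin_cases i <;> exact conj_x h2_mem (by decide +kernel)
theorem conj4 (i : Fin 6) : g4 * xH i * g4⁻¹ = ne zH xH (nfl (j4 i)) := by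
  fin_cases i <;> exact conj_x h3_mem (by decide +kernel)

end Cfsg.Agent.SuzClosing.Inst
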