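import Cfsg.Agent.SuzClosing.Base

/-!
# Closing argument, the normalizer of the extraspecial group
-/

set_option autoImplicit false
set_option linter.unusedSectionVars false
set_option linter.style.haveILetI false

namespace Cfsg.Agent.SuzClosing

open Subgroup Cfsg.Agent.StdLThreeFour.Syl

variable {V : Type*} [AddCommGroup V] [Module (ZMod 2) V] {H : Type*} [Group H] {C : Type*} [Group C] [Finite C]

/-- a Sylow subgroup of the preimage of `Q` -/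
structure Hat {M : Subgroup C} (π : M →* H) (Q : Subgroup H) (Qh : Subgroup C) : Prop where
  syl : IsSyl Qh (KK π Q)
  srj : ∀ y ∈ Q, ∃ x ∈ Qh, pr π x = y

namespace Hyp

variable {q : V → ZMod 2} {B : LinearMap.BilinForm (ZMod 2) V} {ζ : H} {Q : Subgroup H} {vec : H → V}
  {M : Subgroup C} {π : M →* H} {z : C} (h : Hyp q B ζ Q vec M π z)
include h

theorem exists_hat : ∃ Qh : Subgroup C, Hat π Q Qh := by
  obtain ⟨P, -, hPM, hP2, hPQ, hPs⟩ := pr_lift h.surj (bot_le : ⊥ ≤ M) IsPGroup.of_bot h.Q_two (by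
    intro x hx
    rw [mem_bot.1 hx, pr_one]
    exact Q.one_mem)
  refine ⟨P, ⟨fun x hx => mem_KK.2 ⟨hPM hx, hPQ x hx⟩, hP2, ?_⟩, hPs⟩
  intro R hR hR2 hPR
  apply le_antisymm _ hPR
  intro x hx
  obtain ⟨y, hy, hxy⟩ := hPs _ (mem_KK.1 (hR hx)).2
  have : y = x := pr_inj2 h.odd hR2 (fun t ht => h.KM (hR ht)) (hPR hy) hx hxy
  rwa [← this]

variable {Qh : Subgroup C} (k : Hat π Q Qh)
include k

theorem hK {x : C} (hx : x ∈ Qh) : x ∈ KK π Q := k.syl.1 hx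

theorem hM {x : C} (hx : x ∈ Qh) : x ∈ M := h.KM (h.hK k hx)

theorem hprQ {x : C} (hx : x ∈ Qh) : pr π x ∈ Q := (mem_KK.1 (h.hK k hx)).2

theorem inj {x y : C} (hx : x ∈ Qh) (hy : y ∈ Qh) (hxy : pr π x = pr π y) : x = y :=
  pr_inj2 h.odd k.syl.2.1 (fun _ ht => h.hM k ht) hx hy hxy

theorem zh : z ∈ Qh := by
  have h1 : IsPGroup 2 (zpowers z ⊔ Qh : Subgroup C) := by
    refine two_sup k.syl.2.1 (n := 1) (by rw [pow_one, pow_two]; exact h.zz) (norm_fin ?_)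
    intro x hx
    rw [← h.zc]
    have e : x * z * z⁻¹ = x := by group
    rwa [e]
  have h2 : zpowers z ⊔ Qh ≤ KK π Q := by
    rw [sup_le_iff, zpowers_le]
    exact ⟨h.zK, k.syl.1⟩
  have h3 := k.syl.2.2 _ h2 h1 le_sup_right
  rw [← h3]
  exact (le_sup_left : zpowers z ≤ _) (mem_zpowers z)

theorem hsq {x : C} (hx : x ∈ Qh) : x * x = 1 ∨ x * x = z := by
  rcases h.loc.sq_mem (h.hprQ k hx) with h3 | h3
  · left
    apply h.inj k (Subgroup.mul_mem _ hx hx) (Subgroup.one_mem _)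
    rw [pr_mul (h.hM k hx) (h.hM k hx), h3, pr_one]
  · right
    apply h.inj k (Subgroup.mul_mem _ hx hx) (h.zh k)
    rw [pr_mul (h.hM k hx) (h.hM k hx), h3, h.pz]

theorem veq' {x y : C} (hx : x ∈ Qh) (hy : y ∈ Qh) (hxy : vec (pr π x) = vec (pr π y)) : x = y ∨ x = z * y := by
  rcases h.loc.veq (h.hprQ k hx) (h.hprQ k hy) hxy with h1 | h1
  · left; exact h.inj k hx hy h1
  · right
    apply h.inj k hx (Qh.mul_mem (h.zh k) hy)
    rw [pr_mul h.zM (h.hM k hy), h.pz, h1]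

theorem vec_mul' {x y : C} (hx : x ∈ Qh) (hy : y ∈ Qh) :
    vec (pr π (x * y)) = vec (pr π x) + vec (pr π y) := by
  rw [pr_mul (h.hM k hx) (h.hM k hy)]
  exact h.loc.vmul _ (h.hprQ k hx) _ (h.hprQ k hy)

theorem vec_z {x : C} (hx : x ∈ Qh) : vec (pr π (z * x)) = vec (pr π x) := by
  rw [h.vec_mul' k (h.zh k) hx, h.pz, h.loc.vz, zero_add]

theorem hcomm {x y : C} (hx : x ∈ Qh) (hy : y ∈ Qh) : x * y * x⁻¹ = y ∨ x * y * x⁻¹ = z * y := by
  apply h.veq' k (Qh.mul_mem (Qh.mul_mem hx hy) (Qh.inv_mem hx)) hy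
  rw [pr_conj (h.hM k hx) (h.hM k hy)]
  exact h.loc.vcomm (h.hprQ k hx) (h.hprQ k hy)

theorem hsrj (v : V) : ∃ x ∈ Qh, vec (pr π x) = v := by
  obtain ⟨y, hy, rfl⟩ := h.loc.vsurj v
  obtain ⟨x, hx, rfl⟩ := k.srj y hy
  exact ⟨x, hx, rfl⟩

/-- a 2-subgroup of `M` containing `Qh` normalizes `Qh` -/
theorem norm_of_two {P : Subgroup C} (hP : IsPGroup 2 P) (hPM : P ≤ M) (hle : Qh ≤ P) {p : C} (hp : p ∈ P) :
    ∀ x ∈ Qh, p * x * p⁻¹ ∈ Qh := by
  intro x hx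
  have h1 : P ⊓ KK π Q = Qh := k.syl.2.2 _ inf_le_right (hP.to_le inf_le_left) (le_inf hle k.syl.1)
  rw [← h1]
  exact ⟨P.mul_mem (P.mul_mem hp (hle hx)) (P.inv_mem hp), h.K_conj (hPM hp) (h.hK k hx)⟩

theorem mem_of_two {P : Subgroup C} (hP : IsPGroup 2 P) (hle : Qh ≤ P) {p : C} (hp : p ∈ P)
    (hpK : p ∈ KK π Q) : p ∈ Qh := by
  have h1 : P ⊓ KK π Q = Qh := k.syl.2.2 _ inf_le_right (hP.to_le inf_le_left) (le_inf hle k.syl.1)
  rw [← h1]
  exact ⟨hp, hpK⟩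

/-- lift of good elements to a 2-group containing `Qh` -/
theorem lift_b {P₁ : Subgroup H} (hP₁ : IsPGroup 2 P₁) (hQ : Q ≤ P₁) :
    ∃ P : Subgroup C, Qh ≤ P ∧ P ≤ M ∧ IsPGroup 2 P ∧ ∀ y ∈ P₁, ∃ x ∈ P, pr π x = y := by
  obtain ⟨P, h1, h2, h3, -, h4⟩ := pr_lift h.surj (fun _ hx => h.hM k hx) k.syl.2.1 hP₁
    (fun x hx => hQ (h.hprQ k hx))
  exact ⟨P, h1, h2, h3, h4⟩

omit k in
theorem two_QQ {b : H} (hb : b * b = 1) : IsPGroup 2 (zpowers b ⊔ Q : Subgroup H) := by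
  refine two_sup h.Q_two (n := 1) (by rw [pow_one, pow_two]; exact hb) (norm_of_sq ?_ (h.loc.norm b))
  rw [hb]; exact Q.one_mem

/-- lift of one good element -/
theorem lift_one {b₁ : H} (hB : IsB q B Q vec b₁) :
    ∃ b ∈ M, b * b = 1 ∧ pr π b = b₁ ∧ ∀ x ∈ Qh, b * x * b⁻¹ ∈ Qh := by
  obtain ⟨P, hle, hPM, hP2, hs⟩ := h.lift_b k (h.two_QQ hB.1) le_sup_right
  obtain ⟨b, hb, hb1⟩ := hs b₁ ((le_sup_left : zpowers b₁ ≤ _) (mem_zpowers _))
  exact ⟨b, hPM hb, h.sq_one hP2 hPM hb (by rw [hb1]; exact hB.1), hb1, h.norm_of_two k hP2 hPM hle hb⟩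

/-- the elements of `N(Qh)` acting trivially on `V` -/
theorem nq1 {y : C} (hy : ∀ x ∈ Qh, y * x * y⁻¹ = x ∨ y * x * y⁻¹ = z * x) : y ∈ M := by
  obtain ⟨r₁, s₁, hr₁, hs₁, hrs₁, hc₁⟩ := h.loc.four
  haveI : Finite H := Finite.of_surjective π h.surj
  have hs₁Q : s₁ ∈ zpowers s₁ ⊔ Q := (le_sup_left : zpowers s₁ ≤ _) (mem_zpowers _)
  have hP₁ : IsPGroup 2 (zpowers r₁ ⊔ (zpowers s₁ ⊔ Q) : Subgroup H) := by
    refine two_sup (h.two_QQ hs₁.1) (n := 1) (by rw [pow_one, pow_two]; exact hr₁.1) (norm_fin ?_)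
    apply conj_sup
    · apply conj_zpowers
      rw [hc₁]
      have e : s₁ * r₁ * r₁⁻¹ = s₁ := by group
      rw [e]
      exact hs₁Q
    · intro x hx
      exact (le_sup_right : Q ≤ _) (h.loc.norm _ _ hx)
  obtain ⟨P, hle, hPM, hP2, hs⟩ := h.lift_b k hP₁ (le_sup_of_le_right le_sup_right)
  obtain ⟨r, hr, hr1⟩ := hs r₁ ((le_sup_left : zpowers r₁ ≤ _) (mem_zpowers _))
  obtain ⟨s, hs', hs1⟩ := hs s₁ ((le_sup_right : zpowers s₁ ⊔ Q ≤ _) hs₁Q)
  have hrM := hPM hr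
  have hsM := hPM hs'
  have hrr : r * r = 1 := h.sq_one hP2 hPM hr (by rw [hr1]; exact hr₁.1)
  have hss : s * s = 1 := h.sq_one hP2 hPM hs' (by rw [hs1]; exact hs₁.1)
  have hrs : r * s = s * r := by
    apply pr_inj2 h.odd hP2 hPM (P.mul_mem hr hs') (P.mul_mem hs' hr)
    rw [pr_mul hrM hsM, pr_mul hsM hrM, hr1, hs1, hc₁]
  have hr' : r⁻¹ = r := inv_eq_of_mul_eq_one_left hrr
  have hs'' : s⁻¹ = s := inv_eq_of_mul_eq_one_left hss
  have hrn := h.norm_of_two k hP2 hPM hle hr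
  have hsn := h.norm_of_two k hP2 hPM hle hs'
  -- the group `Y`
  let Y : Subgroup C :=
    { carrier := {c | ∀ x ∈ Qh, c * x * c⁻¹ = x ∨ c * x * c⁻¹ = z * x}
      one_mem' := by intro x hx; left; group
      mul_mem' := by
        intro c d hc hd x hx
        have e : c * d * x * (c * d)⁻¹ = c * (d * x * d⁻¹) * c⁻¹ := by group
        rw [e]
        rcases hd x hx with hd | hd
        · rw [hd]; exact hc x hx
        · rw [hd, h.zcj]
          rcases hc x hx with hc | hc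
          · right; rw [hc]
          · left; rw [hc, ← mul_assoc, h.zz, one_mul]
      inv_mem' := by
        intro c hc x hx
        rcases hc x hx with hc | hc
        · left
          conv_lhs => rw [← hc]
          group
        · right
          have h3 : x = z * (c * x * c⁻¹) := by rw [hc, ← mul_assoc, h.zz, one_mul]
          conv_lhs => rw [h3, h.zcj]
          group }
  have hY : ∀ {c : C}, c ∈ Y ↔ ∀ x ∈ Qh, c * x * c⁻¹ = x ∨ c * x * c⁻¹ = z * x := Iff.rfl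
  have hyY : y ∈ Y := hy
  have hYN : Y ≤ normalizer (Qh : Set C) := by
    intro c hc
    apply norm_fin
    intro x hx
    rcases hc x hx with h1 | h1
    · rw [h1]; exact hx
    · rw [h1]; exact Qh.mul_mem (h.zh k) hx
  have hnY : ∀ g ∈ normalizer (Qh : Set C), ∀ c ∈ Y, g * c * g⁻¹ ∈ Y := by
    intro g hg c hc x hx
    have hx' : g⁻¹ * x * g⁻¹⁻¹ ∈ Qh := norm_conj ((normalizer (Qh : Set C)).inv_mem hg) hx
    have e : g * c * g⁻¹ * x * (g * c * g⁻¹)⁻¹ = g * (c * (g⁻¹ * x * g⁻¹⁻¹) * c⁻¹) * g⁻¹ := by group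
    rw [e]
    rcases hc _ hx' with h1 | h1
    · left; rw [h1]; group
    · right; rw [h1, h.zcj]; group
  have hrN : r ∈ normalizer (Qh : Set C) := norm_fin hrn
  have hsN : s ∈ normalizer (Qh : Set C) := norm_fin hsn
  -- the element `t`
  obtain ⟨w, hw⟩ : ∃ w, w = y⁻¹ * s * y := ⟨_, rfl⟩
  have hww : w * w = 1 := by
    rw [hw]
    calc y⁻¹ * s * y * (y⁻¹ * s * y) = y⁻¹ * (s * s) * y := by group
      _ = 1 := by rw [hss]; group
  have hw' : w⁻¹ = w := inv_eq_of_mul_eq_one_left hww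
  have hwN : w ∈ normalizer (Qh : Set C) := by
    rw [hw]
    exact Subgroup.mul_mem _ (Subgroup.mul_mem _ (Subgroup.inv_mem _ (hYN hyY)) hsN) (hYN hyY)
  obtain ⟨t, ht⟩ : ∃ t, t = r * w := ⟨_, rfl⟩
  have htN : t ∈ normalizer (Qh : Set C) := by rw [ht]; exact Subgroup.mul_mem _ hrN hwN
  obtain ⟨y₀, hy₀, hty⟩ : ∃ y₀ ∈ Y, t = r * s * y₀ := by
    refine ⟨s⁻¹ * y⁻¹ * s⁻¹⁻¹ * y, Y.mul_mem (hnY _ (Subgroup.inv_mem _ hsN) _ (Y.inv_mem hyY)) hyY, ?_⟩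
    rw [ht, hw]
    group
  have htt : t * t ∈ Y := by
    have e : t * t = (r * s) * y₀ * (r * s)⁻¹ * ((r * s) * (r * s)) * y₀ := by rw [hty]; group
    have e2 : r * s * (r * s) = 1 := by
      calc r * s * (r * s) = r * (s * r) * s := by group
        _ = r * (r * s) * s := by rw [hrs]
        _ = (r * r) * (s * s) := by group
        _ = 1 := by rw [hrr, hss, one_mul]
    rw [e, e2, mul_one]
    exact Y.mul_mem (hnY _ (Subgroup.mul_mem _ hrN hsN) _ hy₀) hy₀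
  have hrt : r * t * r⁻¹ = t⁻¹ := by
    rw [ht, mul_inv_rev, hw', hr']
    calc r * (r * w) * r = (r * r) * (w * r) := by group
      _ = w * r := by rw [hrr, one_mul]
  have hwt : w * t * w⁻¹ = t⁻¹ := by
    rw [ht, mul_inv_rev, hw', hr']
    calc w * (r * w) * w = w * r * (w * w) := by group
      _ = w * r := by rw [hww, mul_one]
  obtain ⟨a, m, hm, hn⟩ : ∃ a m, Odd m ∧ orderOf t = 2 ^ a * m := by
    obtain ⟨a, m, h1, h2⟩ := Nat.exists_eq_two_pow_mul_odd (orderOf_pos t).ne'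
    exact ⟨a, m, h1, h2⟩
  obtain ⟨j, rfl⟩ := hm
  obtain ⟨t', ht'⟩ : ∃ t', t' = t ^ (2 * j + 1) := ⟨_, rfl⟩
  have ht'2 : t' ^ 2 ^ a = 1 := by
    rw [ht', ← pow_mul, mul_comm, ← hn, pow_orderOf_eq_one]
  have ht'N : t' ∈ normalizer (Qh : Set C) := by rw [ht']; exact Subgroup.pow_mem _ htN _
  have hrt' : r * t' * r⁻¹ = t'⁻¹ := by rw [ht', ← inv_pow, ← hrt, conj_pow]
  have hwt' : w * t' * w⁻¹ = t'⁻¹ := by rw [ht', ← inv_pow, ← hwt, conj_pow]
  obtain ⟨y₁, hy₁, hty₁⟩ : ∃ y₁ ∈ Y, t' = r * s * y₁ := by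
    refine ⟨y₀ * (t * t) ^ j, Y.mul_mem hy₀ (Y.pow_mem htt _), ?_⟩
    rw [ht', pow_succ', pow_mul, pow_two]
    conv_lhs => rw [show t * (t * t) ^ j = (r * s * y₀) * (t * t) ^ j by rw [← hty]]
    group
  have hT2 : IsPGroup 2 (zpowers t' ⊔ Qh : Subgroup C) := two_sup k.syl.2.1 ht'2 ht'N
  have hmt : t' ∈ zpowers t' ⊔ Qh := (le_sup_left : zpowers t' ≤ _) (mem_zpowers _)
  have hR : ∀ u : C, u * u = 1 → u ∈ normalizer (Qh : Set C) → u * t' * u⁻¹ = t'⁻¹ →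
      IsPGroup 2 (zpowers u ⊔ (zpowers t' ⊔ Qh) : Subgroup C) := by
    intro u huu huN hut
    refine two_sup hT2 (n := 1) (by rw [pow_one, pow_two]; exact huu) (norm_fin ?_)
    apply conj_sup
    · apply conj_zpowers
      rw [hut]
      exact Subgroup.inv_mem _ hmt
    · intro x hx
      exact (le_sup_right : Qh ≤ _) (norm_conj huN hx)
  have h1 := hR r hrr hrN hrt'
  have h2 : (zpowers r ⊔ (zpowers t' ⊔ Qh) : Subgroup C) ≤ M :=
    h.two_le h1 ((le_sup_left : zpowers r ≤ _) (mem_zpowers _)) hrM hrr (by rw [hr1]; exact hr₁)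
  have h3 : zpowers t' ⊔ Qh ≤ M := le_trans le_sup_right h2
  have ht'M : t' ∈ M := h3 hmt
  have hy₁M : y₁ ∈ M := by
    have := M.mul_mem (M.inv_mem (M.mul_mem hrM hsM)) ht'M
    rw [hty₁] at this
    rwa [inv_mul_cancel_left] at this
  have hy₁Q : pr π y₁ ∈ Q := by
    apply h.loc.cent
    intro X hX
    obtain ⟨x, hx, rfl⟩ := k.srj X hX
    rw [← pr_conj hy₁M (h.hM k hx)]
    rcases hy₁ x hx with h4 | h4
    · rw [h4]
    · rw [h4, h.vec_z k hx]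
  obtain ⟨x₁, hx₁, hxy₁⟩ := k.srj _ hy₁Q
  obtain ⟨b', hb'⟩ : ∃ b', b' = t' * x₁⁻¹ := ⟨_, rfl⟩
  have hb'm : b' ∈ zpowers t' ⊔ Qh := by
    rw [hb']
    exact Subgroup.mul_mem _ hmt (Subgroup.inv_mem _ ((le_sup_right : Qh ≤ _) hx₁))
  have hb'1 : pr π b' = r₁ * s₁ := by
    rw [hb', pr_mul ht'M (M.inv_mem (h.hM k hx₁)), pr_inv (h.hM k hx₁), hxy₁, hty₁,
      pr_mul (M.mul_mem hrM hsM) hy₁M, pr_mul hrM hsM, hr1, hs1]
    group
  have hb'b : b' * b' = 1 := h.sq_one hT2 h3 hb'm (by rw [hb'1]; exact hrs₁.1)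
  have h4 := hR w hww hwN hwt'
  have h5 : (zpowers w ⊔ (zpowers t' ⊔ Qh) : Subgroup C) ≤ M :=
    h.two_le h4 ((le_sup_right : zpowers t' ⊔ Qh ≤ _) hb'm) (h3 hb'm) hb'b (by rw [hb'1]; exact hrs₁)
  have hwM : w ∈ M := h5 ((le_sup_left : zpowers w ≤ _) (mem_zpowers _))
  have h6 : y⁻¹ ∈ M := by
    apply h.good s hsM hss (by rw [hs1]; exact hs₁)
    rw [inv_inv, ← hw]
    exact hwM
  simpa using M.inv_mem h6

/-- **(NQ)** the normalizer of `Qh` is contained in `M` -/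
theorem nq {g : C} (hg : ∀ x ∈ Qh, g * x * g⁻¹ ∈ Qh) : g ∈ M := by
  have hgN : g ∈ normalizer (Qh : Set C) := norm_fin hg
  obtain ⟨r₁, -, hr₁, -⟩ := h.loc.four
  obtain ⟨b, hbM, hbb, hb1, hbn⟩ := h.lift_one k hr₁
  obtain ⟨-, v, w, hp, ha⟩ := hr₁
  have hbN : b ∈ normalizer (Qh : Set C) := norm_fin hbn
  -- the action of `g` on `V`
  have hvg : ∀ x ∈ Qh, ∀ y ∈ Qh, vec (pr π x) = vec (pr π y) →
      vec (pr π (g * x * g⁻¹)) = vec (pr π (g * y * g⁻¹)) := by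
    intro x hx y hy hxy
    rcases h.veq' k hx hy hxy with h1 | h1
    · rw [h1]
    · rw [h1, h.zcj, h.vec_z k (hg y hy)]
  choose sec hsec hvsec using h.hsrj k
  obtain ⟨σ, hσ⟩ : ∃ σ : V → V, ∀ x ∈ Qh, σ (vec (pr π x)) = vec (pr π (g * x * g⁻¹)) := by
    refine ⟨fun v => vec (pr π (g * sec v * g⁻¹)), fun x hx => ?_⟩
    exact hvg _ (hsec _) _ hx (hvsec _)
  have hσadd : ∀ a c, σ (a + c) = σ a + σ c := by
    intro a c
    rw [← hvsec a, ← hvsec c, ← h.vec_mul' k (hsec a) (hsec c), hσ _ (hsec a), hσ _ (hsec c),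
      hσ _ (Qh.mul_mem (hsec a) (hsec c)), ← h.vec_mul' k (hg _ (hsec a)) (hg _ (hsec c))]
    congr 2
    group
  have hσ0 : σ 0 = 0 := by
    have := hσadd 0 0
    rw [add_zero] at this
    exact left_eq_add.1 this
  have hqsq : ∀ x ∈ Qh, (q (vec (pr π x)) = 0 ↔ x * x = 1) := by
    intro x hx
    rw [h.loc.q_vec (h.hprQ k hx), ← pr_mul (h.hM k hx) (h.hM k hx)]
    constructor
    · intro h1
      exact h.inj k (Qh.mul_mem hx hx) Qh.one_mem (by rw [h1, pr_one])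
    · intro h1
      rw [h1, pr_one]
  have hσq : ∀ a, q (σ a) = q a := by
    intro a
    have key : q (σ a) = 0 ↔ q a = 0 := by
      rw [← hvsec a, hσ _ (hsec a), hqsq _ (hg _ (hsec a)), hqsq _ (hsec a)]
      constructor
      · intro h1
        have e : sec a * sec a = g⁻¹ * (g * sec a * g⁻¹ * (g * sec a * g⁻¹)) * g := by group
        rw [e, h1]; group
      · intro h1
        have e : g * sec a * g⁻¹ * (g * sec a * g⁻¹) = g * (sec a * sec a) * g⁻¹ := by group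
        rw [e, h1]; group
    rcases two_cases (q a) with h1 | h1
    · rw [h1]; exact key.2 h1
    · rcases two_cases (q (σ a)) with h2 | h2
      · rw [key.1 h2] at h1
        exact absurd h1 (by decide)
      · rw [h1, h2]
  have hσB : ∀ a c, B (σ a) (σ c) = B a c := by
    intro a c
    have h1 := h.qf.qadd (σ a) (σ c)
    rw [← hσadd, hσq, hσq, hσq, h.qf.qadd] at h1
    exact (add_left_cancel h1).symm
  have hσs : ∀ (c : ZMod 2) a, σ (c • a) = c • σ a := by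
    intro c a
    rcases two_cases c with rfl | rfl
    · rw [zero_smul, zero_smul, hσ0]
    · rw [one_smul, one_smul]
  have hσinj : ∀ a c, σ a = σ c → a = c := by
    intro a c hac
    apply eq_of_add_eq_zero'
    apply h.qf.nondeg
    intro d
    rw [← hσB, hσadd, hac, add_self', map_zero, LinearMap.zero_apply]
  have hp' : Pair q B (σ v) (σ w) :=
    ⟨by rw [hσq, hp.qv], by rw [hσq, hp.qw], by rw [hσB, hp.vw], fun h1 => hp.ne (hσinj _ _ h1)⟩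
  obtain ⟨b₂, hb₂, ha₂⟩ := h.loc.lift _ _ hp'
  obtain ⟨c, hcM, hcc, hc1, hcn⟩ := h.lift_one k ⟨hb₂, _, _, hp', ha₂⟩
  have hcN : c ∈ normalizer (Qh : Set C) := norm_fin hcn
  -- action of `g b g⁻¹`
  have key : ∀ x ∈ Qh, vec (pr π (g * b * g⁻¹ * x * (g * b * g⁻¹)⁻¹)) = vec (pr π (c * x * c⁻¹)) := by
    intro x hx
    have hu : g⁻¹ * x * g⁻¹⁻¹ ∈ Qh := norm_conj (Subgroup.inv_mem _ hgN) hx
    obtain ⟨u, hu'⟩ : ∃ u, u = g⁻¹ * x * g⁻¹⁻¹ := ⟨_, rfl⟩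
    rw [← hu'] at hu
    have hxu : x = g * u * g⁻¹ := by rw [hu']; group
    have e : g * b * g⁻¹ * x * (g * b * g⁻¹)⁻¹ = g * (b * u * b⁻¹) * g⁻¹ := by rw [hxu]; group
    rw [e, ← hσ _ (hbn u hu), pr_conj hbM (h.hM k hu), hb1, ha _ (h.hprQ k hu), hσadd, hσadd, hσs, hσs,
      ← hσB v, ← hσB w, hσ _ hu, ← hxu, pr_conj hcM (h.hM k hx), hc1, ha₂ _ (h.hprQ k hx)]
  have h1 : c⁻¹ * (g * b * g⁻¹) ∈ M := by
    apply h.nq1 k
    intro x hx
    have hgbN : g * b * g⁻¹ ∈ normalizer (Qh : Set C) :=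
      Subgroup.mul_mem _ (Subgroup.mul_mem _ hgN hbN) (Subgroup.inv_mem _ hgN)
    have h2 := h.veq' k (norm_conj hgbN hx) (norm_conj hcN hx) (key x hx)
    have e : c⁻¹ * (g * b * g⁻¹) * x * (c⁻¹ * (g * b * g⁻¹))⁻¹
        = c⁻¹ * (g * b * g⁻¹ * x * (g * b * g⁻¹)⁻¹) * c⁻¹⁻¹ := by group
    rw [e]
    rcases h2 with h2 | h2
    · left; rw [h2]; group
    · right; rw [h2, h.zcj]; group
  have h2 : g * b * g⁻¹ ∈ M := by
    have := M.mul_mem hcM h1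
    rwa [mul_inv_cancel_left] at this
  exact h.good b hbM hbb (by rw [hb1]; exact ⟨hb1 ▸ (by
    have := congrArg (pr π) hbb
    rwa [pr_mul hbM hbM, pr_one] at this), v, w, hp, ha⟩) g h2

end Hyp

end Cfsg.Agent.SuzClosing
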